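import Mathlib
import Cfsg.Prelude.Def_Local
import Cfsg.Prelude.Def_Involutions
import Cfsg.Agent.Involutions.NormalFour
set_option linter.all false

/-!
# ODD, D4: elementary lemmas

Sylow 2-subgroups of normal sections, central involutions, parity; everything elementwise.
-/

set_option autoImplicit false

namespace Cfsg.Agent.OddHalf.D4.Basic

open Subgroup

variable {G : Type*} [Group G]

/-- `T` is a Sylow 2-subgroup of `M`. -/
structure IsSyl (T M : Subgroup G) : Prop where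
  two : IsPGroup 2 ↥T
  le : T ≤ M
  max : ∀ Q : Subgroup G, IsPGroup 2 ↥Q → T ≤ Q → Q ≤ M → Q ≤ T

theorem IsSyl.toSylow {T M : Subgroup G} (h : IsSyl T M) : ∃ P : Sylow 2 ↥M, (P : Subgroup ↥M) = T.subgroupOf M := by
  have h2 : IsPGroup 2 ↥(T.subgroupOf M) := h.two.comap_subtype
  refine ⟨⟨T.subgroupOf M, h2, ?_⟩, rfl⟩
  intro Q hQ hle
  have h3 : IsPGroup 2 ↥(Q.map M.subtype) := hQ.map _
  have h4 : T ≤ Q.map M.subtype := by
    intro t ht
    exact ⟨⟨t, h.le ht⟩, hle (mem_subgroupOf.mpr ht), rfl⟩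
  have h5 := h.max _ h3 h4 (map_subtype_le Q)
  apply le_antisymm _ hle
  intro q hq
  rw [mem_subgroupOf]
  exact h5 ⟨q, hq, rfl⟩

theorem isSyl_of_sylow {M : Subgroup G} (P : Sylow 2 ↥M) : IsSyl ((P : Subgroup ↥M).map M.subtype) M := by
  refine ⟨P.2.map _, map_subtype_le _, ?_⟩
  intro Q hQ hle hQM
  have h2 : IsPGroup 2 ↥(Q.subgroupOf M) := hQ.comap_subtype
  have h3 : (P : Subgroup ↥M) ≤ Q.subgroupOf M := by
    intro p hp
    rw [mem_subgroupOf]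
    exact hle ⟨p, hp, rfl⟩
  have h4 := P.3 h2 h3
  intro q hq
  refine ⟨⟨q, hQM hq⟩, ?_, rfl⟩
  rw [← h4]
  exact mem_subgroupOf.mpr hq

theorem exists_isSyl [Finite G] {M Q : Subgroup G} (hQ : IsPGroup 2 ↥Q) (hQM : Q ≤ M) :
    ∃ T : Subgroup G, IsSyl T M ∧ Q ≤ T := by
  have h2 : IsPGroup 2 ↥(Q.subgroupOf M) := hQ.comap_subtype
  obtain ⟨P, hP⟩ := h2.exists_le_sylow
  refine ⟨_, isSyl_of_sylow P, ?_⟩
  intro q hq
  exact ⟨⟨q, hQM hq⟩, hP (mem_subgroupOf.mpr hq), rfl⟩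

theorem isPGroup_of_le {p : ℕ} {H K : Subgroup G} (hK : IsPGroup p ↥K) (h : H ≤ K) : IsPGroup p ↥H :=
  hK.to_le h

/-- A Sylow subgroup of `M` is one of every subgroup between. -/
theorem IsSyl.mono {T M N : Subgroup G} (h : IsSyl T M) (hT : T ≤ N) (hN : N ≤ M) : IsSyl T N :=
  ⟨h.two, hT, fun Q hQ hle hQN => h.max Q hQ hle (hQN.trans hN)⟩

/-- Conjugacy of Sylow 2-subgroups. -/
theorem IsSyl.conj_into [Finite G] {T M Q : Subgroup G} (h : IsSyl T M) (hQ : IsPGroup 2 ↥Q) (hQM : Q ≤ M) :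
    ∃ m ∈ M, ∀ q ∈ Q, m * q * m⁻¹ ∈ T := by
  obtain ⟨P, hP⟩ := h.toSylow
  have h2 : IsPGroup 2 ↥(Q.subgroupOf M) := hQ.comap_subtype
  obtain ⟨P', hP'⟩ := h2.exists_le_sylow
  have : Fact (Nat.Prime 2) := ⟨Nat.prime_two⟩
  obtain ⟨m, hm⟩ := MulAction.exists_smul_eq ↥M P' P
  refine ⟨m, m.2, ?_⟩
  intro q hq
  have h3 : (⟨q, hQM hq⟩ : ↥M) ∈ (P' : Subgroup ↥M) := hP' (mem_subgroupOf.mpr hq)
  have h4 : m * (⟨q, hQM hq⟩ : ↥M) * m⁻¹ ∈ (P : Subgroup ↥M) := by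
    rw [← hm]
    rw [Sylow.coe_subgroup_smul]
    exact ⟨_, h3, rfl⟩
  rw [hP, mem_subgroupOf] at h4
  exact h4

/-- If `T` is Sylow in `M` and normalizes `I ≤ M`, then a 2-subgroup of `I` is `I`-conjugate into `T`. -/
theorem IsSyl.conj_into_inf [Finite G] {T M I Q : Subgroup G} (h : IsSyl T M) (hI : I ≤ M)
    (hTI : T ≤ normalizer (I : Set G)) (hQ : IsPGroup 2 ↥Q) (hQI : Q ≤ I) :
    ∃ i ∈ I, ∀ q ∈ Q, i * q * i⁻¹ ∈ T ⊓ I := by
  have hN : IsSyl T (T ⊔ I) := h.mono le_sup_left (sup_le h.le hI)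
  obtain ⟨m, hm, hmq⟩ := hN.conj_into hQ (hQI.trans le_sup_right)
  have h1 : m ∈ ((T ⊔ I : Subgroup G) : Set G) := hm
  rw [coe_mul_of_left_le_normalizer_right T I hTI] at h1
  obtain ⟨t, ht, i, hi, rfl⟩ := h1
  refine ⟨i, hi, ?_⟩
  intro q hq
  refine ⟨?_, I.mul_mem (I.mul_mem hi (hQI hq)) (I.inv_mem hi)⟩
  have h2 := hmq q hq
  have h3 : i * q * i⁻¹ = t⁻¹ * (t * i * q * (t * i)⁻¹) * t := by group
  have h2' : t * i * q * (t * i)⁻¹ ∈ T := h2
  rw [h3]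
  exact T.mul_mem (T.mul_mem (T.inv_mem ht) h2') ht

/-- `T ∩ I` is Sylow in `I`. -/
theorem IsSyl.inf [Finite G] {T M I : Subgroup G} (h : IsSyl T M) (hI : I ≤ M)
    (hTI : T ≤ normalizer (I : Set G)) : IsSyl (T ⊓ I) I := by
  refine ⟨h.two.to_le inf_le_left, inf_le_right, ?_⟩
  intro Q hQ hle hQI
  obtain ⟨i, hi, hiq⟩ := h.conj_into_inf hI hTI hQ hQI
  -- cardinality
  have h1 : Nat.card ↥Q ≤ Nat.card ↥(T ⊓ I) := by
    have h2 : Q.map (MulAut.conj i).toMonoidHom ≤ T ⊓ I := by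
      rintro _ ⟨q, hq, rfl⟩
      exact hiq q hq
    have h3 : Nat.card ↥(Q.map (MulAut.conj i).toMonoidHom) = Nat.card ↥Q :=
      (Nat.card_congr (Q.equivMapOfInjective _ (MulAut.conj i).injective).toEquiv).symm
    rw [← h3]
    exact Subgroup.card_le_of_le h2
  exact (eq_of_le_of_card_ge hle h1).ge

theorem even_of_mem {H : Subgroup G} {u : G} (hu : orderOf u = 2) (huH : u ∈ H) :
    Even (Nat.card ↥H) := by
  have h1 : orderOf (⟨u, huH⟩ : H) ∣ Nat.card H := orderOf_dvd_natCard _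
  rw [Subgroup.orderOf_mk, hu] at h1
  exact even_iff_two_dvd.mpr h1

theorem exists_invol_of_even [Finite G] {H : Subgroup G} (h : Even (Nat.card ↥H)) :
    ∃ u ∈ H, orderOf u = 2 := by
  have : Fact (Nat.Prime 2) := ⟨Nat.prime_two⟩
  obtain ⟨u, hu⟩ := exists_prime_orderOf_dvd_card' (G := ↥H) 2 (even_iff_two_dvd.mp h)
  exact ⟨u, u.2, by rw [Subgroup.orderOf_coe, hu]⟩

theorem odd_of_forall [Finite G] {H : Subgroup G} (h : ∀ u ∈ H, orderOf u ≠ 2) : Odd (Nat.card ↥H) := by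
  rw [← Nat.not_even_iff_odd]
  intro h'
  obtain ⟨u, hu, hu2⟩ := exists_invol_of_even h'
  exact h u hu hu2

/-- A nontrivial 2-subgroup contains an involution. -/
theorem exists_invol_of_two [Finite G] {H : Subgroup G} (h2 : IsPGroup 2 ↥H) (h : H ≠ ⊥) :
    ∃ u ∈ H, orderOf u = 2 := by
  have : Fact (Nat.Prime 2) := ⟨Nat.prime_two⟩
  apply exists_invol_of_even
  have hnt : Nontrivial ↥H := (Subgroup.nontrivial_iff_ne_bot H).mpr h
  have h3 := h2.card_eq_or_dvd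
  rcases h3 with h3 | h3
  · exact absurd h3 (Finite.one_lt_card (α := ↥H)).ne'
  · exact even_iff_two_dvd.mpr h3

theorem orderOf_conj (g u : G) : orderOf (g * u * g⁻¹) = orderOf u :=
  orderOf_injective (MulAut.conj g).toMonoidHom (MulAut.conj g).injective u

/-- A nontrivial normal subgroup of a 2-group contains a central involution. -/
theorem exists_central_invol [Finite G] {T N : Subgroup G} (hT : IsPGroup 2 ↥T) (hNT : N ≤ T) (hN : N ≠ ⊥)
    (hnorm : ∀ t ∈ T, ∀ n ∈ N, t * n * t⁻¹ ∈ N) :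
    ∃ z ∈ N, orderOf z = 2 ∧ ∀ t ∈ T, t * z = z * t := by
  have : Fact (Nat.Prime 2) := ⟨Nat.prime_two⟩
  -- the subgroup `N ∩ Z(T)`
  have h1 : (N.subgroupOf T).Normal := by
    refine ⟨?_⟩
    intro n hn t
    rw [mem_subgroupOf] at hn ⊢
    exact hnorm t t.2 n hn
  have h2 : N.subgroupOf T ≠ ⊥ := by
    intro h
    apply hN
    rw [Subgroup.eq_bot_iff_forall]
    intro x hx
    have h3 : (⟨x, hNT hx⟩ : ↥T) ∈ N.subgroupOf T := mem_subgroupOf.mpr hx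
    rw [h, mem_bot] at h3
    exact congrArg Subtype.val h3
  obtain ⟨z, hz, hzc, hz2⟩ :=
    Cfsg.Agent.Involutions.NormalFour.exists_mem_center_of_normal hT (N.subgroupOf T) h2
  refine ⟨z, mem_subgroupOf.mp hz, by rw [Subgroup.orderOf_coe, hz2], ?_⟩
  intro t ht
  have h3 := (mem_center_iff.mp hzc) ⟨t, ht⟩
  exact congrArg Subtype.val h3

end Cfsg.Agent.OddHalf.D4.Basic
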