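import Mathlib
import Cfsg.Prelude.Def_Local
import Cfsg.Prelude.Def_Involutions
import Cfsg.Agent.J2Sylow.BalancedEnd
import Cfsg.Agent.OddHalf.D4.Basic
set_option linter.all false

/-!
# ODD, D4: two components whose normalizers have a common Sylow 2-subgroup

`A` is a standard component, `C(A)` has 2-rank at least 2. If the Sylow 2-subgroup `T` of `N(A)`
is a Sylow 2-subgroup of `N(B)` for another conjugate `B` of `A`, and `Z(T ∩ A)` has only one involution, then
`A ∩ N(B)` is strongly embedded in `A`.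
-/

set_option autoImplicit false

namespace Cfsg.Agent.OddHalf.D4

open Cfsg Subgroup Basic

variable {G : Type*} [Group G]

/-- The hypotheses on `A` and the Sylow 2-subgroup `T` of `N(A)`. -/
structure Dat (A T : Subgroup G) : Prop where
  syl : IsSyl T (normalizer (A : Set G))
  /-- `A` is simple -/
  simp : ∀ N : Subgroup G, N ≤ A → (∀ a ∈ A, ∀ n ∈ N, a * n * a⁻¹ ∈ N) → N = ⊥ ∨ N = A
  cen : ∀ x ∈ A, x ∈ centralizer (A : Set G) → x = 1
  te : ∀ k ∈ centralizer (A : Set G), orderOf k = 2 → centralizer ({k} : Set G) ≤ normalizer (A : Set G)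
  /-- `O(C(A)) = 1` -/
  core : ∀ N : Subgroup G, N ≤ centralizer (A : Set G) →
    (∀ k ∈ centralizer (A : Set G), ∀ n ∈ N, k * n * k⁻¹ ∈ N) → Odd (Nat.card ↥N) → N = ⊥
  /-- `m_2(C(A)) ≥ 2` -/
  rk : ∃ x ∈ T, x ∈ centralizer (A : Set G) ∧ ∃ y ∈ T, y ∈ centralizer (A : Set G) ∧
    orderOf x = 2 ∧ orderOf y = 2 ∧ x ≠ y ∧ x * y = y * x
  /-- (F0) -/
  bal : ∀ a ∈ A, orderOf a = 2 → ∀ I : Subgroup G, I ≤ A → (∀ i ∈ I, i * a = a * i) →
    (∀ x ∈ A, x * a = a * x → ∀ i ∈ I, x * i * x⁻¹ ∈ I) → Odd (Nat.card ↥I) → I = ⊥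
  /-- (F1) -/
  inner : ∀ y ∈ T, (∀ s ∈ T, s ∈ A → s * y = y * s) →
    ∃ k ∈ centralizer (A : Set G), ∃ s ∈ T, s ∈ A ∧ (∀ u ∈ T, u ∈ A → u * s = s * u) ∧ y = k * s
  /-- (F5) -/
  uniq : ∀ s ∈ T, s ∈ A → orderOf s = 2 → (∀ u ∈ T, u ∈ A → u * s = s * u) →
    ∀ s' ∈ T, s' ∈ A → orderOf s' = 2 → (∀ u ∈ T, u ∈ A → u * s' = s' * u) → s = s'

theorem conj_mem {A : Subgroup G} {t x : G} (ht : t ∈ normalizer (A : Set G)) (hx : x ∈ A) : t * x * t⁻¹ ∈ A :=
  (mem_normalizer_iff.mp ht x).mp hx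

theorem conj_self {H : Subgroup G} {t x : G} (ht : t ∈ H) (hx : x ∈ H) : t * x * t⁻¹ ∈ H :=
  H.mul_mem (H.mul_mem ht hx) (H.inv_mem ht)

theorem normalizer_le_centralizer_normalizer {A : Subgroup G} {t x : G} (ht : t ∈ normalizer (A : Set G))
    (hx : x ∈ centralizer (A : Set G)) : t * x * t⁻¹ ∈ centralizer (A : Set G) := by
  rw [mem_centralizer_iff] at hx ⊢
  intro a ha
  have h1 : t⁻¹ * a * t ∈ A := by
    have h2 := conj_mem (inv_mem ht) ha
    rwa [inv_inv] at h2
  have h2 := hx _ h1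
  calc a * (t * x * t⁻¹) = t * ((t⁻¹ * a * t) * x) * t⁻¹ := by group
    _ = t * (x * (t⁻¹ * a * t)) * t⁻¹ := by rw [h2]
    _ = t * x * t⁻¹ * a := by group

theorem comm_of_centralizer {A : Subgroup G} {k a : G} (hk : k ∈ centralizer (A : Set G)) (ha : a ∈ A) :
    a * k = k * a := mem_centralizer_iff.mp hk a ha

theorem centralizer_le_normalizer' (A : Subgroup G) : centralizer (A : Set G) ≤ normalizer (A : Set G) := by
  intro k hk
  rw [mem_normalizer_iff]
  intro x
  have key : ∀ y ∈ A, k * y * k⁻¹ = y := by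
    intro y hy
    rw [← comm_of_centralizer hk hy]
    group
  constructor
  · intro hx
    rw [key x hx]; exact hx
  · intro hx
    have h2 : k⁻¹ * (k * x * k⁻¹) * (k⁻¹)⁻¹ = k * x * k⁻¹ := by
      have hk' := inv_mem hk
      rw [← comm_of_centralizer hk' hx]
      group
    have h3 : x = k * x * k⁻¹ := by
      rw [← h2]; group
    rw [h3]; exact hx

theorem sq_one {x : G} (h : orderOf x = 2) : x * x = 1 := by
  rw [← pow_two, ← h]; exact pow_orderOf_eq_one x

theorem orderOf_two_of {x : G} (h : x * x = 1) (h1 : x ≠ 1) : orderOf x = 2 :=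
  orderOf_eq_prime (by rw [pow_two]; exact h) h1

/-- An involution `k s` with `k` in `C(A)` and `s` in `A`: both squares are trivial. -/
theorem Dat.split_sq {A T : Subgroup G} (h : Dat A T) {k s : G} (hk : k ∈ centralizer (A : Set G)) (hs : s ∈ A)
    (hy : (k * s) * (k * s) = 1) : k * k = 1 ∧ s * s = 1 := by
  have h1 : s * k = k * s := comm_of_centralizer hk hs
  have h2 : (k * k) * (s * s) = 1 := by
    calc (k * k) * (s * s) = k * (k * s) * s := by group
      _ = k * (s * k) * s := by rw [h1]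
      _ = (k * s) * (k * s) := by group
      _ = 1 := hy
  have h3 : k * k = (s * s)⁻¹ := eq_inv_of_mul_eq_one_left h2
  have h4 : k * k = 1 := h.cen _ (by rw [h3]; exact A.inv_mem (A.mul_mem hs hs))
    (mul_mem hk hk)
  refine ⟨h4, ?_⟩
  rw [h4, one_mul] at h2
  exact h2

section Pair

variable [Finite G] {A B T : Subgroup G}

/-- The two centralizers have no common involution. -/
def NoComm (A B : Subgroup G) : Prop :=
  ∀ k ∈ centralizer (A : Set G), k ∈ centralizer (B : Set G) → orderOf k ≠ 2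

omit [Finite G] in
theorem NoComm.symm (h : NoComm A B) : NoComm B A := fun k hk hk' => h k hk' hk

/-- (1): the central involution of `T ∩ A` centralizes `B` and is central in `T`. -/
theorem step_one (hA : Dat A T) (hB : Dat B T) (hn : NoComm A B) :
    ∃ z ∈ T, z ∈ A ∧ z ∈ centralizer (B : Set G) ∧ orderOf z = 2 ∧ ∀ t ∈ T, t * z = z * t := by
  -- the subgroup `R' = T ∩ C(B)`
  by_cases hc : ∀ y ∈ T, y ∈ centralizer (B : Set G) → ∀ s ∈ T, s ∈ A → s * y = y * s
  · exfalso
    obtain ⟨x, hxT, hxB, y, hyT, hyB, hx2, hy2, hxy, hxyc⟩ := hB.rk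
    obtain ⟨k, hk, s, hsT, hsA, hsc, rfl⟩ := hA.inner x hxT (hc x hxT hxB)
    obtain ⟨k', hk', s', hsT', hsA', hsc', rfl⟩ := hA.inner y hyT (hc y hyT hyB)
    obtain ⟨hkk, hss⟩ := hA.split_sq hk hsA (sq_one hx2)
    obtain ⟨hkk', hss'⟩ := hA.split_sq hk' hsA' (sq_one hy2)
    have hs1 : s ≠ 1 := by
      rintro rfl
      rw [mul_one] at hx2 hxB
      exact hn k hk hxB hx2
    have hs1' : s' ≠ 1 := by
      rintro rfl
      rw [mul_one] at hy2 hyB
      exact hn k' hk' hyB hy2
    have hss2 := hA.uniq s hsT hsA (orderOf_two_of hss hs1) hsc s' hsT' hsA' (orderOf_two_of hss' hs1') hsc'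
    subst hss2
    -- the product lies in both centralizers
    have hprod : (k * s) * (k' * s) = k * k' := by
      have h1 : s * k' = k' * s := comm_of_centralizer hk' hsA
      calc (k * s) * (k' * s) = k * (s * k') * s := by group
        _ = k * (k' * s) * s := by rw [h1]
        _ = k * k' * (s * s) := by group
        _ = k * k' := by rw [hss, mul_one]
    have h2 : (k * s) * (k' * s) ≠ 1 := by
      intro h
      apply hxy
      have h3 : (k' * s)⁻¹ = k' * s := by
        rw [inv_eq_iff_mul_eq_one]; exact sq_one hy2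
      rw [← h3]; exact eq_inv_of_mul_eq_one_left h
    have h3 : ((k * s) * (k' * s)) * ((k * s) * (k' * s)) = 1 := by
      calc ((k * s) * (k' * s)) * ((k * s) * (k' * s))
          = (k * s) * ((k' * s) * (k * s)) * (k' * s) := by group
        _ = (k * s) * ((k * s) * (k' * s)) * (k' * s) := by rw [hxyc]
        _ = ((k * s) * (k * s)) * ((k' * s) * (k' * s)) := by group
        _ = 1 := by rw [sq_one hx2, sq_one hy2, one_mul]
    refine hn ((k * s) * (k' * s)) ?_ (mul_mem hxB hyB) (orderOf_two_of h3 h2)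
    rw [hprod]; exact mul_mem hk hk'
  · push Not at hc
    obtain ⟨y, hyT, hyB, s, hsT, hsA, hne⟩ := hc
    -- `T ∩ C(B) ∩ A` is a nontrivial normal subgroup of `T`
    have hTA := hA.syl.le
    have hTB := hB.syl.le
    have hN : ∀ t ∈ T, ∀ n ∈ T ⊓ (centralizer (B : Set G) ⊓ A), t * n * t⁻¹ ∈ T ⊓ (centralizer (B : Set G) ⊓ A) := by
      rintro t ht n ⟨hn1, hn2, hn3⟩
      exact ⟨conj_self ht hn1, normalizer_le_centralizer_normalizer (hTB ht) hn2,
        conj_mem (hTA ht) hn3⟩
    have hne' : T ⊓ (centralizer (B : Set G) ⊓ A) ≠ ⊥ := by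
      intro h
      apply hne
      have h1 : s * y * s⁻¹ * y⁻¹ ∈ T ⊓ (centralizer (B : Set G) ⊓ A) := by
        refine ⟨T.mul_mem (conj_self hsT hyT) (T.inv_mem hyT), ?_, ?_⟩
        · exact (centralizer (B : Set G)).mul_mem (normalizer_le_centralizer_normalizer (hTB hsT) hyB)
            ((centralizer (B : Set G)).inv_mem hyB)
        · have h2 : s * y * s⁻¹ * y⁻¹ = s * (y * s⁻¹ * y⁻¹) := by group
          rw [h2]
          exact A.mul_mem hsA (conj_mem (hTA hyT) (A.inv_mem hsA))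
      rw [h, mem_bot] at h1
      have h3 : s * y = (s * y * s⁻¹ * y⁻¹) * (y * s) := by group
      rw [h3, h1, one_mul]
    obtain ⟨z, ⟨hzT, hzB, hzA⟩, hz2, hzc⟩ := exists_central_invol hA.syl.two inf_le_left hne' hN
    exact ⟨z, hzT, hzA, hzB, hz2, hzc⟩

/-- If `T` is a common Sylow 2-subgroup of `N(A)` and `N(B)`, `A ≠ B`, then `A` has a strongly embedded subgroup. -/
theorem pair_false (hA : Dat A T) (hB : Dat B T) (hn : NoComm A B) (hnc : ∃ a ∈ A, ∃ b ∈ B, a * b ≠ b * a)
    (hse : ∀ H : Subgroup ↥A, ¬ IsStronglyEmbedded H) : False := by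
  obtain ⟨z, hzT, hzA, hzB, hz2, hzc⟩ := step_one hA hB hn
  obtain ⟨w, hwT, hwB, hwA, hw2, hwc⟩ := step_one hB hA hn.symm
  have hTA := hA.syl.le
  have hTB := hB.syl.le
  -- (3)
  have hCz : centralizer ({z} : Set G) ≤ normalizer (B : Set G) := hB.te z hzB hz2
  have hCw : centralizer ({w} : Set G) ≤ normalizer (A : Set G) := hA.te w hwA hw2
  have hKM : centralizer (A : Set G) ≤ normalizer (B : Set G) := by
    intro k hk
    apply hCz
    rw [mem_centralizer_singleton_iff]
    exact (comm_of_centralizer hk hzA).symm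
  have hJM : centralizer (B : Set G) ≤ normalizer (A : Set G) := by
    intro k hk
    apply hCw
    rw [mem_centralizer_singleton_iff]
    exact (comm_of_centralizer hk hwB).symm
  -- (4)
  have hKJ : centralizer (A : Set G) ⊓ centralizer (B : Set G) = ⊥ := by
    apply hA.core _ inf_le_left
    · rintro k hk n ⟨hn1, hn2⟩
      exact ⟨conj_self hk hn1, normalizer_le_centralizer_normalizer (hKM hk) hn2⟩
    · apply odd_of_forall
      rintro u ⟨hu1, hu2⟩
      exact hn u hu1 hu2
  -- (5) is not needed; (6)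
  have hAB : A ⊓ B = ⊥ := by
    have hTI : T ≤ normalizer ((A ⊓ B : Subgroup G) : Set G) := by
      intro t ht
      rw [mem_normalizer_iff]
      intro x
      have h1 := mem_normalizer_iff.mp (hTA ht) x
      have h2 := mem_normalizer_iff.mp (hTB ht) x
      rw [mem_inf, mem_inf, h1, h2]
    apply hA.bal z hzA hz2 _ inf_le_left
    · rintro i ⟨_, hi⟩
      exact comm_of_centralizer hzB hi
    · rintro x hx hxz i ⟨hi1, hi2⟩
      refine ⟨conj_self hx hi1, conj_mem (hCz ?_) hi2⟩
      rw [mem_centralizer_singleton_iff]; exact hxz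
    · rw [← Nat.not_even_iff_odd]
      intro hev
      obtain ⟨u, hu, hu2⟩ := exists_invol_of_even hev
      have hsyl := hA.syl.inf (I := A ⊓ B) (inf_le_left.trans le_normalizer) hTI
      have hne : T ⊓ (A ⊓ B) ≠ ⊥ := by
        intro h
        have hup : IsPGroup 2 ↥(zpowers u) := by
          rw [IsPGroup.iff_card]; exact ⟨1, by rw [Nat.card_zpowers, hu2]; norm_num⟩
        obtain ⟨i, hi, hiu⟩ := hA.syl.conj_into_inf (I := A ⊓ B) (inf_le_left.trans le_normalizer) hTI hup
          (by rw [zpowers_le]; exact hu)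
        have h1 := hiu u (mem_zpowers u)
        rw [h, mem_bot] at h1
        have h2 : orderOf (i * u * i⁻¹) = 2 := by rw [Basic.orderOf_conj]; exact hu2
        rw [h1, orderOf_one] at h2
        norm_num at h2
      obtain ⟨v, ⟨hvT, hvA, hvB⟩, hv2, hvc⟩ := exists_central_invol hA.syl.two inf_le_left hne (by
        rintro t ht n ⟨hn1, hn2, hn3⟩
        exact ⟨conj_self ht hn1, conj_mem (hTA ht) hn2, conj_mem (hTB ht) hn3⟩)
      have h3 := hA.uniq v hvT hvA hv2 (fun u hu _ => hvc u hu) z hzT hzA hz2 (fun u hu _ => hzc u hu)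
      subst h3
      have h4 := hB.cen v hvB hzB
      rw [h4, orderOf_one] at hv2
      norm_num at hv2
  -- (7)
  have hcomm : ∀ x ∈ A, x ∈ normalizer (B : Set G) → ∀ y ∈ B, y ∈ normalizer (A : Set G) → x * y = y * x := by
    intro x hx hxB y hy hyA
    have h1 : x * y * x⁻¹ * y⁻¹ ∈ A ⊓ B := by
      refine ⟨?_, B.mul_mem (conj_mem hxB hy) (B.inv_mem hy)⟩
      have h2 : x * y * x⁻¹ * y⁻¹ = x * (y * x⁻¹ * y⁻¹) := by group
      rw [h2]
      exact A.mul_mem hx (conj_mem hyA (A.inv_mem hx))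
    rw [hAB, mem_bot] at h1
    have h3 : x * y = (x * y * x⁻¹ * y⁻¹) * (y * x) := by group
    rw [h3, h1, one_mul]
  -- (8)
  have hCa : ∀ a ∈ T, a ∈ A → orderOf a = 2 → ∀ x, x ∈ A → x * a = a * x → x ∈ normalizer (B : Set G) := by
    intro a haT haA ha2 x hx hxa
    obtain ⟨d, hd, s, hsT, hsB, hsc, rfl⟩ := hB.inner a haT (by
      intro s hsT hsB
      exact (hcomm a haA (hTB haT) s hsB (hTA hsT)).symm)
    obtain ⟨hdd, hss⟩ := hB.split_sq hd hsB (sq_one ha2)
    by_cases hs1 : s = 1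
    · subst hs1
      rw [mul_one] at ha2 hxa
      apply hB.te d hd ha2
      rw [mem_centralizer_singleton_iff]; exact hxa
    · have h1 := hB.uniq s hsT hsB (orderOf_two_of hss hs1) hsc w hwT hwB hw2 (fun u hu _ => hwc u hu)
      subst h1
      have hd1 : d ≠ 1 := by
        rintro rfl
        rw [one_mul] at haA
        have h2 := hA.cen s haA hwA
        exact hs1 h2
      apply hB.te d hd (orderOf_two_of hdd hd1)
      rw [mem_centralizer_singleton_iff]
      have h3 : x * s = s * x := comm_of_centralizer hwA hx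
      have h4 : (x * d) * s = (d * x) * s := by
        calc (x * d) * s = x * (d * s) := by group
          _ = (d * s) * x := hxa
          _ = d * (s * x) := by group
          _ = d * (x * s) := by rw [h3]
          _ = (d * x) * s := by group
      exact mul_right_cancel h4
  -- (9)
  have hSylA : IsSyl (T ⊓ A) A := hA.syl.inf le_normalizer (by
    intro t ht; exact hTA ht)
  obtain ⟨S, hS⟩ := hSylA.toSylow
  have hmemS : ∀ x : ↥A, x ∈ (S : Subgroup ↥A) ↔ (x : G) ∈ T := by
    intro x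
    rw [hS, mem_subgroupOf, mem_inf]
    exact ⟨fun h => h.1, fun h => ⟨h, x.2⟩⟩
  apply hse ((normalizer (B : Set G)).subgroupOf A)
  apply Cfsg.Agent.J2Sylow.BalancedEnd.stronglyEmbedded_of_centralizer S
  · -- proper
    intro htop
    have hAM : A ≤ normalizer (B : Set G) := by
      intro a ha
      have h1 : (⟨a, ha⟩ : ↥A) ∈ (normalizer (B : Set G)).subgroupOf A := by rw [htop]; exact mem_top _
      exact mem_subgroupOf.mp h1
    rcases hA.simp (A ⊓ centralizer (B : Set G)) inf_le_left (by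
      rintro a ha n ⟨hn1, hn2⟩
      exact ⟨conj_self ha hn1, normalizer_le_centralizer_normalizer (hAM ha) hn2⟩) with h | h
    · have h1 : z ∈ A ⊓ centralizer (B : Set G) := ⟨hzA, hzB⟩
      rw [h, mem_bot] at h1
      rw [h1, orderOf_one] at hz2
      norm_num at hz2
    · obtain ⟨a, ha, b, hb, hab⟩ := hnc
      have h1 : a ∈ A ⊓ centralizer (B : Set G) := by rw [h]; exact ha
      exact hab (comm_of_centralizer h1.2 hb).symm
  · intro x hx
    rw [mem_subgroupOf]
    exact hTB ((hmemS x).mp hx)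
  · -- the normalizer of the Sylow subgroup
    intro x hx
    rw [mem_subgroupOf]
    apply hCz
    rw [mem_centralizer_singleton_iff]
    have hxN := mem_normalizer_iff.mp hx
    have h1 : x * ⟨z, hzA⟩ * x⁻¹ ∈ (S : Subgroup ↥A) := (hxN _).mp ((hmemS _).mpr hzT)
    have h1' : (x : G) * z * (x : G)⁻¹ ∈ T := (hmemS _).mp h1
    have h2 : z = (x : G) * z * (x : G)⁻¹ := by
      apply hA.uniq z hzT hzA hz2 (fun u hu _ => hzc u hu) _ h1'
        (mul_mem (mul_mem x.2 hzA) (inv_mem x.2)) (by rw [Basic.orderOf_conj]; exact hz2)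
      intro u huT huA
      have h3 : x⁻¹ * ⟨u, huA⟩ * x ∈ (S : Subgroup ↥A) := by
        have h4 := (mem_normalizer_iff.mp (inv_mem hx) ⟨u, huA⟩).mp ((hmemS _).mpr huT)
        rwa [inv_inv] at h4
      have h3' : (x : G)⁻¹ * u * (x : G) ∈ T := (hmemS _).mp h3
      have h5 := hzc _ h3'
      calc u * ((x : G) * z * (x : G)⁻¹) = x * (((x : G)⁻¹ * u * x) * z) * (x : G)⁻¹ := by group
        _ = x * (z * ((x : G)⁻¹ * u * x)) * (x : G)⁻¹ := by rw [h5]
        _ = (x : G) * z * (x : G)⁻¹ * u := by group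
    calc (x : G) * z = ((x : G) * z * (x : G)⁻¹) * x := by group
      _ = z * x := by rw [← h2]
  · -- even order
    apply even_of_mem (u := (⟨z, hzA⟩ : ↥A))
    · rw [← hz2]; exact (Subgroup.orderOf_coe _).symm
    · rw [mem_subgroupOf]; exact hTB hzT
  · -- centralizers of involutions
    intro t ht ht2
    rw [mem_subgroupOf] at ht
    have hSylH : IsSyl (T ⊓ A) (A ⊓ normalizer (B : Set G)) :=
      hSylA.mono (le_inf inf_le_right (inf_le_left.trans hTB)) inf_le_left
    have htG : orderOf (t : G) = 2 := by rw [Subgroup.orderOf_coe, ht2]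
    have hup : IsPGroup 2 ↥(zpowers (t : G)) := by
      rw [IsPGroup.iff_card]; exact ⟨1, by rw [Nat.card_zpowers, htG]; norm_num⟩
    obtain ⟨m, ⟨hmA, hmB⟩, hm⟩ := hSylH.conj_into hup (by rw [zpowers_le]; exact ⟨t.2, ht⟩)
    obtain ⟨h1T, h1A⟩ := hm (t : G) (mem_zpowers _)
    intro x hx
    rw [mem_subgroupOf]
    rw [mem_centralizer_singleton_iff] at hx
    have hx' : (x : G) * t = t * x := congrArg Subtype.val hx
    have h2 := hCa (m * t * m⁻¹) h1T h1A (by rw [Basic.orderOf_conj]; exact htG) (m * x * m⁻¹)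
      (mul_mem (mul_mem hmA x.2) (inv_mem hmA)) (by
        calc m * (x : G) * m⁻¹ * (m * t * m⁻¹) = m * ((x : G) * t) * m⁻¹ := by group
          _ = m * (t * x) * m⁻¹ := by rw [hx']
          _ = m * t * m⁻¹ * (m * x * m⁻¹) := by group)
    have h3 : (x : G) = m⁻¹ * (m * x * m⁻¹) * m := by group
    rw [h3]
    exact mul_mem (mul_mem (inv_mem hmB) h2) hmB

end Pair

end Cfsg.Agent.OddHalf.D4
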