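import Mathlib
import Cfsg.Prelude.Def_Involutions
import Cfsg.Agent.Blocks.SylowIn
import Cfsg.Agent.TwoFusion.StronglyEmbeddedBasic
import Cfsg.Agent.Involutions.NormalFour
set_option linter.all false

/-!
# Conjugates of a tightly embedded subgroup: Theorem A

Setting: `G` finite, `C ⊴ M ≤ G`, `C` tightly embedded with control `M` (if `x` is an involution of
`C` and `g x g⁻¹ ∈ C` then `g ∈ M`).  If some conjugate of `C` by an element outside `M` has an
involution in `M`, then either some conjugate `Q^g`, `g ∉ M`, of a Sylow `2`-subgroup `Q` of `C` lies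
in `M`, or there is an involution `r ∈ S ∈ Syl₂(M)` in a conjugate `C^a`, `a ∉ M`, that centralizes
`S ∩ K` and does not lie in `(S ∩ C)(S ∩ K)`, for `K ⊴ M` with `[K, C] = 1`, `K ∩ C` without
involutions.
-/

set_option autoImplicit false

namespace Cfsg.Agent.OddHalf.D4.CommConj

open Cfsg.Agent.Blocks.SylowIn Cfsg.Agent.TwoFusion.StronglyEmbeddedBasic

section General

variable {G : Type*} [Group G]

/-- the conjugate `g X g⁻¹` -/
abbrev cj (g : G) (X : Subgroup G) : Subgroup G := X.map (MulAut.conj g).toMonoidHom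

theorem mem_cj {g x : G} {X : Subgroup G} : x ∈ cj g X ↔ g⁻¹ * x * g ∈ X := by
  constructor
  · rintro ⟨y, hy, rfl⟩
    simpa [mul_assoc] using hy
  · intro h
    exact ⟨_, h, by simp [mul_assoc]⟩

theorem cj_mul (g h : G) (X : Subgroup G) : cj (g * h) X = cj g (cj h X) := by
  ext x
  rw [mem_cj, mem_cj, mem_cj]
  have : (g * h)⁻¹ * x * (g * h) = h⁻¹ * (g⁻¹ * x * g) * h := by group
  rw [this]

theorem card_cj (g : G) (X : Subgroup G) : Nat.card (cj g X) = Nat.card X :=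
  Nat.card_congr (X.equivMapOfInjective _ (MulAut.conj g).injective).symm.toEquiv

theorem cj_eq_of_mem_normalizer {g : G} {X : Subgroup G} (h : g ∈ Subgroup.normalizer (X : Set G)) :
    cj g X = X := by
  ext x
  rw [mem_cj]
  exact (Subgroup.mem_normalizer_iff''.mp h x).symm

theorem mem_normalizer_of_cj_eq {g : G} {X : Subgroup G} (h : cj g X = X) :
    g ∈ Subgroup.normalizer (X : Set G) := by
  rw [Subgroup.mem_normalizer_iff'']
  intro x
  rw [← mem_cj, h]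

theorem mem_cj_mul {g x : G} {X : Subgroup G} (h : x ∈ X) : g * x * g⁻¹ ∈ cj g X := by
  rw [mem_cj]
  simpa [mul_assoc] using h

/-- a Sylow `p`-subgroup `P` of `D` such that the elements of `X` normalizing `P` are in `D` is a
Sylow `p`-subgroup of `X` -/
theorem sylow_up [Finite G] {p : ℕ} [Fact p.Prime] {X D P : Subgroup G} (hDX : D ≤ X)
    (hP : ∃ S : Sylow p D, (S : Subgroup D).map D.subtype = P)
    (h : Subgroup.normalizer (P : Set G) ⊓ X ≤ D) :
    ∃ S : Sylow p X, (S : Subgroup X).map X.subtype = P := by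
  rw [exists_sylow_map_eq_iff] at hP ⊢
  obtain ⟨h1, h2, h3⟩ := hP
  refine ⟨h1.trans hDX, h2, ?_⟩
  intro Q hQ hQp hPQ
  refine eq_of_normalizer_inf_le hQp hPQ ?_
  have h4 : Subgroup.normalizer (P : Set G) ⊓ Q ≤ D := (inf_le_inf_left _ hQ).trans h
  have h5 := h3 _ h4 (hQp.to_le inf_le_right) (le_inf Subgroup.le_normalizer hPQ)
  exact h5.le

/-- a `p`-subgroup of `D` lies in a Sylow `p`-subgroup of `D` -/
theorem exists_sylow_ge [Finite G] {p : ℕ} [Fact p.Prime] {D P : Subgroup G} (hP : IsPGroup p P)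
    (hD : P ≤ D) :
    ∃ Q : Subgroup G, (∃ S : Sylow p D, (S : Subgroup D).map D.subtype = Q) ∧ P ≤ Q := by
  have h1 : IsPGroup p (P.subgroupOf D) := hP.comap_subtype
  obtain ⟨S, hS⟩ := h1.exists_le_sylow
  refine ⟨_, ⟨S, rfl⟩, ?_⟩
  intro x hx
  exact ⟨⟨x, hD hx⟩, hS (Subgroup.mem_subgroupOf.mpr hx), rfl⟩

/-- **key lemma**: let `P₀ ≤ X ∩ M ∩ M^a` be a `p`-subgroup, `a ∈ X`, such that every `p`-subgroup
`P` with `P₀ ≤ P ≤ X ∩ M ∩ M^a` satisfies `N_X(P) ≤ M ∩ M^a`.  Then `a ∈ M`. -/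
theorem mem_of_normalizers [Finite G] {p : ℕ} [Fact p.Prime] {X M P₀ : Subgroup G} {a : G}
    (ha : a ∈ X) (hP₀ : IsPGroup p P₀) (h1 : P₀ ≤ X ⊓ M ⊓ cj a M)
    (h : ∀ P : Subgroup G, IsPGroup p P → P₀ ≤ P → P ≤ X ⊓ M ⊓ cj a M →
      Subgroup.normalizer (P : Set G) ⊓ X ≤ M ⊓ cj a M) : a ∈ M := by
  obtain ⟨P, hP, hle⟩ := exists_sylow_ge hP₀ h1
  have hP' := exists_sylow_map_eq_iff.mp hP
  have h2 := h P hP'.2.1 hle hP'.1
  have h3 : Subgroup.normalizer (P : Set G) ⊓ X ≤ X ⊓ M ⊓ cj a M :=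
    le_inf (le_inf inf_le_right (h2.trans inf_le_left)) (h2.trans inf_le_right)
  -- `P` is Sylow in `X ⊓ M`
  have h4 : ∃ S : Sylow p (X ⊓ M : Subgroup G), (S : Subgroup (X ⊓ M : Subgroup G)).map
      (X ⊓ M : Subgroup G).subtype = P :=
    sylow_up inf_le_left hP ((inf_le_inf_left _ inf_le_left).trans h3)
  have h5 : ∃ S : Sylow p X, (S : Subgroup X).map X.subtype = P :=
    sylow_up (inf_le_left.trans inf_le_left) hP h3
  -- `P^{a⁻¹}` too
  have h6 : ∃ S : Sylow p (X ⊓ M : Subgroup G), (S : Subgroup (X ⊓ M : Subgroup G)).map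
      (X ⊓ M : Subgroup G).subtype = cj a⁻¹ P := by
    rw [exists_sylow_map_eq_iff]
    rw [exists_sylow_map_eq_iff] at h5
    refine ⟨?_, h5.2.1.map _, ?_⟩
    · intro x hx
      rw [mem_cj, inv_inv] at hx
      have h7 := hP'.1 hx
      refine ⟨?_, ?_⟩
      · have h8 := X.mul_mem (X.mul_mem (X.inv_mem ha) h7.1.1) ha
        have h9 : a⁻¹ * (a * x * a⁻¹) * a = x := by group
        rwa [h9] at h8
      · have h8 := mem_cj.mp h7.2
        have h9 : a⁻¹ * (a * x * a⁻¹) * a = x := by group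
        rwa [h9] at h8
    · intro Q hQ hQp hPQ
      have h7 : cj a Q = P := by
        refine h5.2.2 _ ?_ (hQp.map _) ?_
        · intro x hx
          rw [mem_cj] at hx
          have h8 := X.mul_mem (X.mul_mem ha (hQ hx).1) (X.inv_mem ha)
          have h9 : a * (a⁻¹ * x * a) * a⁻¹ = x := by group
          rwa [h9] at h8
        · intro x hx
          rw [mem_cj]
          apply hPQ
          rw [mem_cj]
          have h9 : a⁻¹⁻¹ * (a⁻¹ * x * a) * a⁻¹ = x := by group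
          rwa [h9]
      rw [← h7, ← cj_mul, inv_mul_cancel]
      ext x
      rw [mem_cj]
      simp
  obtain ⟨k, hk, hkP⟩ := exists_conj_of_sylow_map_eq h6 h4
  have h7 : cj (k * a⁻¹) P = P := by rw [cj_mul]; exact hkP
  have h8 : k * a⁻¹ ∈ Subgroup.normalizer (P : Set G) ⊓ X :=
    ⟨mem_normalizer_of_cj_eq h7, X.mul_mem hk.1 (X.inv_mem ha)⟩
  have h9 := (h2 h8).1
  have h10 : a⁻¹ ∈ M := by
    have := M.mul_mem (M.inv_mem hk.2) h9
    simpa using this
  exact (M.inv_mem_iff).mp h10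

/-- a nontrivial `2`-subgroup contains an involution, a power of a given nontrivial element -/
theorem exists_pow_involution [Finite G] {E : Subgroup G} (hE : IsPGroup 2 E) {x : G} (hx : x ∈ E)
    (hx1 : x ≠ 1) : ∃ n : ℕ, orderOf (x ^ n) = 2 := by
  obtain ⟨k, hk⟩ := hE ⟨x, hx⟩
  have hk' : x ^ 2 ^ k = 1 := congrArg Subtype.val hk
  have h1 : orderOf x ∣ 2 ^ k := orderOf_dvd_of_pow_eq_one hk'
  obtain ⟨m, -, hm⟩ := (Nat.dvd_prime_pow Nat.prime_two).mp h1
  have hm0 : m ≠ 0 := by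
    rintro rfl
    exact hx1 (orderOf_eq_one_iff.mp (by simpa using hm))
  obtain ⟨m, rfl⟩ := Nat.exists_eq_succ_of_ne_zero hm0
  refine ⟨2 ^ m, ?_⟩
  rw [orderOf_pow' _ (by positivity), hm, Nat.succ_eq_add_one, pow_succ,
    Nat.gcd_eq_right (Dvd.intro _ rfl)]
  exact Nat.mul_div_cancel_left 2 (by positivity)

/-- If `E`, `B` are subgroups of the `2`-group `S`, `B` normalized by `S` and not contained in `E`,
then some `b ∈ B ∖ E` normalizes `E` and has its square in `E`. -/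
theorem exists_norm_elt [Finite G] {S E B : Subgroup G} (hS : IsPGroup 2 S) (hE : E ≤ S)
    (hB : B ≤ S) (hBn : ∀ s ∈ S, ∀ b ∈ B, s * b * s⁻¹ ∈ B) (hne : ¬ B ≤ E) :
    ∃ b ∈ B, b ∉ E ∧ b * b ∈ E ∧ b ∈ Subgroup.normalizer (E : Set G) := by
  have hEB : E ≤ Subgroup.normalizer (B : Set G) := by
    intro e he
    rw [Subgroup.mem_normalizer_iff]
    intro b
    constructor
    · intro hb
      exact hBn e (hE he) b hb
    · intro hb
      have := hBn e⁻¹ (S.inv_mem (hE he)) _ hb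
      simpa [mul_assoc] using this
  -- an element of `E B` normalizing `E`, not in `E`
  have h1 : ∃ b ∈ B, b ∉ E ∧ b ∈ Subgroup.normalizer (E : Set G) := by
    by_contra hcon
    push Not at hcon
    apply hne
    have h2 : Subgroup.normalizer (E : Set G) ⊓ (E ⊔ B) ≤ E := by
      rintro x ⟨hx1, hx2⟩
      have hx3 : x ∈ ((E ⊔ B : Subgroup G) : Set G) := hx2
      rw [Subgroup.coe_mul_of_left_le_normalizer_right _ _ hEB] at hx3
      obtain ⟨e, he, b, hb, rfl⟩ := hx3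
      have hb' : b ∈ Subgroup.normalizer (E : Set G) := by
        have := mul_mem (inv_mem (Subgroup.le_normalizer he)) hx1
        simpa using this
      by_contra hbE
      refine hcon b hb ?_ hb'
      intro h
      exact hbE (mul_mem he h)
    have h3 := eq_of_normalizer_inf_le (hS.to_le (sup_le hE hB)) le_sup_left h2
    rw [← h3]
    exact le_sup_right
  obtain ⟨b, hb, hbE, hbn⟩ := h1
  -- take powers
  obtain ⟨k, hk⟩ := hS ⟨b, hB hb⟩
  have hk' : b ^ 2 ^ k ∈ E := by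
    have : b ^ 2 ^ k = 1 := congrArg Subtype.val hk
    rw [this]; exact E.one_mem
  classical
  have hex : ∃ k, b ^ 2 ^ k ∈ E := ⟨k, hk'⟩
  have h4 := Nat.find_spec hex
  have h5 : Nat.find hex ≠ 0 := by
    intro h
    rw [h] at h4
    simp at h4
    exact hbE h4
  obtain ⟨m, hm⟩ := Nat.exists_eq_succ_of_ne_zero h5
  rw [hm] at h4
  refine ⟨b ^ 2 ^ m, pow_mem hb _, ?_, ?_, pow_mem hbn _⟩
  · exact Nat.find_min hex (by omega)
  · rw [← pow_add]
    have : 2 ^ m + 2 ^ m = 2 ^ m.succ := by rw [pow_succ]; ring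
    rw [this]
    exact h4

/-- Conjugacy modulo a normal subgroup from strong embedding in the quotient. -/
theorem conj_of_strongly_embedded_quot {X : Type*} [Group X] [Finite X] (N Y : Subgroup X)
    [N.Normal] (hNY : N ≤ Y) (hY : Y ≠ ⊤)
    (h : ∀ a, a ∉ Y → ∀ y ∈ Y, a⁻¹ * y * a ∈ Y → y * y ∈ N → y ∈ N)
    {s q : X} (hs : s ∈ Y) (hs' : s ∉ N) (hs2 : s * s ∈ N) (hq : q ∈ Y) (hq' : q ∉ N)
    (hq2 : q * q ∈ N) : ∃ y ∈ Y, (y * s * y⁻¹)⁻¹ * q ∈ N := by
  have hmem : ∀ x : X, (QuotientGroup.mk' N x) ∈ Y.map (QuotientGroup.mk' N) ↔ x ∈ Y := by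
    intro x
    rw [← Subgroup.mem_comap, Subgroup.comap_map_eq, QuotientGroup.ker_mk', sup_eq_left.mpr hNY]
  have hinv : ∀ x : X, x ∉ N → x * x ∈ N → orderOf (QuotientGroup.mk' N x) = 2 := by
    intro x hx hx2
    apply orderOf_eq_two_of_mul_self
    · rw [← map_mul]
      exact (QuotientGroup.eq_one_iff _).mpr hx2
    · intro h1
      exact hx ((QuotientGroup.eq_one_iff _).mp h1)
  have hSE : Cfsg.IsStronglyEmbedded (Y.map (QuotientGroup.mk' N)) := by
    refine ⟨?_, ?_, ?_⟩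
    · intro htop
      apply hY
      rw [Subgroup.eq_top_iff']
      intro x
      rw [← hmem, htop]
      trivial
    · rw [← Nat.not_odd_iff_even]
      exact not_odd_of_mem _ (QuotientGroup.mk' N q) ((hmem q).mpr hq) (hinv q hq' hq2)
    · intro g hg
      obtain ⟨a, rfl⟩ := QuotientGroup.mk'_surjective N g
      rw [← Nat.not_even_iff_odd]
      intro heven
      obtain ⟨⟨x, hx⟩, hx2⟩ := exists_prime_orderOf_dvd_card' (G := ((Y.map (QuotientGroup.mk' N)) ⊓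
        (Y.map (QuotientGroup.mk' N)).map (MulAut.conj (QuotientGroup.mk' N a)).toMonoidHom :
        Subgroup (X ⧸ N))) 2 (even_iff_two_dvd.mp heven)
      rw [Subgroup.orderOf_mk] at hx2
      obtain ⟨y, rfl⟩ := QuotientGroup.mk'_surjective N x
      have hy1 : y ∈ Y := (hmem y).mp hx.1
      have hy2 : a⁻¹ * y * a ∈ Y := by
        rw [← hmem, map_mul, map_mul, map_inv]
        exact mem_cj.mp hx.2
      have hy3 : y * y ∈ N := by
        rw [← QuotientGroup.eq_one_iff]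
        have := mul_self_of_orderOf hx2
        rw [← map_mul] at this
        exact this
      have hy4 := h a (fun ha => hg ((hmem a).mpr ha)) y hy1 hy2 hy3
      have hy5 : QuotientGroup.mk' N y = 1 := (QuotientGroup.eq_one_iff _).mpr hy4
      rw [hy5, orderOf_one] at hx2
      exact absurd hx2 (by norm_num)
  obtain ⟨g, hg⟩ := isConj_iff.mp (isConj_of_involutions hSE _ _ (hinv s hs' hs2) (hinv q hq' hq2))
  obtain ⟨y, rfl⟩ := QuotientGroup.mk'_surjective N g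
  have hyY : y ∈ Y := by
    rw [← hmem]
    refine mem_of_conj_mem hSE ((hmem s).mpr hs) (hinv s hs' hs2) ?_
    rw [hg]
    exact (hmem q).mpr hq
  refine ⟨y, hyY, ?_⟩
  rw [← QuotientGroup.eq, ← QuotientGroup.mk'_apply, ← QuotientGroup.mk'_apply, ← hg]
  simp

end General

section Main

variable {G : Type*} [Group G]

/-- `C ⊴ M`, `C` tightly embedded with control `M`. -/
structure Tight (C M : Subgroup G) : Prop where
  le : C ≤ M
  norm : ∀ m ∈ M, ∀ c ∈ C, m * c * m⁻¹ ∈ C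
  tight : ∀ g x : G, x ∈ C → orderOf x = 2 → g * x * g⁻¹ ∈ C → g ∈ M

/-- `E` is a maximal `2`-subgroup of `M` among those meeting `C` nontrivially and whose normalizer
is not contained in `M` (upward: every bigger `2`-subgroup of `M` has its normalizer in `M`). -/
structure MaxE (C M E : Subgroup G) : Prop where
  isPGroup : IsPGroup 2 E
  le : E ≤ M
  exists_inv : ∃ x ∈ E, x ∈ C ∧ orderOf x = 2
  exists_norm : ∃ a ∈ Subgroup.normalizer (E : Set G), a ∉ M
  norm_le : ∀ P : Subgroup G, IsPGroup 2 P → E < P → P ≤ M → Subgroup.normalizer (P : Set G) ≤ M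

/-- a nontrivial normal subgroup of a `2`-group contains a central involution -/
theorem exists_central_involution [Finite G] {S N : Subgroup G} (hS : IsPGroup 2 S)
    (hN : ∀ s ∈ S, ∀ n ∈ N, s * n * s⁻¹ ∈ N) (hne : ∃ x ∈ S, x ∈ N ∧ x ≠ 1) :
    ∃ z ∈ S, z ∈ N ∧ orderOf z = 2 ∧ ∀ s ∈ S, s * z = z * s := by
  have : (N.subgroupOf S).Normal := by
    refine ⟨?_⟩
    intro n hn s
    rw [Subgroup.mem_subgroupOf] at hn ⊢
    exact hN s s.2 n hn
  have hne' : N.subgroupOf S ≠ ⊥ := by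
    obtain ⟨x, hxS, hxN, hx1⟩ := hne
    intro h
    have h1 : (⟨x, hxS⟩ : S) ∈ N.subgroupOf S := Subgroup.mem_subgroupOf.mpr hxN
    rw [h, Subgroup.mem_bot] at h1
    exact hx1 (congrArg Subtype.val h1)
  obtain ⟨z, hz, hzc, hz2⟩ :=
    Cfsg.Agent.Involutions.NormalFour.exists_mem_center_of_normal hS (N.subgroupOf S) hne'
  refine ⟨z, z.2, Subgroup.mem_subgroupOf.mp hz, ?_, ?_⟩
  · rw [← hz2]
    exact Subgroup.orderOf_coe z
  · intro s hs
    exact congrArg Subtype.val (Subgroup.mem_center_iff.mp hzc ⟨s, hs⟩)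

theorem mem_normalizer_cj {n g : G} {P : Subgroup G} (h : n ∈ Subgroup.normalizer (P : Set G)) :
    g⁻¹ * n * g ∈ Subgroup.normalizer ((cj g⁻¹ P : Subgroup G) : Set G) := by
  apply mem_normalizer_of_cj_eq
  rw [← cj_mul]
  have h1 : g⁻¹ * n * g * g⁻¹ = g⁻¹ * n := by group
  rw [h1, cj_mul, cj_eq_of_mem_normalizer h]

namespace Tight

variable {C M : Subgroup G}

theorem inf_odd (T : Tight C M) {a x : G} (ha : a ∉ M) (hx : x ∈ C) (hxa : a⁻¹ * x * a ∈ C) :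
    orderOf x ≠ 2 := by
  intro h2
  apply ha
  have h3 := T.tight a⁻¹ x hx h2 (by simpa using hxa)
  exact (M.inv_mem_iff).mp h3

/-- the elements commuting with an involution of `C^a` are in `M^a` -/
theorem mem_of_comm (T : Tight C M) {a r y : G} (hr : a⁻¹ * r * a ∈ C) (h2 : orderOf r = 2)
    (hy : y * r = r * y) : a⁻¹ * y * a ∈ M := by
  refine T.tight _ (a⁻¹ * r * a) hr ?_ ?_
  · have := orderOf_conj a⁻¹ r
    rw [inv_inv] at this
    rw [this, h2]
  · have : a⁻¹ * y * a * (a⁻¹ * r * a) * (a⁻¹ * y * a)⁻¹ = a⁻¹ * (y * r * y⁻¹) * a := by group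
    rw [this, hy]
    have : a⁻¹ * (r * y * y⁻¹) * a = a⁻¹ * r * a := by group
    rw [this]
    exact hr

/-- some member of the family exists if an involution of `M` lies in `C^g`, `g ∉ M` -/
theorem exists_maxE [Finite G] (T : Tight C M) {g r : G} (hg : g ∉ M) (hr : r ∈ M)
    (hr2 : orderOf r = 2) (hrg : g⁻¹ * r * g ∈ C) : ∃ E, MaxE C M E := by
  classical
  let F : Set (Subgroup G) := {P | IsPGroup 2 P ∧ P ≤ M ∧ (∃ x ∈ P, x ∈ C ∧ orderOf x = 2) ∧
    ∃ a ∈ Subgroup.normalizer (P : Set G), a ∉ M}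
  have hF : F.Nonempty := by
    by_contra hcon
    rw [Set.not_nonempty_iff_eq_empty] at hcon
    have key : ∀ P : Subgroup G, IsPGroup 2 P → P ≤ M → (∃ x ∈ P, x ∈ C ∧ orderOf x = 2) →
        Subgroup.normalizer (P : Set G) ≤ M := by
      intro P h1 h2 h3 a ha
      by_contra haM
      have : P ∈ F := ⟨h1, h2, h3, a, ha, haM⟩
      rw [hcon] at this
      exact this
    apply hg
    -- an involution of `C` commuting with `r`
    have hRp : IsPGroup 2 (Subgroup.zpowers r) := by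
      rw [IsPGroup.iff_card]
      exact ⟨1, by rw [Nat.card_zpowers, hr2, pow_one]⟩
    obtain ⟨S, hS, hRS⟩ := exists_sylow_ge hRp (Subgroup.zpowers_le.mpr hr)
    have hS' := exists_sylow_map_eq_iff.mp hS
    have hgc : orderOf (g⁻¹ * r * g) = 2 := by
      have := orderOf_conj g⁻¹ r
      rw [inv_inv] at this
      rw [this, hr2]
    obtain ⟨S', hS'', hRS'⟩ := exists_sylow_ge (D := M) (P := Subgroup.zpowers (g⁻¹ * r * g))
      (p := 2) (by
        rw [IsPGroup.iff_card]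
        exact ⟨1, by rw [Nat.card_zpowers, hgc, pow_one]⟩) (Subgroup.zpowers_le.mpr (T.le hrg))
    obtain ⟨k, hk, hkS⟩ := exists_conj_of_sylow_map_eq hS'' hS
    obtain ⟨d, hdS, hdC, hd2, hdc⟩ := exists_central_involution (S := S) (N := C) hS'.2.1
      (fun s hs c hc => T.norm s (hS'.1 hs) c hc)
      ⟨k * (g⁻¹ * r * g) * k⁻¹, by
        rw [← hkS]
        exact mem_cj_mul (hRS' (Subgroup.mem_zpowers _)), T.norm k hk _ hrg, by
        intro h1
        have h2 := orderOf_conj k (g⁻¹ * r * g)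
        rw [h1, orderOf_one, hgc] at h2
        exact absurd h2 (by norm_num)⟩
    have hrS : r ∈ S := hRS (Subgroup.mem_zpowers r)
    have hdg : g⁻¹ * d * g ∈ M := T.mem_of_comm hrg hr2 (hdc r hrS).symm
    refine mem_of_normalizers (X := ⊤) (M := M) (P₀ := Subgroup.zpowers r ⊔ Subgroup.zpowers d)
      (a := g) (p := 2) (Subgroup.mem_top g) (hS'.2.1.to_le ?_) ?_ ?_
    · exact sup_le hRS (Subgroup.zpowers_le.mpr hdS)
    · refine sup_le (Subgroup.zpowers_le.mpr ?_) (Subgroup.zpowers_le.mpr ?_)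
      · exact ⟨⟨Subgroup.mem_top _, hr⟩, mem_cj.mpr (T.le hrg)⟩
      · exact ⟨⟨Subgroup.mem_top _, T.le hdC⟩, mem_cj.mpr hdg⟩
    · intro P hP hP₀ hPM n hn
      have hrP : r ∈ P := hP₀ (Subgroup.mem_sup_left (Subgroup.mem_zpowers r))
      have hdP : d ∈ P := hP₀ (Subgroup.mem_sup_right (Subgroup.mem_zpowers d))
      refine ⟨key P hP (fun x hx => (hPM hx).1.2) ⟨d, hdP, hdC, hd2⟩ hn.1, ?_⟩
      apply mem_cj.mpr
      refine key (cj g⁻¹ P) (hP.map _) ?_ ?_ (mem_normalizer_cj hn.1)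
      · intro x hx
        rw [mem_cj, inv_inv] at hx
        have h1 := mem_cj.mp (hPM hx).2
        have h2 : g⁻¹ * (g * x * g⁻¹) * g = x := by group
        rwa [h2] at h1
      · refine ⟨g⁻¹ * r * g, ?_, hrg, hgc⟩
        have := mem_cj_mul (g := g⁻¹) hrP
        rwa [inv_inv] at this
  obtain ⟨E, hE⟩ := (Set.toFinite F).exists_maximal hF
  obtain ⟨h1, h2, h3, h4⟩ := hE.prop
  refine ⟨E, h1, h2, h3, h4, ?_⟩
  intro P hP hEP hPM a ha
  by_contra haM
  obtain ⟨x, hx, hxC, hx2⟩ := h3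
  have hPF : P ∈ F := ⟨hP, hPM, ⟨x, hEP.le hx, hxC, hx2⟩, a, ha, haM⟩
  exact absurd (hE.le_of_ge hPF hEP.le) (not_le_of_gt hEP)

end Tight

namespace MaxE

variable {C M E : Subgroup G}

theorem sq_isPElt (h : MaxE C M E) {y : G} (hy : y * y ∈ E) : ∃ k : ℕ, y ^ 2 ^ k = 1 := by
  obtain ⟨k, hk⟩ := h.isPGroup ⟨y * y, hy⟩
  have hk' : (y * y) ^ 2 ^ k = 1 := congrArg Subtype.val hk
  refine ⟨k + 1, ?_⟩
  rw [pow_succ, mul_comm, pow_mul, pow_two]
  exact hk'

/-- strong embedding in `N_G(E)/E` -/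
theorem mem_of_conj [Finite G] (h : MaxE C M E) {a y : G}
    (ha : a ∈ Subgroup.normalizer (E : Set G)) (haM : a ∉ M)
    (hy : y ∈ Subgroup.normalizer (E : Set G)) (hyM : y ∈ M) (hy2 : ∃ k : ℕ, y ^ 2 ^ k = 1)
    (hya : a⁻¹ * y * a ∈ M) : y ∈ E := by
  by_contra hyE
  apply haM
  have hyp : IsPGroup 2 (Subgroup.zpowers y) := by
    obtain ⟨k, hk⟩ := hy2
    rw [IsPGroup.iff_card]
    obtain ⟨m, -, hm⟩ := (Nat.dvd_prime_pow Nat.prime_two).mp (orderOf_dvd_of_pow_eq_one hk)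
    exact ⟨m, by rw [Nat.card_zpowers, hm]⟩
  have hEa : cj a⁻¹ E = E := cj_eq_of_mem_normalizer (inv_mem ha)
  have hEa' : cj a E = E := cj_eq_of_mem_normalizer ha
  refine mem_of_normalizers (X := Subgroup.normalizer (E : Set G)) (M := M)
    (P₀ := E ⊔ Subgroup.zpowers y) (a := a) (p := 2) ha
    (h.isPGroup.to_sup_of_normal_left' hyp (Subgroup.zpowers_le.mpr hy)) ?_ ?_
  · refine sup_le ?_ (Subgroup.zpowers_le.mpr ⟨⟨hy, hyM⟩, mem_cj.mpr hya⟩)
    intro x hx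
    refine ⟨⟨Subgroup.le_normalizer hx, h.le hx⟩, ?_⟩
    rw [← hEa'] at hx
    exact Subgroup.map_mono h.le hx
  · intro P hP hP₀ hPM n hn
    have hEP : E < P := by
      refine lt_of_le_of_ne (le_sup_left.trans hP₀) ?_
      rintro rfl
      exact hyE (hP₀ (Subgroup.mem_sup_right (Subgroup.mem_zpowers y)))
    refine ⟨h.norm_le P hP hEP (fun x hx => (hPM hx).1.2) hn.1, ?_⟩
    apply mem_cj.mpr
    refine h.norm_le (cj a⁻¹ P) (hP.map _) ?_ ?_ (mem_normalizer_cj hn.1)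
    · refine lt_of_le_of_ne ?_ ?_
      · conv_lhs => rw [← hEa]
        exact Subgroup.map_mono hEP.le
      · intro heq
        have h1 : Nat.card E = Nat.card P := by
          rw [heq, card_cj]
        exact hEP.ne (Subgroup.eq_of_le_of_card_ge hEP.le h1.ge)
    · intro x hx
      rw [mem_cj, inv_inv] at hx
      have h1 := mem_cj.mp (hPM hx).2
      have h2 : a⁻¹ * (a * x * a⁻¹) * a = x := by group
      rwa [h2] at h1

/-- involutions of `N_M(E)/E` are conjugate in `N_M(E)/E` -/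
theorem exists_conj [Finite G] (h : MaxE C M E) {s q : G}
    (hs : s ∈ Subgroup.normalizer (E : Set G)) (hsM : s ∈ M) (hsE : s ∉ E) (hs2 : s * s ∈ E)
    (hq : q ∈ Subgroup.normalizer (E : Set G)) (hqM : q ∈ M) (hqE : q ∉ E) (hq2 : q * q ∈ E) :
    ∃ y ∈ M, y ∈ Subgroup.normalizer (E : Set G) ∧ ∃ e ∈ E, y * s * y⁻¹ = q * e := by
  let X : Subgroup G := Subgroup.normalizer (E : Set G)
  have hN : (E.subgroupOf X).Normal := by
    refine ⟨?_⟩
    intro n hn g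
    rw [Subgroup.mem_subgroupOf] at hn ⊢
    exact (Subgroup.mem_normalizer_iff.mp g.2 n).mp hn
  obtain ⟨y, hy, hyE⟩ := conj_of_strongly_embedded_quot (E.subgroupOf X) (M.subgroupOf X)
    (fun x hx => Subgroup.mem_subgroupOf.mpr (h.le (Subgroup.mem_subgroupOf.mp hx)))
    (by
      intro htop
      obtain ⟨a, ha, haM⟩ := h.exists_norm
      apply haM
      have h1 : (⟨a, ha⟩ : X) ∈ M.subgroupOf X := by rw [htop]; trivial
      exact Subgroup.mem_subgroupOf.mp h1)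
    (by
      intro a ha y hy hya hy2
      rw [Subgroup.mem_subgroupOf] at ha hy hya hy2 ⊢
      exact h.mem_of_conj a.2 ha y.2 hy (h.sq_isPElt hy2) hya)
    (s := ⟨s, hs⟩) (q := ⟨q, hq⟩) (Subgroup.mem_subgroupOf.mpr hsM)
    (fun h1 => hsE (Subgroup.mem_subgroupOf.mp h1)) (Subgroup.mem_subgroupOf.mpr hs2)
    (Subgroup.mem_subgroupOf.mpr hqM)
    (fun h1 => hqE (Subgroup.mem_subgroupOf.mp h1)) (Subgroup.mem_subgroupOf.mpr hq2)
  refine ⟨y, Subgroup.mem_subgroupOf.mp hy, y.2, ((y * s * (y : G)⁻¹)⁻¹ * q)⁻¹, ?_, ?_⟩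
  · exact inv_mem (Subgroup.mem_subgroupOf.mp hyE)
  · group

/-- an involution of `C^a` in `M`, `a ∈ N_G(E) ∖ M`, commutes with no `2`-element of `N_M(E) ∖ E` -/
theorem mem_of_comm [Finite G] (T : Tight C M) (h : MaxE C M E) {a r y : G}
    (ha : a ∈ Subgroup.normalizer (E : Set G)) (haM : a ∉ M) (hr2 : orderOf r = 2)
    (hra : a⁻¹ * r * a ∈ C) (hy : y ∈ Subgroup.normalizer (E : Set G)) (hyM : y ∈ M)
    (hy2 : ∃ k : ℕ, y ^ 2 ^ k = 1) (hyr : y * r = r * y) : y ∈ E :=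
  h.mem_of_conj ha haM hy hyM hy2 (T.mem_of_comm hra hr2 hyr)

/-- `E ∩ C` and `E ∩ C^a` commute -/
theorem comm_of_mem [Finite G] (T : Tight C M) (h : MaxE C M E) {a x y : G}
    (ha : a ∈ Subgroup.normalizer (E : Set G)) (haM : a ∉ M) (hx : x ∈ E) (hxC : x ∈ C)
    (hy : y ∈ E) (hya : a⁻¹ * y * a ∈ C) : x * y = y * x := by
  have hE : ∀ z ∈ E, a⁻¹ * z * a ∈ E := fun z hz =>
    (Subgroup.mem_normalizer_iff''.mp ha z).mp hz
  -- the commutator
  have h1 : x * y * x⁻¹ * y⁻¹ ∈ C := by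
    have h2 := T.norm y (h.le hy) x⁻¹ (inv_mem hxC)
    have h3 := C.mul_mem hxC h2
    have h4 : x * (y * x⁻¹ * y⁻¹) = x * y * x⁻¹ * y⁻¹ := by group
    rwa [h4] at h3
  have h2 : a⁻¹ * (x * y * x⁻¹ * y⁻¹) * a ∈ C := by
    have h3 := T.norm (a⁻¹ * x * a) (h.le (hE x hx)) _ hya
    have h4 := C.mul_mem h3 (inv_mem hya)
    have h5 : a⁻¹ * x * a * (a⁻¹ * y * a) * (a⁻¹ * x * a)⁻¹ * (a⁻¹ * y * a)⁻¹ =
      a⁻¹ * (x * y * x⁻¹ * y⁻¹) * a := by group
    rwa [h5] at h4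
  have h3 : x * y * x⁻¹ * y⁻¹ ∈ E :=
    mul_mem (mul_mem (mul_mem hx hy) (inv_mem hx)) (inv_mem hy)
  by_contra hne
  have h4 : x * y * x⁻¹ * y⁻¹ ≠ 1 := by
    intro h5
    apply hne
    calc x * y = (x * y * x⁻¹ * y⁻¹) * (y * x) := by group
      _ = y * x := by rw [h5, one_mul]
  obtain ⟨n, hn⟩ := exists_pow_involution h.isPGroup h3 h4
  refine T.inf_odd haM (pow_mem h1 n) ?_ hn
  have h5 : a⁻¹ * (x * y * x⁻¹ * y⁻¹) ^ n * a = (a⁻¹ * (x * y * x⁻¹ * y⁻¹) * a) ^ n := by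
    have := (conj_pow (a := a⁻¹) (b := (x * y * x⁻¹ * y⁻¹)) (i := n))
    rw [inv_inv] at this
    exact this.symm
  rw [h5]
  exact pow_mem h2 n

/-- `E ∩ C` meets trivially `C^a` -/
theorem eq_one_of_mem [Finite G] (T : Tight C M) (h : MaxE C M E) {a x : G}
    (haM : a ∉ M) (hx : x ∈ E) (hxC : x ∈ C) (hxa : a⁻¹ * x * a ∈ C) : x = 1 := by
  by_contra hne
  obtain ⟨n, hn⟩ := exists_pow_involution h.isPGroup hx hne
  refine T.inf_odd haM (pow_mem hxC n) ?_ hn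
  have h5 : a⁻¹ * x ^ n * a = (a⁻¹ * x * a) ^ n := by
    have := (conj_pow (a := a⁻¹) (b := x) (i := n))
    rw [inv_inv] at this
    exact this.symm
  rw [h5]
  exact pow_mem hxa n

/-- If `Q = S ∩ C ≰ E` then some `q ∈ Q ∖ E` normalizes `E`, has its square in `E` and inverts
`E ∩ C`. -/
theorem exists_inverting [Finite G] (T : Tight C M) (h : MaxE C M E) {S : Subgroup G}
    (hS : IsPGroup 2 S) (hSM : S ≤ M) (hES : E ≤ S) (hne : ¬ S ⊓ C ≤ E) :
    ∃ q ∈ S ⊓ C, q ∉ E ∧ q * q ∈ E ∧ q ∈ Subgroup.normalizer (E : Set G) ∧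
      ∀ f ∈ E, f ∈ C → q⁻¹ * f * q = f⁻¹ := by
  obtain ⟨q, hq, hqE, hq2, hqn⟩ := exists_norm_elt (S := S) (E := E) (B := S ⊓ C) hS hES
    inf_le_left (fun s hs b hb => Subgroup.mem_inf.mpr
      ⟨mul_mem (mul_mem hs hb.1) (inv_mem hs), T.norm s (hSM hs) b hb.2⟩)
    hne
  refine ⟨q, hq, hqE, hq2, hqn, ?_⟩
  obtain ⟨a, ha, haM⟩ := h.exists_norm
  have hEq : ∀ z ∈ E, q⁻¹ * z * q ∈ E := fun z hz =>
    (Subgroup.mem_normalizer_iff''.mp hqn z).mp hz
  -- `B = E ∩ C^a`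
  let B : Subgroup G := E ⊓ cj a C
  let A : Subgroup G := E ⊓ C
  have hBA : cj a A = B := by
    show cj a (E ⊓ C) = E ⊓ cj a C
    ext x
    rw [mem_cj, Subgroup.mem_inf, Subgroup.mem_inf, mem_cj]
    rw [← mem_cj (g := a) (X := E), cj_eq_of_mem_normalizer ha]
  have hcard : Nat.card B = Nat.card A := by rw [← hBA, card_cj]
  have hcomm : ∀ x ∈ A, ∀ y ∈ B, x * y = y * x := fun x hx y hy =>
    h.comm_of_mem T ha haM hx.1 hx.2 hy.1 (mem_cj.mp hy.2)
  -- the commutator map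
  have hmem : ∀ e ∈ B, e⁻¹ * (q⁻¹ * e * q) ∈ A := by
    intro e he
    refine Subgroup.mem_inf.mpr ⟨mul_mem (inv_mem he.1) (hEq e he.1), ?_⟩
    have h2 := T.norm e⁻¹ (inv_mem (h.le he.1)) q⁻¹ (inv_mem hq.2)
    have h3 := C.mul_mem h2 hq.2
    have h4 : e⁻¹ * q⁻¹ * e⁻¹⁻¹ * q = e⁻¹ * (q⁻¹ * e * q) := by group
    rwa [h4] at h3
  let φ : B → A := fun e => ⟨(e : G)⁻¹ * (q⁻¹ * e * q), hmem e e.2⟩
  have hφ : ∀ e : B, ((φ e : A) : G) = (e : G)⁻¹ * (q⁻¹ * e * q) := fun e => rfl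
  have hq2A : q * q ∈ A := ⟨hq2, mul_mem hq.2 hq.2⟩
  have hqp : ∃ k : ℕ, q ^ 2 ^ k = 1 := h.sq_isPElt hq2
  have hinj : Function.Injective φ := by
    intro e f hef
    have h1 : (e : G)⁻¹ * (q⁻¹ * e * q) = (f : G)⁻¹ * (q⁻¹ * f * q) := congrArg Subtype.val hef
    -- `e f⁻¹` commutes with `q`
    have h2 : (q⁻¹ * (e : G) * q) = (e : G) * ((f : G)⁻¹ * (q⁻¹ * f * q)) := by
      rw [← h1]; group
    have h3 : (f : G)⁻¹ * (q⁻¹ * f * q) ∈ A := hmem f f.2
    have h4 : q⁻¹ * ((e : G) * (f : G)⁻¹) * q = (e : G) * (f : G)⁻¹ := by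
      have h5 : q⁻¹ * ((e : G) * (f : G)⁻¹) * q = (q⁻¹ * (e : G) * q) * (q⁻¹ * (f : G) * q)⁻¹ := by
        group
      rw [h5, h2]
      have h6 := hcomm _ h3 (f : G)⁻¹ (inv_mem f.2)
      have h7 : (f : G)⁻¹ * (q⁻¹ * ↑f * q) * (f : G)⁻¹ =
        (f : G)⁻¹ * ((f : G)⁻¹ * (q⁻¹ * ↑f * q)) := h6
      have h8 : q⁻¹ * (f : G) * q = (f : G) * ((f : G)⁻¹ * (q⁻¹ * f * q)) := by group
      have h9 : (q⁻¹ * (f : G) * q)⁻¹ = ((f : G)⁻¹ * (q⁻¹ * f * q))⁻¹ * (f : G)⁻¹ := by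
        conv_lhs => rw [h8]
        rw [mul_inv_rev]
      rw [h9]
      group
    by_contra hne'
    have h5 : (e : G) * (f : G)⁻¹ ≠ 1 := by
      intro h6
      apply hne'
      apply Subtype.ext
      rwa [mul_inv_eq_one] at h6
    have h6 : (e : G) * (f : G)⁻¹ ∈ B := mul_mem e.2 (inv_mem f.2)
    obtain ⟨n, hn⟩ := exists_pow_involution h.isPGroup h6.1 h5
    apply hqE
    refine h.mem_of_comm T ha haM hn ?_ hqn (hSM hq.1) hqp ?_
    · exact mem_cj.mp (pow_mem h6 n).2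
    · have h7 : ((e : G) * (f : G)⁻¹) * q = q * ((e : G) * (f : G)⁻¹) := by
        calc ((e : G) * (f : G)⁻¹) * q = q * (q⁻¹ * ((e : G) * (f : G)⁻¹) * q) := by group
          _ = q * ((e : G) * (f : G)⁻¹) := by rw [h4]
      have h8 : Commute ((e : G) * (f : G)⁻¹) q := h7
      exact (h8.pow_left n).eq.symm
  have hsurj : Function.Surjective φ :=
    ((Nat.bijective_iff_injective_and_card φ).mpr ⟨hinj, hcard⟩).2
  intro f hf hfC
  obtain ⟨e, he⟩ := hsurj ⟨f, hf, hfC⟩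
  have he' : (e : G)⁻¹ * (q⁻¹ * e * q) = f := congrArg Subtype.val he
  -- `q²` commutes with `e`
  have h1 := hcomm _ hq2A e e.2
  have h2 : q⁻¹ * (e : G) * q = (e : G) * f := by rw [← he']; group
  have h3 : q⁻¹ * (q⁻¹ * (e : G) * q) * q = e := by
    calc q⁻¹ * (q⁻¹ * (e : G) * q) * q = (q * q)⁻¹ * ((e : G) * (q * q)) := by group
      _ = (q * q)⁻¹ * ((q * q) * e) := by rw [h1]
      _ = e := by group
  rw [h2] at h3
  have h4 : q⁻¹ * ((e : G) * f) * q = (q⁻¹ * (e : G) * q) * (q⁻¹ * f * q) := by group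
  rw [h4, h2] at h3
  have h5 : f * (q⁻¹ * f * q) = 1 := by
    have := congrArg (fun z => (e : G)⁻¹ * z) h3
    simpa [mul_assoc] using this
  exact (eq_inv_of_mul_eq_one_right h5)

/-- **Theorem A**, for any maximal `E`. -/
theorem main [Finite G] (T : Tight C M) (h : MaxE C M E) {S K : Subgroup G}
    (hS : IsPGroup 2 S) (hSM : S ≤ M) (hES : E ≤ S) (hne : ¬ S ⊓ C ≤ E)
    (hKn : ∀ m ∈ M, ∀ k ∈ K, m * k * m⁻¹ ∈ K) (hKC : ∀ k ∈ K, ∀ c ∈ C, k * c = c * k)
    (hKC2 : ∀ x ∈ K, x ∈ C → orderOf x ≠ 2) :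
    S ⊓ K ≤ E ∧ ∀ a ∈ Subgroup.normalizer (E : Set G), a ∉ M → ∀ r ∈ E, orderOf r = 2 →
      a⁻¹ * r * a ∈ C → (∀ c ∈ S ⊓ C, ∀ k ∈ S ⊓ K, r ≠ c * k) := by
  obtain ⟨q, hq, hqE, hq2, hqn, hqinv⟩ := h.exists_inverting T hS hSM hES hne
  have hSK : S ⊓ K ≤ E := by
    by_contra hSKE
    obtain ⟨s, hs, hsE, hs2, hsn⟩ := exists_norm_elt (S := S) (E := E) (B := S ⊓ K) hS hES
      inf_le_left (fun s hs b hb => Subgroup.mem_inf.mpr
        ⟨mul_mem (mul_mem hs hb.1) (inv_mem hs), hKn s (hSM hs) b hb.2⟩)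
      hSKE
    obtain ⟨y, hyM, hyn, e, he, hye⟩ := h.exists_conj hsn (hSM hs.1) hsE hs2 hqn (hSM hq.1) hqE hq2
    obtain ⟨a, ha, haM⟩ := h.exists_norm
    -- an involution of `Z(E) ∩ C^a`
    obtain ⟨x, hxE, hxC, hx2⟩ := h.exists_inv
    obtain ⟨r, hrE, hrC, hr2, hrc⟩ := exists_central_involution (S := E) (N := E ⊓ cj a C)
      h.isPGroup (by
        intro s hs n hn
        refine Subgroup.mem_inf.mpr ⟨mul_mem (mul_mem hs hn.1) (inv_mem hs), ?_⟩
        rw [mem_cj]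
        have h1 : a⁻¹ * s * a ∈ E := (Subgroup.mem_normalizer_iff''.mp ha s).mp hs
        have h2 := T.norm _ (h.le h1) _ (mem_cj.mp hn.2)
        have h3 : a⁻¹ * s * a * (a⁻¹ * n * a) * (a⁻¹ * s * a)⁻¹ = a⁻¹ * (s * n * s⁻¹) * a := by
          group
        rwa [h3] at h2)
      ⟨a * x * a⁻¹, (Subgroup.mem_normalizer_iff.mp ha x).mp hxE,
        ⟨(Subgroup.mem_normalizer_iff.mp ha x).mp hxE, mem_cj_mul hxC⟩, by
          intro h1
          have h2 := orderOf_conj a x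
          rw [h1, orderOf_one, hx2] at h2
          exact absurd h2 (by norm_num)⟩
    have hra : a⁻¹ * r * a ∈ C := mem_cj.mp hrC.2
    -- `s' = y s y⁻¹ = q e`
    have hs'K : q * e ∈ K := by
      rw [← hye]; exact hKn y hyM s hs.2
    have hs'n : q * e ∈ Subgroup.normalizer (E : Set G) :=
      mul_mem hqn (Subgroup.le_normalizer he)
    have hs'E : q * e ∉ E := by
      intro h1
      apply hqE
      have := mul_mem h1 (inv_mem he)
      simpa using this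
    have hs'2 : (q * e) * (q * e) ∈ E := by
      have h1 : q⁻¹ * e * q ∈ E := (Subgroup.mem_normalizer_iff''.mp hqn e).mp he
      have h2 : (q * e) * (q * e) = (q * q) * (q⁻¹ * e * q) * e := by group
      rw [h2]
      exact mul_mem (mul_mem hq2 h1) he
    -- `[r, s'] = [r, q]^e ∈ E ∩ C ∩ K`
    have hrn : r⁻¹ * (q⁻¹ * r * q) ∈ C := by
      have h2 := T.norm r⁻¹ (inv_mem (h.le hrE)) q⁻¹ (inv_mem hq.2)
      have h3 := C.mul_mem h2 hq.2
      have h4 : r⁻¹ * q⁻¹ * r⁻¹⁻¹ * q = r⁻¹ * (q⁻¹ * r * q) := by group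
      rwa [h4] at h3
    have h1 : r⁻¹ * ((q * e)⁻¹ * r * (q * e)) = e⁻¹ * (r⁻¹ * (q⁻¹ * r * q)) * e := by
      have h2 := hrc e he
      calc r⁻¹ * ((q * e)⁻¹ * r * (q * e)) = (r⁻¹ * e⁻¹) * (q⁻¹ * r * q) * e := by group
        _ = (e * r)⁻¹ * (q⁻¹ * r * q) * e := by rw [mul_inv_rev]
        _ = (r * e)⁻¹ * (q⁻¹ * r * q) * e := by rw [h2]
        _ = e⁻¹ * (r⁻¹ * (q⁻¹ * r * q)) * e := by group
    have h2 : r⁻¹ * ((q * e)⁻¹ * r * (q * e)) ∈ C := by
      rw [h1]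
      have := T.norm e⁻¹ (inv_mem (h.le he)) _ hrn
      simpa using this
    have h3 : r⁻¹ * ((q * e)⁻¹ * r * (q * e)) ∈ K := by
      have h4 := hKn r⁻¹ (inv_mem (h.le hrE)) _ (inv_mem hs'K)
      have h5 := K.mul_mem h4 hs'K
      have h6 : r⁻¹ * (q * e)⁻¹ * r⁻¹⁻¹ * (q * e) = r⁻¹ * ((q * e)⁻¹ * r * (q * e)) := by group
      rwa [h6] at h5
    have h4 : r⁻¹ * ((q * e)⁻¹ * r * (q * e)) ∈ E := by
      rw [h1]
      have h5 : q⁻¹ * r * q ∈ E := (Subgroup.mem_normalizer_iff''.mp hqn r).mp hrE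
      exact mul_mem (mul_mem (inv_mem he) (mul_mem (inv_mem hrE) h5)) he
    have h5 : r⁻¹ * ((q * e)⁻¹ * r * (q * e)) = 1 := by
      by_contra hne1
      obtain ⟨n, hn⟩ := exists_pow_involution h.isPGroup h4 hne1
      exact hKC2 _ (pow_mem h3 n) (pow_mem h2 n) hn
    have h6 : (q * e) * r = r * (q * e) := by
      have h7 : (q * e)⁻¹ * r * (q * e) = r := by
        rw [inv_mul_eq_one] at h5
        exact h5.symm
      calc (q * e) * r = (q * e) * ((q * e)⁻¹ * r * (q * e)) := by rw [h7]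
        _ = r * (q * e) := by group
    exact hs'E (h.mem_of_comm T ha haM hr2 hra hs'n (mul_mem (hSM hq.1) (h.le he))
      (h.sq_isPElt hs'2) h6)
  refine ⟨hSK, ?_⟩
  intro a ha haM r hrE hr2 hra c hc k hk hrck
  have hkE : k ∈ E := hSK hk
  have hcE : c ∈ E := by
    have : c = r * k⁻¹ := by rw [hrck]; group
    rw [this]
    exact mul_mem hrE (inv_mem hkE)
  have hkc : k * c = c * k := hKC k hk.2 c hc.2
  have hr22 := mul_self_of_orderOf hr2
  -- `c² k² = 1`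
  have h1 : (c * c) * (k * k) = 1 := by
    calc (c * c) * (k * k) = c * (c * k) * k := by group
      _ = c * (k * c) * k := by rw [hkc]
      _ = (c * k) * (c * k) := by group
      _ = 1 := by rw [← hrck, hr22]
  have h2 : c * c = 1 := by
    by_contra hne1
    obtain ⟨n, hn⟩ := exists_pow_involution h.isPGroup (mul_mem hcE hcE) hne1
    refine hKC2 _ ?_ (pow_mem (mul_mem hc.2 hc.2) n) hn
    have h3 : c * c = (k * k)⁻¹ := eq_inv_of_mul_eq_one_left h1
    have h4 : k * k ∈ K := mul_mem hk.2 hk.2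
    rw [h3]
    exact pow_mem (K.inv_mem h4) n
  have h3 : q⁻¹ * c * q = c := by
    rw [hqinv c hcE hc.2]
    exact inv_eq_of_mul_eq_one_right h2
  have h4 : q * r = r * q := by
    have h5 := hKC k hk.2 q hq.2
    have h6 : c * q = q * c := by
      calc c * q = q * (q⁻¹ * c * q) := by group
        _ = q * c := by rw [h3]
    rw [hrck]
    calc q * (c * k) = (q * c) * k := by group
      _ = (c * q) * k := by rw [h6]
      _ = c * (q * k) := by group
      _ = c * (k * q) := by rw [h5]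
      _ = c * k * q := by group
  exact hqE (h.mem_of_comm T ha haM hr2 hra hqn (hSM hq.1) (h.sq_isPElt hq2) h4)

end MaxE

/-- **Theorem A.** `C ⊴ M` tightly embedded, `r ∈ M` an involution in a conjugate `C^g`, `g ∉ M`;
`K ⊴ M` with `[K, C] = 1`, `K ∩ C` without involutions.  There is a Sylow `2`-subgroup `S` of `M`
with either `(S ∩ C)^a ≤ M` for some `a ∉ M`, or an involution `r ∈ S`, `r ∈ C^a`, `a ∉ M`, that
centralizes `S ∩ K` and is not in `(S ∩ C)(S ∩ K)`. -/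
theorem theoremA [Finite G] {C M K : Subgroup G} (T : Tight C M) {g r : G} (hg : g ∉ M) (hr : r ∈ M)
    (hr2 : orderOf r = 2) (hrg : g⁻¹ * r * g ∈ C)
    (hKn : ∀ m ∈ M, ∀ k ∈ K, m * k * m⁻¹ ∈ K) (hKC : ∀ k ∈ K, ∀ c ∈ C, k * c = c * k)
    (hKC2 : ∀ x ∈ K, x ∈ C → orderOf x ≠ 2) :
    ∃ S : Subgroup G, (∃ P : Sylow 2 M, (P : Subgroup M).map M.subtype = S) ∧ ∃ a : G, a ∉ M ∧
      ((∀ x ∈ S ⊓ C, a * x * a⁻¹ ∈ S) ∨
        ∃ r ∈ S, orderOf r = 2 ∧ a⁻¹ * r * a ∈ C ∧ (∀ k ∈ S ⊓ K, r * k = k * r) ∧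
          ∀ c ∈ S ⊓ C, ∀ k ∈ S ⊓ K, r ≠ c * k) := by
  obtain ⟨E, hE⟩ := T.exists_maxE hg hr hr2 hrg
  obtain ⟨S, hS, hES⟩ := exists_sylow_ge hE.isPGroup hE.le
  have hS' := exists_sylow_map_eq_iff.mp hS
  obtain ⟨a, ha, haM⟩ := hE.exists_norm
  refine ⟨S, hS, a, haM, ?_⟩
  by_cases hne : S ⊓ C ≤ E
  · left
    intro x hx
    exact hES ((Subgroup.mem_normalizer_iff.mp ha x).mp (hne hx))
  · right
    obtain ⟨h1, h2⟩ := hE.main T hS'.2.1 hS'.1 hES hne hKn hKC hKC2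
    obtain ⟨x, hxE, hxC, hx2⟩ := hE.exists_inv
    obtain ⟨r, hrE, hrC, hr2, hrc⟩ := exists_central_involution (S := E) (N := E ⊓ cj a C)
      hE.isPGroup (by
        intro s hs n hn
        refine Subgroup.mem_inf.mpr ⟨mul_mem (mul_mem hs hn.1) (inv_mem hs), ?_⟩
        rw [mem_cj]
        have h1 : a⁻¹ * s * a ∈ E := (Subgroup.mem_normalizer_iff''.mp ha s).mp hs
        have h2 := T.norm _ (hE.le h1) _ (mem_cj.mp hn.2)
        have h3 : a⁻¹ * s * a * (a⁻¹ * n * a) * (a⁻¹ * s * a)⁻¹ = a⁻¹ * (s * n * s⁻¹) * a := by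
          group
        rwa [h3] at h2)
      ⟨a * x * a⁻¹, (Subgroup.mem_normalizer_iff.mp ha x).mp hxE,
        ⟨(Subgroup.mem_normalizer_iff.mp ha x).mp hxE, mem_cj_mul hxC⟩, by
          intro h1
          have h2 := orderOf_conj a x
          rw [h1, orderOf_one, hx2] at h2
          exact absurd h2 (by norm_num)⟩
    have hra : a⁻¹ * r * a ∈ C := mem_cj.mp hrC.2
    exact ⟨r, hES hrE, hr2, hra, fun k hk => (hrc k (h1 hk)).symm,
      h2 a ha haM r hrE hr2 hra⟩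

end Main

end Cfsg.Agent.OddHalf.D4.CommConj
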