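import Mathlib
import Cfsg.Agent.OddHalf.D4.Basic
import Cfsg.Agent.OddHalf.D4.CommConj
set_option linter.all false

/-!
# ODD, D4: `N(K) ∩ N(L)` contains no Sylow 2-subgroup of `C(K) × K`

`K` is a (simple) standard component with: 2-elements of `N(K)` centralizing a Sylow 2-subgroup of `K` are inner
(`inner`), one central involution in a Sylow 2-subgroup of `K` (`uniq`), and the normalizer of a Sylow 2-subgroup of
`N(K)` lies in `N(K)` (`norm`; from `CaseOneA`). If `L ≠ K` is a conjugate of `K` then `N(K) ∩ N(L)` does not contain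
a Sylow 2-subgroup of `C(K) × K`.
-/

set_option autoImplicit false

namespace Cfsg.Agent.OddHalf.D4

open Subgroup Basic
open Cfsg.Agent.OddHalf.D4.CommConj (Tight cj mem_cj cj_mul card_cj cj_eq_of_mem_normalizer mem_normalizer_of_cj_eq
  mem_cj_mul)

variable {G : Type*} [Group G]

/-- The hypotheses on `K` used in `no_big`. -/
structure Loc (K : Subgroup G) : Prop where
  tight : Tight (centralizer (K : Set G)) (normalizer (K : Set G))
  even : Even (Nat.card ↥(centralizer (K : Set G)))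
  cen : ∀ x ∈ K, x ∈ centralizer (K : Set G) → x = 1
  /-- (F1) -/
  inner : ∀ T : Subgroup G, IsSyl T (normalizer (K : Set G)) → ∀ y ∈ T, (∀ s ∈ T, s ∈ K → s * y = y * s) →
    ∃ k ∈ centralizer (K : Set G), ∃ s ∈ T, s ∈ K ∧ (∀ u ∈ T, u ∈ K → u * s = s * u) ∧ y = k * s
  /-- (F5) -/
  uniq : ∀ T : Subgroup G, IsSyl T (normalizer (K : Set G)) →
    ∀ s ∈ T, s ∈ K → orderOf s = 2 → (∀ u ∈ T, u ∈ K → u * s = s * u) →
    ∀ s' ∈ T, s' ∈ K → orderOf s' = 2 → (∀ u ∈ T, u ∈ K → u * s' = s' * u) → s = s'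
  /-- (1A) is dead -/
  norm : ∀ T : Subgroup G, IsSyl T (normalizer (K : Set G)) → normalizer (T : Set G) ≤ normalizer (K : Set G)

/-- conjugates of Sylow subgroups -/
theorem Basic.IsSyl.cj {T M : Subgroup G} (h : IsSyl T M) (g : G) : IsSyl (cj g T) (cj g M) := by
  refine ⟨h.two.map _, map_mono h.le, ?_⟩
  intro Q hQ hle hQM
  have h1 : CommConj.cj g⁻¹ Q ≤ T := by
    apply h.max _ (hQ.map _)
    · intro t ht
      rw [mem_cj, inv_inv]
      exact hle (mem_cj_mul ht)
    · intro x hx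
      rw [mem_cj, inv_inv] at hx
      have h2 := mem_cj.mp (hQM hx)
      have h3 : g⁻¹ * (g * x * g⁻¹) * g = x := by group
      rwa [h3] at h2
  intro q hq
  rw [mem_cj]
  apply h1
  rw [mem_cj, inv_inv]
  have h3 : g * (g⁻¹ * q * g) * g⁻¹ = q := by group
  rw [h3]; exact hq

theorem Basic.IsSyl.card_le [Finite G] {T M Q : Subgroup G} (h : IsSyl T M) (hQ : IsPGroup 2 ↥Q) (hQM : Q ≤ M) :
    Nat.card ↥Q ≤ Nat.card ↥T := by
  obtain ⟨m, _, hm⟩ := h.conj_into hQ hQM
  have h2 : CommConj.cj m Q ≤ T := by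
    rintro _ ⟨q, hq, rfl⟩
    exact hm q hq
  rw [← card_cj m Q]
  exact Subgroup.card_le_of_le h2

theorem Basic.IsSyl.card_eq [Finite G] {T M Q : Subgroup G} (h : IsSyl T M) (hQ : IsSyl Q M) :
    Nat.card ↥Q = Nat.card ↥T :=
  le_antisymm (h.card_le hQ.two hQ.le) (hQ.card_le h.two h.le)

theorem Basic.IsSyl.of_card [Finite G] {T M Q : Subgroup G} (h : IsSyl T M) (hQ : IsPGroup 2 ↥Q) (hQM : Q ≤ M)
    (hc : Nat.card ↥T ≤ Nat.card ↥Q) : IsSyl Q M := by
  refine ⟨hQ, hQM, ?_⟩
  intro Q' hQ' hle hQM'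
  have h1 := h.card_le hQ' hQM'
  exact (eq_of_le_of_card_ge hle (h1.trans hc)).ge

/-- Two Sylow 2-subgroups of `M` are conjugate. -/
theorem Basic.IsSyl.exists_cj [Finite G] {T M Q : Subgroup G} (h : IsSyl T M) (hQ : IsSyl Q M) :
    ∃ m ∈ M, CommConj.cj m Q = T := by
  obtain ⟨m, hmM, hm⟩ := h.conj_into hQ.two hQ.le
  refine ⟨m, hmM, ?_⟩
  have h2 : CommConj.cj m Q ≤ T := by
    rintro _ ⟨q, hq, rfl⟩
    exact hm q hq
  apply eq_of_le_of_card_ge h2
  rw [card_cj, h.card_eq hQ]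

/-- A proper 2-subgroup of a 2-group is properly contained in its normalizer. -/
theorem Basic.exists_mem_normalizer [Finite G] {P T : Subgroup G} (hT : IsPGroup 2 ↥T) (hPT : P ≤ T) (hne : ¬ T ≤ P) :
    ∃ b ∈ T, b ∉ P ∧ b ∈ normalizer (P : Set G) := by
  obtain ⟨b, hb, hbP, _, hbn⟩ := CommConj.exists_norm_elt hT hPT le_rfl
    (fun s hs b hb => T.mul_mem (T.mul_mem hs hb) (T.inv_mem hs)) hne
  exact ⟨b, hb, hbP, hbn⟩

variable [Finite G]

theorem no_big {K : Subgroup G} (h : Loc K) {g : G} (hg : g ∉ normalizer (K : Set G)) {R SK : Subgroup G}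
    (hR : IsSyl R (centralizer (K : Set G))) (hSK : IsSyl SK K)
    (hRg : R ≤ cj g (normalizer (K : Set G))) (hSg : SK ≤ cj g (normalizer (K : Set G))) : False := by
  classical
  set M := normalizer (K : Set G) with hM
  have hCM : centralizer (K : Set G) ≤ M := h.tight.le
  have hKM : K ≤ M := le_normalizer
  -- `R` and `SK` generate a 2-group
  have hcomm : ∀ r ∈ R, ∀ s ∈ SK, r * s = s * r := fun r hr s hs =>
    (mem_centralizer_iff.mp (hR.le hr) s (hSK.le hs)).symm
  have hSKn : SK ≤ normalizer (R : Set G) := by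
    intro s hs
    rw [mem_normalizer_iff]
    intro r
    constructor
    · intro hr
      have : s * r * s⁻¹ = r := by rw [← hcomm r hr s hs]; group
      rw [this]; exact hr
    · intro hr
      have h2 := hcomm _ hr s hs
      have : r = s * r * s⁻¹ := by
        have h3 : s⁻¹ * (s * r * s⁻¹ * s) = s⁻¹ * (s * (s * r * s⁻¹)) := by rw [h2]
        have h4 : r = s * r * s⁻¹ := by
          calc r = s⁻¹ * (s * r * s⁻¹ * s) := by group
            _ = s⁻¹ * (s * (s * r * s⁻¹)) := h3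
            _ = s * r * s⁻¹ := by group
        exact h4
      rw [this]; exact hr
  have hP0 : IsPGroup 2 ↥(R ⊔ SK) := hR.two.to_sup_of_normal_left' hSK.two hSKn
  -- the family
  let F : Set (Subgroup G) := {P | IsPGroup 2 ↥P ∧ R ≤ P ∧ SK ≤ P ∧ P ≤ M ∧ ∃ a, a ∉ M ∧ P ≤ cj a M}
  have hF : F.Nonempty := ⟨R ⊔ SK, hP0, le_sup_left, le_sup_right,
    sup_le (hR.le.trans hCM) (hSK.le.trans hKM), g, hg, sup_le hRg hSg⟩
  obtain ⟨P, hP⟩ := (Set.toFinite F).exists_maximal hF
  obtain ⟨hP2, hRP, hSP, hPM, a, ha, hPa⟩ := hP.prop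
  have hmax : ∀ Q : Subgroup G, IsPGroup 2 ↥Q → P ≤ Q → Q ≤ M → (∃ n, n ∉ M ∧ Q ≤ cj n M) → Q ≤ P := by
    intro Q hQ hle hQM hn
    exact hP.le_of_ge (show Q ∈ F from ⟨hQ, hRP.trans hle, hSP.trans hle, hQM, hn⟩) hle
  -- a Sylow 2-subgroup of `M`
  obtain ⟨T, hT, hPT⟩ := exists_isSyl hP2 hPM
  -- `N_G(P) ≤ M` is impossible
  have hX : ¬ normalizer (P : Set G) ≤ M := by
    intro hX
    obtain ⟨T', hT', hPT'⟩ := exists_isSyl hP2 hPa
    have hTP' : T' ≤ P := by
      by_contra hne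
      obtain ⟨b, hb, hbP, hbn⟩ := exists_mem_normalizer hT'.two hPT' hne
      apply hbP
      have h1 : P ⊔ zpowers b ≤ P := by
        apply hmax _ (hT'.two.to_le (sup_le hPT' (by rw [zpowers_le]; exact hb))) le_sup_left
        · exact sup_le hPM (by rw [zpowers_le]; exact hX hbn)
        · exact ⟨a, ha, sup_le hPa (by rw [zpowers_le]; exact hT'.le hb)⟩
      exact h1 (mem_sup_right (mem_zpowers b))
    have hPT'' : P = T' := le_antisymm hPT' hTP'
    subst hPT''
    -- `P` is Sylow in `M` and in `M^a`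
    have hTa := hT.cj a
    have hcard : Nat.card ↥T = Nat.card ↥P := by
      rw [← card_cj a T]; exact (hTa.card_eq hT').symm
    have hPS : IsSyl P M := hT.of_card hP2 hPM hcard.le
    obtain ⟨m, hm, hmP⟩ := hT'.exists_cj (hPS.cj a)
    rw [← cj_mul] at hmP
    have h1 := hX (mem_normalizer_of_cj_eq hmP)
    have h2 := mem_cj.mp hm
    apply ha
    have h3 : a = (m * a) * (a⁻¹ * m * a)⁻¹ := by group
    rw [h3]
    exact M.mul_mem h1 (M.inv_mem h2)
  obtain ⟨n, hn, hnM⟩ := SetLike.not_le_iff_exists.mp hX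
  -- `P < T`
  have hTP : ¬ T ≤ P := by
    intro hle
    have h1 : P = T := le_antisymm hPT hle
    apply hX
    rw [h1]
    exact h.norm T hT
  -- `T ∩ K = SK`, `T ∩ C(K) = R`
  have hTK : ∀ s ∈ T, s ∈ K → s ∈ SK := by
    intro s hs hsK
    exact hSK.max (T ⊓ K) (hT.two.to_le inf_le_left) (le_inf (hSP.trans hPT) hSK.le) inf_le_right ⟨hs, hsK⟩
  have hTC : ∀ s ∈ T, s ∈ centralizer (K : Set G) → s ∈ R := by
    intro s hs hsK
    exact hR.max (T ⊓ centralizer (K : Set G)) (hT.two.to_le inf_le_left) (le_inf (hRP.trans hPT) hR.le)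
      inf_le_right ⟨hs, hsK⟩
  have htight : ∀ k ∈ centralizer (K : Set G), orderOf k = 2 → ∀ x, x * k = k * x → x ∈ M := by
    intro k hk hk2 x hx
    apply h.tight.tight x k hk hk2
    have : x * k * x⁻¹ = k := by rw [hx]; group
    rw [this]; exact hk
  -- a central involution of `T` in `C(K)`
  obtain ⟨c, ⟨hcT, hcC⟩, hc2, hcc⟩ := exists_central_invol (T := T) (N := T ⊓ centralizer (K : Set G)) hT.two
    inf_le_left (by
      intro hbot
      obtain ⟨u, hu, hu2⟩ := exists_invol_of_even h.even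
      have hup : IsPGroup 2 ↥(zpowers u) := by
        rw [IsPGroup.iff_card]; exact ⟨1, by rw [Nat.card_zpowers, hu2]; norm_num⟩
      obtain ⟨m, hm, hmu⟩ := hR.conj_into hup (by rw [zpowers_le]; exact hu)
      have h1 : m * u * m⁻¹ ∈ T ⊓ centralizer (K : Set G) :=
        ⟨hPT (hRP (hmu u (mem_zpowers u))), hR.le (hmu u (mem_zpowers u))⟩
      rw [hbot, mem_bot] at h1
      have h2 : orderOf (m * u * m⁻¹) = 2 := by rw [Basic.orderOf_conj]; exact hu2
      rw [h1, orderOf_one] at h2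
      norm_num at h2) (by
      rintro t ht x ⟨hx1, hx2⟩
      exact ⟨T.mul_mem (T.mul_mem ht hx1) (T.inv_mem ht), h.tight.norm t (hT.le ht) x hx2⟩)
  have hcP : c ∈ P := hRP (hTC c hcT hcC)
  have hc1 : c * c = 1 := by rw [← pow_two, ← hc2]; exact pow_orderOf_eq_one c
  have hnP : ∀ x, x ∈ P ↔ n * x * n⁻¹ ∈ P := mem_normalizer_iff.mp hn
  -- the conjugates under `n` of involutions of `C(K) ∩ Z(P)`
  have key : ∀ d ∈ P, d ∈ centralizer (K : Set G) → orderOf d = 2 → (∀ x ∈ P, x * d = d * x) →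
      ∃ k ∈ centralizer (K : Set G), ∃ s ∈ T, s ∈ K ∧ orderOf s = 2 ∧ (∀ u ∈ T, u * s = s * u) ∧
        n * d * n⁻¹ = k * s ∧ k * k = 1 ∧ k ∈ P ∧ (∀ x ∈ P, x * k = k * x) := by
    intro d hd hdC hd2 hdP
    have hyP : n * d * n⁻¹ ∈ P := (hnP d).mp hd
    have hyc : ∀ x ∈ P, x * (n * d * n⁻¹) = (n * d * n⁻¹) * x := by
      intro x hx
      have hx' : n⁻¹ * x * n ∈ P := by
        rw [hnP]
        have : n * (n⁻¹ * x * n) * n⁻¹ = x := by group
        rw [this]; exact hx
      have h1 := hdP _ hx'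
      calc x * (n * d * n⁻¹) = n * ((n⁻¹ * x * n) * d) * n⁻¹ := by group
        _ = n * (d * (n⁻¹ * x * n)) * n⁻¹ := by rw [h1]
        _ = (n * d * n⁻¹) * x := by group
    obtain ⟨k, hk, s, hsT, hsK, hsc, hys⟩ := h.inner T hT _ (hPT hyP) (fun s hs hsK => hyc s (hSP (hTK s hs hsK)))
    have hy2 : orderOf (n * d * n⁻¹) = 2 := by rw [Basic.orderOf_conj]; exact hd2
    have hyy : (n * d * n⁻¹) * (n * d * n⁻¹) = 1 := by
      rw [← pow_two, ← hy2]; exact pow_orderOf_eq_one _
    rw [hys] at hyy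
    have hsk : s * k = k * s := mem_centralizer_iff.mp hk s hsK
    have h2 : (k * k) * (s * s) = 1 := by
      calc (k * k) * (s * s) = k * (k * s) * s := by group
        _ = k * (s * k) * s := by rw [hsk]
        _ = (k * s) * (k * s) := by group
        _ = 1 := hyy
    have h3 : k * k = (s * s)⁻¹ := eq_inv_of_mul_eq_one_left h2
    have hkk : k * k = 1 := h.cen _ (by rw [h3]; exact K.inv_mem (K.mul_mem hsK hsK))
      ((centralizer (K : Set G)).mul_mem hk hk)
    have hss : s * s = 1 := by rw [hkk, one_mul] at h2; exact h2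
    have hs1 : s ≠ 1 := by
      rintro rfl
      rw [mul_one] at hys
      apply hnM
      apply h.tight.tight n d hdC hd2
      rw [hys]; exact hk
    have hs2 : orderOf s = 2 := orderOf_eq_prime (by rw [pow_two]; exact hss) hs1
    have hsT' : ∀ u ∈ T, u * s = s * u := by
      intro u hu
      have h4 : u * s * u⁻¹ = s := by
        apply h.uniq T hT (u * s * u⁻¹) (T.mul_mem (T.mul_mem hu hsT) (T.inv_mem hu))
          ((mem_normalizer_iff.mp (hT.le hu) s).mp hsK) (by rw [Basic.orderOf_conj]; exact hs2) _ s hsT hsK hs2 hsc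
        intro v hv hvK
        have h5 : u⁻¹ * v * u ∈ T := T.mul_mem (T.mul_mem (T.inv_mem hu) hv) hu
        have h6 : u⁻¹ * v * u ∈ K := (mem_normalizer_iff''.mp (hT.le hu) v).mp hvK
        have h7 := hsc _ h5 h6
        calc v * (u * s * u⁻¹) = u * ((u⁻¹ * v * u) * s) * u⁻¹ := by group
          _ = u * (s * (u⁻¹ * v * u)) * u⁻¹ := by rw [h7]
          _ = (u * s * u⁻¹) * v := by group
      calc u * s = (u * s * u⁻¹) * u := by group
        _ = s * u := by rw [h4]
    have hsP : s ∈ P := hSP (hTK s hsT hsK)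
    have hkeq : k = (n * d * n⁻¹) * s := by
      rw [hys]
      calc k = k * (s * s) := by rw [hss, mul_one]
        _ = k * s * s := by group
    refine ⟨k, hk, s, hsT, hsK, hs2, hsT', hys, hkk, ?_, ?_⟩
    · rw [hkeq]; exact P.mul_mem hyP hsP
    · intro x hx
      rw [hkeq]
      calc x * ((n * d * n⁻¹) * s) = (x * (n * d * n⁻¹)) * s := by group
        _ = (n * d * n⁻¹) * x * s := by rw [hyc x hx]
        _ = (n * d * n⁻¹) * (x * s) := by group
        _ = (n * d * n⁻¹) * (s * x) := by rw [hsT' x (hPT hx)]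
        _ = (n * d * n⁻¹) * s * x := by group
  have hcPc : ∀ x ∈ P, x * c = c * x := fun x hx => hcc x (hPT hx)
  obtain ⟨k, hk, s, hsT, hsK, hs2, hsT', hys, hkk, hkP, hkPc⟩ := key c hcP hcC hc2 hcPc
  -- `T` in `M^n` is impossible
  have hTn : ∀ d, d ∈ centralizer (K : Set G) → orderOf d = 2 → (∀ u ∈ T, u * (n * d * n⁻¹) = (n * d * n⁻¹) * u) →
      False := by
    intro d hd hd2 hdT
    apply hTP
    apply hmax T hT.two hPT hT.le
    refine ⟨n, hnM, ?_⟩
    intro u hu
    rw [mem_cj]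
    apply htight d hd hd2
    have h1 := hdT u hu
    calc n⁻¹ * u * n * d = n⁻¹ * (u * (n * d * n⁻¹)) * n := by group
      _ = n⁻¹ * ((n * d * n⁻¹) * u) * n := by rw [h1]
      _ = d * (n⁻¹ * u * n) := by group
  have hk1 : k ≠ 1 := by
    rintro rfl
    rw [one_mul] at hys
    apply hTn c hcC hc2
    rw [hys]; exact hsT'
  have hk2 : orderOf k = 2 := orderOf_eq_prime (by rw [pow_two]; exact hkk) hk1
  -- uniqueness: `k = c`
  have hkc : k = c := by
    by_contra hne
    obtain ⟨k', hk', s', hsT'', hsK'', hs2'', hsT''', hys'', hkk', _, _⟩ := key k hkP hk hk2 hkPc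
    have hss : s = s' := h.uniq T hT s hsT hsK hs2 (fun u hu _ => hsT' u hu) s' hsT'' hsK'' hs2''
      (fun u hu _ => hsT''' u hu)
    subst hss
    have hs1 : s * s = 1 := by rw [← pow_two, ← hs2]; exact pow_orderOf_eq_one s
    have hck : c * k = k * c := (hkPc c hcP)
    apply hnM
    apply h.tight.tight n (c * k) ((centralizer (K : Set G)).mul_mem hcC hk)
    · apply orderOf_eq_prime
      · rw [pow_two]
        calc (c * k) * (c * k) = c * (k * c) * k := by group
          _ = c * (c * k) * k := by rw [hck]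
          _ = (c * c) * (k * k) := by group
          _ = 1 := by rw [hc1, hkk, one_mul]
      · intro h1
        apply hne
        have h2 : k = c⁻¹ := (eq_inv_of_mul_eq_one_right h1)
        rw [h2, inv_eq_iff_mul_eq_one]
        exact hc1
    · have h3 : n * (c * k) * n⁻¹ = (n * c * n⁻¹) * (n * k * n⁻¹) := by group
      rw [h3, hys, hys'']
      have h4 : s * k' = k' * s := mem_centralizer_iff.mp hk' s hsK
      have h5 : (k * s) * (k' * s) = k * k' := by
        calc (k * s) * (k' * s) = k * (s * k') * s := by group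
          _ = k * (k' * s) * s := by rw [h4]
          _ = k * k' * (s * s) := by group
          _ = k * k' := by rw [hs1, mul_one]
      rw [h5]
      exact (centralizer (K : Set G)).mul_mem hk hk'
  subst hkc
  apply hTn k hcC hc2
  intro u hu
  rw [hys]
  calc u * (k * s) = (u * k) * s := by group
    _ = k * u * s := by rw [hcc u hu]
    _ = k * (u * s) := by group
    _ = k * (s * u) := by rw [hsT' u hu]
    _ = (k * s) * u := by group

end Cfsg.Agent.OddHalf.D4
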