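import Mathlib
import Cfsg.Agent.OddHalf.D8.HS.Elim_m3
import Cfsg.Agent.KFacts.SLRow.Row
import Cfsg.Agent.OddHalf.Quat.Classical_m3
import Cfsg.Agent.OddHalf.DblR.MinusTor
import Cfsg.Agent.OddHalf.D9.FFour.Out_m3
import Cfsg.Agent.OddHalf.D7Out.TransGen_m3
import Cfsg.Agent.KFacts.RgdAutFacts
import Cfsg.Agent.OddHalf.Quat.KTwoOf_m3
import Cfsg.Agent.KFacts.RgdOver
import Cfsg.Agent.KFacts.SLRow.OmegaPlus_m3
import Cfsg.Agent.KFacts.RgdOwn_m3
import Cfsg.Agent.KFacts.ChevTwoSysInst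
import Cfsg.Agent.KFacts.ChevTwoInstE
import Cfsg.Agent.Schreier.ClassAll
import Cfsg.Agent.Schreier.Chev
import Cfsg.Agent.OddHalf.DblR.HexG.Model_m3
import Cfsg.Agent.OddHalf.D4.Final.Inst_m3
import Cfsg.Agent.OddHalf.D4.U3.MkNor_mg
import Cfsg.Agent.OddHalf.DblR.SheetTwE6_m3
import Cfsg.Agent.OddHalf.D8.RuFam.PlaneRu_m3
import Cfsg.Agent.FastGrp
import Cfsg.Agent.Prune
set_option linter.all false
prune_inst 0x7ffdfefabfb9fddfffff7e7fffdfdffdf9f9dfffe6fffd4b7fe8ebff1bff0b0cafe5fbaf8de0d2fe1fd7e23c10b87853fbffceffe36bdc7ffffd5ff45ffbee1fb5e7bd0d71f6bc3c0f7c4fff8bf07fce7f3fffffffffffffffffffffffffffbefffdffffffff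
open scoped Cfsg.Agent.FastGrp

-- part: OddHalf/D4/RowsSL
section
-- merged: Cfsg.Agent.KFacts.SysBF
section

/-!
# `BFacts` for the simply laced groups over `F_q`, `q ≥ 4` even (ODD, D4, free pairs)

* `bFacts_of_isSLC` : `IsSLC q M K₀`, `q ≥ 3` and (k3) give `BFacts K₀`;
* `bFacts_of_isSLC_rigid` : the same without (k3) if the diagram has no symmetries;
* `bFacts_E7`, `bFacts_E8`.
-/

set_option autoImplicit false
set_option linter.unusedSectionVars false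

namespace Cfsg.Agent.KFacts.SysBF

open CoxeterSystem Cfsg.Agent.ChevalleyStructure.CoxeterGeom Cfsg.Agent.Tits.Roots Cfsg.Agent.Tits.Core
  Cfsg.Agent.Nodes.Reps Cfsg.Agent.Nodes.BNOf Cfsg.Agent.Nodes.RGDLib Cfsg.Agent.KFacts.SLRow.Def
  Cfsg.Agent.KFacts.ChevTwo Cfsg.Agent.KFacts.SLRow.Row Cfsg.Agent.KFacts.SLRow.Diag
  Cfsg.Agent.KFacts.SysFree Cfsg.Agent.KFacts.SysFltS Cfsg.Agent.KFacts.SysFour Cfsg.Agent.OddHalf.D4.Free
open Cfsg.Lie

universe u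

section

variable {G : Type*} [Group G] [Finite G] {K₀ : Subgroup G} {q l : ℕ} {M : CoxeterMatrix (Fin l)}

/-- **`BFacts` for a simply laced group**, from (k3). -/
theorem bFacts_of_isSLC (hK : IsSLC q M ↥K₀) (h3 : ∀ S, Good K₀ S → ∃ U L, FltS K₀ S U L) : BFacts K₀ := by
  obtain ⟨A, h, T, n, X, F, _, _, _, e, hW, rfl, hM, D, S⟩ := hK
  have hne : Nonempty (Fin l) := Fintype.card_pos_iff.1 (by have := D.three; omega)
  have H : Hyp M.toCoxeterSystem h T X := hyp_of_SL (R := D.rgd) D.gen D.cent (fun J hJ hJc => by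
    obtain ⟨a, ha, b, hb, hab⟩ := D.irr J hJ (by
      by_contra hcon
      rw [Set.not_nonempty_iff_eq_empty, Set.compl_empty_iff] at hcon
      exact hJc hcon)
    exact ⟨a, ha, b, hb, hab⟩) D.h4 D.h6
  exact bFacts_of H S hM K₀.subtype_injective K₀.range_subtype h3
    (out5_of_SL H S D.h4 D.h6 D.three K₀.subtype_injective K₀.range_subtype)

/-- **`BFacts` for a simply laced group without diagram symmetries**. -/
theorem bFacts_of_isSLC_rigid (hK : IsSLC q M ↥K₀) (hq : 3 ≤ q)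
    (hrig : ∀ σ : Equiv.Perm (Fin l), (∀ i j, M (σ i) (σ j) = M i j) → σ = 1) : BFacts K₀ := by
  refine bFacts_of_isSLC hK fun S hS => ?_
  obtain ⟨A, h, T, n, X, F, _, _, _, e, hW, rfl, hM, D, S'⟩ := hK
  have hne : Nonempty (Fin l) := Fintype.card_pos_iff.1 (by have := D.three; omega)
  have H : Hyp M.toCoxeterSystem h T X := hyp_of_SL (R := D.rgd) D.gen D.cent (fun J hJ hJc => by
    obtain ⟨a, ha, b, hb, hab⟩ := D.irr J hJ (by
      by_contra hcon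
      rw [Set.not_nonempty_iff_eq_empty, Set.compl_empty_iff] at hcon
      exact hJc hcon)
    exact ⟨a, ha, b, hb, hab⟩) D.h4 D.h6
  exact fltS_of_rigid H S' hq hrig K₀.subtype_injective K₀.range_subtype hS

end

/-! ### The diagrams `E₇`, `E₈` -/

theorem rigid_E7 (σ : Equiv.Perm (Fin 7)) (hσ : ∀ i j, CoxeterMatrix.E₇ (σ i) (σ j) = CoxeterMatrix.E₇ i j) : σ = 1 := by
  have hm : ∀ i j, m7 i j = 3 → m7 (σ i) (σ j) = 3 := fun i j h => (hσ i j).trans h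
  have hi : ∀ i j, i ≠ j → σ i ≠ σ j := fun i j h => σ.injective.ne h
  have h := e7 (σ 3) (σ 1) (hm 1 3 rfl) (σ 2) (hm 2 3 rfl) (hi _ _ (by decide)) (σ 4) (hm 4 3 rfl) (hi _ _ (by decide))
    (hi _ _ (by decide)) (σ 0) (hm 0 2 rfl) (hi _ _ (by decide)) (σ 5) (hm 5 4 rfl) (hi _ _ (by decide))
    (σ 6) (hm 6 5 rfl) (hi _ _ (by decide))
  refine Equiv.ext fun i => ?_
  rw [Equiv.Perm.one_apply]
  fin_cases i
  · exact h.1
  · exact h.2.1
  · exact h.2.2.1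
  · exact h.2.2.2.1
  · exact h.2.2.2.2.1
  · exact h.2.2.2.2.2.1
  · exact h.2.2.2.2.2.2

theorem rigid_E8 (σ : Equiv.Perm (Fin 8)) (hσ : ∀ i j, CoxeterMatrix.E₈ (σ i) (σ j) = CoxeterMatrix.E₈ i j) : σ = 1 := by
  have hm : ∀ i j, m8 i j = 3 → m8 (σ i) (σ j) = 3 := fun i j h => (hσ i j).trans h
  have hi : ∀ i j, i ≠ j → σ i ≠ σ j := fun i j h => σ.injective.ne h
  have h := e8 (σ 3) (σ 1) (hm 1 3 rfl) (σ 2) (hm 2 3 rfl) (hi _ _ (by decide)) (σ 4) (hm 4 3 rfl) (hi _ _ (by decide))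
    (hi _ _ (by decide)) (σ 0) (hm 0 2 rfl) (hi _ _ (by decide)) (σ 5) (hm 5 4 rfl) (hi _ _ (by decide))
    (σ 6) (hm 6 5 rfl) (hi _ _ (by decide)) (σ 7) (hm 7 6 rfl) (hi _ _ (by decide))
  refine Equiv.ext fun i => ?_
  rw [Equiv.Perm.one_apply]
  fin_cases i
  · exact h.1
  · exact h.2.1
  · exact h.2.2.1
  · exact h.2.2.2.1
  · exact h.2.2.2.2.1
  · exact h.2.2.2.2.2.1
  · exact h.2.2.2.2.2.2.1
  · exact h.2.2.2.2.2.2.2

/-! ### The families -/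

section

open Cfsg.Agent.OddHalf.D4.Basic


theorem pow_ge {a : ℕ} (ha : 2 ≤ a) : 3 ≤ 2 ^ a :=
  (by norm_num : 3 ≤ 2 ^ 2).trans (Nat.pow_le_pow_right (by norm_num) ha)

open Cfsg.Agent.LieRecognition.BNCox (cA) in
theorem isSLC_Lne {X : Type*} [Group X] (hX : Cfsg.Agent.OddHalf.D4.Cut.Lne X) :
    ∃ q n : ℕ, 3 ≤ q ∧ 3 ≤ n ∧ IsSLC q (cA n) X := by
  obtain ⟨F, _, _, a, m, ha, hF, hm, ⟨e⟩⟩ := hX
  have := charTwo_of_card hF
  obtain ⟨n, rfl⟩ : ∃ n, m = n + 1 := ⟨m - 1, by omega⟩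
  exact ⟨Nat.card F, n, by rw [Nat.card_eq_fintype_card, hF]; exact pow_ge ha, by omega,
    (isSLC_PSL (by omega) F).of_equiv e.symm⟩

theorem isSLC_Ope {X : Type*} [Group X] (hX : Cfsg.Agent.OddHalf.D4.Cut.Ope X) :
    ∃ q n : ℕ, 3 ≤ q ∧ 2 ≤ n ∧ IsSLC q (Cfsg.Agent.Nodes.TypeD.M n) X := by
  obtain ⟨F, _, _, a, m, ha, hF, hm, ⟨e⟩⟩ := hX
  have := charTwo_of_card hF
  obtain ⟨n, rfl⟩ : ∃ n, m = n + 2 := ⟨m - 2, by omega⟩
  exact ⟨Nat.card F, n, by rw [Nat.card_eq_fintype_card, hF]; exact pow_ge ha, by omega,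
    (isSLC_OPlus (by omega) F).of_equiv e.symm⟩

theorem isSLC_E6e {X : Type*} [Group X] (hX : Cfsg.Agent.OddHalf.D4.Cut.E6e X) :
    ∃ q : ℕ, 3 ≤ q ∧ IsSLC q CoxeterMatrix.E₆ X := by
  obtain ⟨F, _, _, a, ha, hF, ⟨e⟩⟩ := hX
  have := charTwo_of_card hF
  exact ⟨Nat.card F, by rw [Nat.card_eq_fintype_card, hF]; exact pow_ge ha, (isSLC_E6 F).of_equiv e.symm⟩

theorem isSLC_E7e {X : Type*} [Group X] (hX : Cfsg.Agent.OddHalf.D4.Cut.E7e X) :
    ∃ q : ℕ, 3 ≤ q ∧ IsSLC q CoxeterMatrix.E₇ X := by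
  obtain ⟨F, _, _, a, ha, hF, ⟨e⟩⟩ := hX
  have := charTwo_of_card hF
  exact ⟨Nat.card F, by rw [Nat.card_eq_fintype_card, hF]; exact pow_ge ha, (isSLC_E7 F).of_equiv e.symm⟩

theorem isSLC_E8e {X : Type*} [Group X] (hX : Cfsg.Agent.OddHalf.D4.Cut.E8e X) :
    ∃ q : ℕ, 3 ≤ q ∧ IsSLC q CoxeterMatrix.E₈ X := by
  obtain ⟨F, _, _, a, ha, hF, ⟨e⟩⟩ := hX
  have := charTwo_of_card hF
  exact ⟨Nat.card F, by rw [Nat.card_eq_fintype_card, hF]; exact pow_ge ha, (isSLC_E8 F).of_equiv e.symm⟩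

variable {G : Type*} [Group G] [Finite G] {K₀ : Subgroup G}

/-- the isomorphism with the conjugate -/
noncomputable def eqCj (K₀ : Subgroup G) (g : G) : ↥K₀ ≃* ↥(Cfsg.Agent.OddHalf.D4.CommConj.cj g K₀) :=
  K₀.equivMapOfInjective (MulAut.conj g).toMonoidHom (MulAut.conj g).injective

/-- **`BFacts` for `E₇(q)`, `q ≥ 4` even.** -/
theorem bFacts_E7 (hK : Cfsg.Agent.OddHalf.D4.Cut.E7e ↥K₀) (g : G) : BFacts (Cfsg.Agent.OddHalf.D4.CommConj.cj g K₀) := by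
  obtain ⟨q, hq, h1⟩ := isSLC_E7e hK
  exact bFacts_of_isSLC_rigid (h1.of_equiv (eqCj K₀ g)) hq rigid_E7

/-- **`BFacts` for `E₈(q)`, `q ≥ 4` even.** -/
theorem bFacts_E8 (hK : Cfsg.Agent.OddHalf.D4.Cut.E8e ↥K₀) (g : G) : BFacts (Cfsg.Agent.OddHalf.D4.CommConj.cj g K₀) := by
  obtain ⟨q, hq, h1⟩ := isSLC_E8e hK
  exact bFacts_of_isSLC_rigid (h1.of_equiv (eqCj K₀ g)) hq rigid_E8

end

end Cfsg.Agent.KFacts.SysBF

end

-- merged: Cfsg.Agent.OddHalf.DblR.HypW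
section

/-!
# ODD, D4, simply laced `K`, without `Sep` (for `L_4(q)`)

`HypW` : as `RgdKfour.Hyp`, but the property `Sep` is replaced by `lev` : for every `b` with `(b, r) = 1` there is a root
`a` orthogonal to `r` with `(b, a) = 1`.

* `HypW.B` : an element `y` trivial on `P / Q`, `Q / X_r` and `X_r` acts on `P` as an element of `Q`.

(The proofs are those of `KFacts/RgdKfour.lean`, helper335.)
-/

set_option autoImplicit false
set_option linter.unusedSectionVars false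

namespace Cfsg.Agent.OddHalf.DblR

open CoxeterSystem Cfsg.Agent.ChevalleyStructure.CoxeterGeom Cfsg.Agent.Tits.Roots Cfsg.Agent.Tits.Core
  Cfsg.Agent.Tits.Exchange Cfsg.Agent.Nodes.Reps Cfsg.Agent.Nodes.BNOf Cfsg.Agent.Nodes.StabComb
  Cfsg.Agent.Nodes.Bruhat Cfsg.Agent.Nodes.OppDec Cfsg.Agent.Nodes.PosPair Cfsg.Agent.Nodes.Coroot
  Cfsg.Agent.KFacts.RgdPar Cfsg.Agent.KFacts.RgdSL Cfsg.Agent.KFacts.RgdTI Cfsg.Agent.KFacts.RgdCent
  Cfsg.Agent.KFacts.RgdOdd Cfsg.Agent.KFacts.RgdEx Cfsg.Agent.KFacts.RgdTor Cfsg.Agent.KFacts.RgdKfour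
open scoped commutatorElement

variable {I W Y : Type*} [Fintype I] [DecidableEq I] [Group W] [Group Y] {M : CoxeterMatrix I}
  {cs : CoxeterSystem M W} {A : I → I → ℤ} {h : IsCartan M A} {T : Subgroup Y} {n : I → Y}
  {X : (I → ℤ) → Subgroup Y}

/-- The hypotheses. -/
structure HypW [Finite W] (R : RGD cs h 2 T n X) (r : I → ℤ) : Prop where
  sl : SL cs h
  root : IsRoot cs h r
  tab : ∀ s ∈ T, ∀ t ∈ T, s * t = t * s
  lev : ∀ b ∈ Phi1 cs h r, ∃ a, IsRoot cs h a ∧ cpr cs h a r = 0 ∧ cpr cs h b a = 1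
  nb : ∀ a, IsRoot cs h a → ∃ b, IsRoot cs h b ∧ cpr cs h a b = 1

namespace HypW

variable [Finite W] {R : RGD cs h 2 T n X} {r : I → ℤ} (H : HypW R r)

include H

theorem lr (a : I → ℤ) (ha : IsRoot cs h a) : LR R a := lr_all R H.sl H.nb a ha

theorem ex : ∃ b, b ∈ Phi1 cs h r := by
  obtain ⟨b, hb, h1⟩ := H.nb r H.root
  exact ⟨b, hb, by rw [H.sl b r hb H.root, h1]⟩

theorem sub_mem {b : I → ℤ} (hb : b ∈ Phi1 cs h r) : r - b ∈ Phi1 cs h r := by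
  have hrb : cpr cs h r b = 1 := by rw [H.sl r b H.root hb.1, hb.2]
  exact ⟨isRoot_sub H.root hb.1 hrb, by
    rw [cpr_sub_left H.sl H.root H.root H.root, cpr_self cs h H.root, hb.2]; norm_num⟩

theorem sub_ne {b : I → ℤ} (hb : b ∈ Phi1 cs h r) : r - b ≠ b := by
  intro h0
  have h2 : r = (2 : ℤ) • b := by
    have : r = (r - b) + b := by abel
    rw [this, h0]; module
  have h3 : cpr cs h r b = 1 := by rw [H.sl r b H.root hb.1, hb.2]
  rw [h2, cpr_smul cs h _ _ hb.1, cpr_self cs h hb.1] at h3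
  omega

/-- elements of `X b`, `X c` commute unless `b + c = r` -/
theorem comm1 {b c : I → ℤ} (hb : b ∈ Phi1 cs h r) (hc : c ∈ Phi1 cs h r) (hne : c ≠ r - b) {u v : Y}
    (hu : u ∈ X b) (hv : v ∈ X c) : u * v = v * u := by
  refine (H.lr c hc.1).comm b hb.1 ?_ u hu v hv
  by_contra h0
  push Not at h0
  apply hne
  have h1 : cpr cs h b c = -1 := by
    rcases H.sl.cases hb.1 hc.1 with h2 | h2 | h2
    · omega
    · exfalso
      have h3 := hb.2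
      rw [h2.1, cpr_neg_left _ H.root, hc.2] at h3
      omega
    · omega
  have h2 : b + c = r := H.sl.eq_of_cpr (isRoot_add hb.1 hc.1 h1) H.root (by
    rw [cpr_add cs h _ _ H.root, hb.2, hc.2]; norm_num)
  rw [← h2, add_sub_cancel_left]

theorem a2 {b : I → ℤ} (hb : b ∈ Phi1 cs h r) : A2 cs h b (r - b) := by
  refine H.sl.a2 hb.1 (H.sub_mem hb).1 ?_
  rw [H.sl b _ hb.1 (H.sub_mem hb).1, cpr_sub_left H.sl H.root H.root hb.1, cpr_self cs h hb.1,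
    H.sl r b H.root hb.1, hb.2]
  norm_num

theorem br_mem {b : I → ℤ} (hb : b ∈ Phi1 cs h r) {u v : Y} (hu : u ∈ X b) (hv : v ∈ X (r - b)) :
    ⁅u, v⁆ ∈ X r := by
  have := (H.a2 hb).comm_mem R hu hv
  rwa [add_sub_cancel] at this

/-- `X_r` is central in `P`. -/
theorem central {p z : Y} (hp : p ∈ RGD.Sup X (Ge cs h r)) (hz : z ∈ X r) : p * z = z * p :=
  (H.lr r H.root).comm' hp hz

theorem phi1_ge {b : I → ℤ} (hb : b ∈ Phi1 cs h r) : b ∈ Ge cs h r := ⟨hb.1, by rw [hb.2]; norm_num⟩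

theorem phi1_rad {b : I → ℤ} (hb : b ∈ Phi1 cs h r) : b ∈ Rad cs h r := ⟨hb.1, hb.2.ge⟩

theorem r_ge : r ∈ Ge cs h r := ⟨H.root, by rw [cpr_self cs h H.root]; norm_num⟩

theorem r_rad : r ∈ Rad cs h r := ⟨H.root, by rw [cpr_self cs h H.root]; norm_num⟩

theorem rad_cases {b : I → ℤ} (hb : b ∈ Rad cs h r) : b = r ∨ b ∈ Phi1 cs h r := by
  rcases H.sl.cases hb.1 H.root with h1 | h1 | h1
  · exact Or.inl h1.1
  · have := hb.2; omega
  · have := hb.2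
    exact Or.inr ⟨hb.1, by omega⟩

theorem rad_le_ge : RGD.Sup X (Rad cs h r) ≤ RGD.Sup X (Ge cs h r) :=
  RGD.Sup_mono fun _ hx => ⟨hx.1, le_trans zero_le_one hx.2⟩

theorem rad_eq : RGD.Sup X (Rad cs h r) = QS X r (Phi1 cs h r) := by
  apply le_antisymm
  · refine RGD.Sup_le fun b hb => ?_
    rcases H.rad_cases hb with rfl | h1
    · exact le_sup_right
    · exact le_trans (RGD.le_Sup h1) le_sup_left
  · exact sup_le (RGD.Sup_mono fun b hb => H.phi1_rad hb) (RGD.le_Sup H.r_rad)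

/-- elements of `Q_S` commute with `X c` if `r - c ∉ S` -/
theorem QS_comm {S : Set (I → ℤ)} (hS : S ⊆ Phi1 cs h r) {c : I → ℤ} (hc : c ∈ Phi1 cs h r) (hcS : r - c ∉ S)
    {q v : Y} (hq : q ∈ QS X r S) (hv : v ∈ X c) : q * v = v * q := by
  have h1 : QS X r S ≤ Subgroup.centralizer {v} := by
    refine sup_le (RGD.Sup_le fun b hb => ?_) ?_
    · intro u hu
      rw [Subgroup.mem_centralizer_singleton_iff]
      refine (H.comm1 (hS hb) hc ?_ hu hv)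
      rintro rfl
      apply hcS
      rwa [sub_sub_cancel]
    · intro u hu
      rw [Subgroup.mem_centralizer_singleton_iff]
      exact (H.central (RGD.le_Sup (H.phi1_ge hc) hv) hu).symm
  exact Subgroup.mem_centralizer_singleton_iff.1 (h1 hq)

/-- `X c` normalises `Q_S` -/
theorem QS_conj {S : Set (I → ℤ)} (hS : S ⊆ Phi1 cs h r) {c : I → ℤ} (hc : c ∈ Phi1 cs h r) {q v : Y}
    (hq : q ∈ QS X r S) (hv : v ∈ X c) : v * q * v⁻¹ ∈ QS X r S := by
  have h1 : QS X r S ≤ (QS X r S).comap (MulAut.conj v).toMonoidHom := by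
    refine sup_le (RGD.Sup_le fun b hb => ?_) ?_
    · intro u hu
      rw [Subgroup.mem_comap]
      show v * u * v⁻¹ ∈ QS X r S
      have h2 : u ∈ QS X r S := Subgroup.mem_sup_left (RGD.le_Sup hb hu)
      by_cases h3 : b = r - c
      · subst h3
        have h4 : ⁅v, u⁆ ∈ X r := H.br_mem hc hv hu
        have h5 : v * u * v⁻¹ = ⁅v, u⁆ * u := by rw [commutatorElement_def]; group
        rw [h5]
        exact mul_mem (Subgroup.mem_sup_right h4) h2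
      · have h4 : v * u = u * v := H.comm1 hc (hS hb) h3 hv hu
        have h5 : v * u * v⁻¹ = u := by rw [h4]; group
        rwa [h5]
    · intro u hu
      rw [Subgroup.mem_comap]
      show v * u * v⁻¹ ∈ QS X r S
      have h4 : v * u = u * v := H.central (RGD.le_Sup (H.phi1_ge hc) hv) hu
      have h5 : v * u * v⁻¹ = u := by rw [h4]; group
      rw [h5]
      exact Subgroup.mem_sup_right hu
  exact h1 hq

/-- `Q_S = X_c Q_{S - c}` -/
theorem QS_split {S : Set (I → ℤ)} (hS : S ⊆ Phi1 cs h r) {c : I → ℤ} (hc : c ∈ S) {q : Y} (hq : q ∈ QS X r S) :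
    ∃ v ∈ X c, ∃ q' ∈ QS X r (S \ {c}), q = v * q' := by
  have hS' : S \ {c} ⊆ Phi1 cs h r := fun x hx => hS hx.1
  let L : Subgroup Y :=
    { carrier := {q | ∃ v ∈ X c, ∃ q' ∈ QS X r (S \ {c}), q = v * q'}
      one_mem' := ⟨1, one_mem _, 1, one_mem _, by group⟩
      mul_mem' := by
        rintro _ _ ⟨v, hv, q, hq, rfl⟩ ⟨v', hv', q', hq', rfl⟩
        refine ⟨v * v', mul_mem hv hv', v'⁻¹ * q * v'⁻¹⁻¹ * q',
          mul_mem (H.QS_conj hS' (hS hc) hq (inv_mem hv')) hq', by group⟩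
      inv_mem' := by
        rintro _ ⟨v, hv, q, hq, rfl⟩
        exact ⟨v⁻¹, inv_mem hv, v * q⁻¹ * v⁻¹, H.QS_conj hS' (hS hc) (inv_mem hq) hv, by group⟩ }
  have h1 : QS X r S ≤ L := by
    refine sup_le (RGD.Sup_le fun b hb => ?_) ?_
    · intro u hu
      by_cases hbc : b = c
      · subst hbc
        exact ⟨u, hu, 1, one_mem _, by group⟩
      · refine ⟨1, one_mem _, u, Subgroup.mem_sup_left (RGD.le_Sup (?_ : b ∈ S \ {c}) hu), by group⟩
        exact ⟨hb, hbc⟩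
    · intro u hu
      exact ⟨1, one_mem _, u, Subgroup.mem_sup_right hu, by group⟩
  exact h1 hq

/-- an element of `Q_S` commuting with `X (r - c)` lies in `Q_{S - c}` -/
theorem QS_drop {S : Set (I → ℤ)} (hS : S ⊆ Phi1 cs h r) {c : I → ℤ} (hc : c ∈ S) {q : Y} (hq : q ∈ QS X r S)
    (hcom : ∀ w ∈ X (r - c), q * w = w * q) : q ∈ QS X r (S \ {c}) := by
  obtain ⟨v, hv, q', hq', rfl⟩ := H.QS_split hS hc hq
  have hS' : S \ {c} ⊆ Phi1 cs h r := fun x hx => hS hx.1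
  have hc' := hS hc
  obtain ⟨w, hw, hw1⟩ := exists_ne R (H.sub_mem hc').1
  have h1 : q' * w = w * q' := by
    refine H.QS_comm hS' (H.sub_mem hc') ?_ hq' hw
    rw [sub_sub_cancel]
    exact fun h0 => h0.2 rfl
  have h2 : v * w = w * v := by
    have h3 := hcom w hw
    calc v * w = v * (w * q') * q'⁻¹ := by group
      _ = (v * q' * w) * q'⁻¹ := by rw [← h1]; group
      _ = (w * (v * q')) * q'⁻¹ := by rw [h3]
      _ = w * v := by group
  have h3 : v = 1 := by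
    by_contra hv1
    exact (H.a2 hc').comm_ne_one R hv hv1 hw hw1 (commutatorElement_eq_one_iff_mul_comm.2 h2)
  rw [h3, one_mul]
  exact hq'

omit H in
theorem finite_phi1 : (Phi1 cs h r).Finite :=
  (RGD.finite_roots (cs := cs) (h := h)).subset fun _ ha => ha.1

/-- an element of `Q` commuting with `X (r - c)` for all `c ∈ Phi1 - S` lies in `Q_S` -/
theorem mem_QS {S : Set (I → ℤ)} (hS : S ⊆ Phi1 cs h r) {q : Y} (hq : q ∈ RGD.Sup X (Rad cs h r))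
    (hcom : ∀ c ∈ Phi1 cs h r, c ∉ S → ∀ w ∈ X (r - c), q * w = w * q) : q ∈ QS X r S := by
  classical
  have key : ∀ D : Finset (I → ℤ), (∀ c ∈ D, c ∈ Phi1 cs h r ∧ c ∉ S) → q ∈ QS X r (Phi1 cs h r \ ↑D) := by
    intro D
    induction D using Finset.induction_on with
    | empty =>
      intro _
      rw [Finset.coe_empty, Set.sdiff_empty, ← H.rad_eq]
      exact hq
    | insert c D hcD ih =>
      intro hD
      have h1 := ih fun x hx => hD x (Finset.mem_insert_of_mem hx)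
      have h2 := hD c (Finset.mem_insert_self _ _)
      have h3 := H.QS_drop (S := Phi1 cs h r \ ↑D) (fun x hx => hx.1) (c := c) ⟨h2.1, hcD⟩ h1
        (hcom c h2.1 h2.2)
      rwa [Set.sdiff_sdiff, Set.union_singleton, ← Finset.coe_insert] at h3
  have hfin : (Phi1 cs h r \ S).Finite := finite_phi1.subset Set.sdiff_subset
  have h1 := key hfin.toFinset fun c hc => by
    rw [Set.Finite.mem_toFinset] at hc
    exact hc
  rwa [Set.Finite.coe_toFinset, Set.sdiff_sdiff_cancel_left hS] at h1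

/-- `[Q, Q] ≤ X_r` -/
theorem br_Q {q q' : Y} (hq : q ∈ RGD.Sup X (Rad cs h r)) (hq' : q' ∈ RGD.Sup X (Rad cs h r)) :
    ⁅q, q'⁆ ∈ X r := by
  have hcen : ∀ {p z : Y}, p ∈ RGD.Sup X (Rad cs h r) → z ∈ X r → p * z = z * p :=
    fun hp hz => H.central (H.rad_le_ge hp) hz
  -- for `q'` in a root group
  have h1 : ∀ b ∈ Rad cs h r, ∀ v ∈ X b, ∀ q ∈ RGD.Sup X (Rad cs h r), ⁅q, v⁆ ∈ X r := by
    intro b hb v hv
    let L : Subgroup Y :=
      { carrier := {q | q ∈ RGD.Sup X (Rad cs h r) ∧ ⁅q, v⁆ ∈ X r}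
        one_mem' := ⟨one_mem _, by simp [commutatorElement_def]⟩
        mul_mem' := by
          rintro x y ⟨hx, hx'⟩ ⟨hy, hy'⟩
          refine ⟨mul_mem hx hy, ?_⟩
          have h2 : ⁅x * y, v⁆ = (x * ⁅y, v⁆ * x⁻¹) * ⁅x, v⁆ := by simp only [commutatorElement_def]; group
          have h3 : x * ⁅y, v⁆ * x⁻¹ = ⁅y, v⁆ := by rw [hcen hx hy']; group
          rw [h2, h3]
          exact mul_mem hy' hx'
        inv_mem' := by
          rintro x ⟨hx, hx'⟩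
          refine ⟨inv_mem hx, ?_⟩
          have h2 : ⁅x⁻¹, v⁆ = x⁻¹ * ⁅x, v⁆⁻¹ * x := by simp only [commutatorElement_def]; group
          have h3 : x⁻¹ * ⁅x, v⁆⁻¹ * x = ⁅x, v⁆⁻¹ := by
            rw [hcen (inv_mem hx) (inv_mem hx')]; group
          rw [h2, h3]
          exact inv_mem hx' }
    have hL : RGD.Sup X (Rad cs h r) ≤ L := by
      refine RGD.Sup_le fun c hc => ?_
      intro u hu
      refine ⟨RGD.le_Sup hc hu, ?_⟩
      rcases H.rad_cases hb with rfl | hb'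
      · rw [commutatorElement_eq_one_iff_mul_comm.2 (hcen (RGD.le_Sup hc hu) hv)]
        exact one_mem _
      rcases H.rad_cases hc with rfl | hc'
      · rw [commutatorElement_eq_one_iff_mul_comm.2 (hcen (RGD.le_Sup hb hv) hu).symm]
        exact one_mem _
      by_cases h2 : b = r - c
      · subst h2
        exact H.br_mem hc' hu hv
      · rw [commutatorElement_eq_one_iff_mul_comm.2 (H.comm1 hc' hb' h2 hu hv)]
        exact one_mem _
    intro q hq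
    exact (hL hq).2
  let L : Subgroup Y :=
    { carrier := {v | v ∈ RGD.Sup X (Rad cs h r) ∧ ⁅q, v⁆ ∈ X r}
      one_mem' := ⟨one_mem _, by simp [commutatorElement_def]⟩
      mul_mem' := by
        rintro x y ⟨hx, hx'⟩ ⟨hy, hy'⟩
        refine ⟨mul_mem hx hy, ?_⟩
        have h2 : ⁅q, x * y⁆ = ⁅q, x⁆ * (x * ⁅q, y⁆ * x⁻¹) := by simp only [commutatorElement_def]; group
        have h3 : x * ⁅q, y⁆ * x⁻¹ = ⁅q, y⁆ := by rw [hcen hx hy']; group
        rw [h2, h3]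
        exact mul_mem hx' hy'
      inv_mem' := by
        rintro x ⟨hx, hx'⟩
        refine ⟨inv_mem hx, ?_⟩
        have h2 : ⁅q, x⁻¹⁆ = x⁻¹ * ⁅q, x⁆⁻¹ * x := by simp only [commutatorElement_def]; group
        have h3 : x⁻¹ * ⁅q, x⁆⁻¹ * x = ⁅q, x⁆⁻¹ := by
          rw [hcen (inv_mem hx) (inv_mem hx')]; group
        rw [h2, h3]
        exact inv_mem hx' }
  have hL : RGD.Sup X (Rad cs h r) ≤ L := by
    refine RGD.Sup_le fun c hc => ?_
    intro u hu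
    exact ⟨RGD.le_Sup hc hu, h1 c hc u hu q hq⟩
  exact (hL hq').2

/-- `Q` is normal in `P` -/
theorem QN {p q : Y} (hp : p ∈ RGD.Sup X (Ge cs h r)) (hq : q ∈ RGD.Sup X (Rad cs h r)) :
    p * q * p⁻¹ ∈ RGD.Sup X (Rad cs h r) := by
  have key : ∀ a ∈ Ge cs h r, ∀ u ∈ X a, ∀ q ∈ RGD.Sup X (Rad cs h r), u * q * u⁻¹ ∈ RGD.Sup X (Rad cs h r) := by
    intro a ha u hu
    suffices h1 : RGD.Sup X (Rad cs h r) ≤ (RGD.Sup X (Rad cs h r)).comap (MulAut.conj u).toMonoidHom from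
      fun q hq => h1 hq
    refine RGD.Sup_le fun b hb => ?_
    intro v hv
    rw [Subgroup.mem_comap]
    show u * v * u⁻¹ ∈ RGD.Sup X (Rad cs h r)
    have hvQ : v ∈ RGD.Sup X (Rad cs h r) := RGD.le_Sup hb hv
    have huP : u ∈ RGD.Sup X (Ge cs h r) := RGD.le_Sup ha hu
    rcases H.rad_cases hb with rfl | hb'
    · have : u * v * u⁻¹ = v := by rw [H.central huP hv]; group
      rwa [this]
    by_cases h0 : 0 ≤ cpr cs h a b
    · have : u * v * u⁻¹ = v := by rw [(H.lr b hb.1).comm a ha.1 h0 u hu v hv]; group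
      rwa [this]
    push Not at h0
    have h1 : cpr cs h a b = -1 := by
      rcases H.sl.cases ha.1 hb.1 with h2 | h2 | h2
      · omega
      · exfalso
        have h3 := ha.2
        rw [h2.1, cpr_neg_left _ H.root, hb'.2] at h3
        omega
      · omega
    have h2 := (H.sl.a2 ha.1 hb.1 h1).comm_mem R hu hv
    have h3 : a + b ∈ Rad cs h r :=
      ⟨isRoot_add ha.1 hb.1 h1, by rw [cpr_add cs h _ _ H.root]; have := ha.2; have := hb.2; omega⟩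
    have h4 : u * v * u⁻¹ = ⁅u, v⁆ * v := by rw [commutatorElement_def]; group
    rw [h4]
    exact mul_mem (RGD.le_Sup h3 h2) hvQ
  let L : Subgroup Y :=
    { carrier := {p | (∀ q ∈ RGD.Sup X (Rad cs h r), p * q * p⁻¹ ∈ RGD.Sup X (Rad cs h r)) ∧
        ∀ q ∈ RGD.Sup X (Rad cs h r), p⁻¹ * q * p ∈ RGD.Sup X (Rad cs h r)}
      one_mem' := ⟨fun q hq => by simpa using hq, fun q hq => by simpa using hq⟩
      mul_mem' := by
        rintro x y ⟨hx, hx'⟩ ⟨hy, hy'⟩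
        refine ⟨fun q hq => ?_, fun q hq => ?_⟩
        · have : x * y * q * (x * y)⁻¹ = x * (y * q * y⁻¹) * x⁻¹ := by group
          rw [this]; exact hx _ (hy _ hq)
        · have : (x * y)⁻¹ * q * (x * y) = y⁻¹ * (x⁻¹ * q * x) * y := by group
          rw [this]; exact hy' _ (hx' _ hq)
      inv_mem' := by
        rintro x ⟨hx, hx'⟩
        exact ⟨fun q hq => by rw [inv_inv]; exact hx' q hq, fun q hq => by rw [inv_inv]; exact hx q hq⟩ }
  have hL : RGD.Sup X (Ge cs h r) ≤ L := by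
    refine RGD.Sup_le fun a ha => ?_
    intro u hu
    refine ⟨fun q hq => key a ha u hu q hq, fun q hq => ?_⟩
    have := key a ha u⁻¹ (inv_mem hu) q hq
    rwa [inv_inv] at this
  exact (hL hp).1 q hq

omit H in
/-- a fixed point free automorphism of a finite abelian group -/
theorem surj_comm {V : Subgroup Y} [Finite ↥V] (hV : ∀ u ∈ V, ∀ v ∈ V, u * v = v * u) {k : Y}
    (hk : ∀ v ∈ V, k * v * k⁻¹ ∈ V) (hf : ∀ v ∈ V, k * v * k⁻¹ = v → v = 1) {u : Y} (hu : u ∈ V) :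
    ∃ v ∈ V, k * v * k⁻¹ * v⁻¹ = u := by
  have hinj : Function.Injective (fun v : V => (⟨k * v.1 * k⁻¹ * v.1⁻¹, mul_mem (hk v.1 v.2) (inv_mem v.2)⟩ : V)) := by
    intro v w hvw
    have h1 : k * v.1 * k⁻¹ * v.1⁻¹ = k * w.1 * k⁻¹ * w.1⁻¹ := congrArg Subtype.val hvw
    have h2 : v.1 * w.1⁻¹ = 1 := by
      refine hf _ (mul_mem v.2 (inv_mem w.2)) ?_
      have h3 := hV _ (hk w.1 w.2) _ (inv_mem w.2)
      have h4 := hV _ (inv_mem v.2) _ (inv_mem (hk w.1 w.2))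
      calc k * (v.1 * w.1⁻¹) * k⁻¹ = (k * v.1 * k⁻¹ * v.1⁻¹) * v.1 * (k * w.1 * k⁻¹)⁻¹ := by group
        _ = (k * w.1 * k⁻¹ * w.1⁻¹) * v.1 * (k * w.1 * k⁻¹)⁻¹ := by rw [h1]
        _ = (w.1⁻¹ * (k * w.1 * k⁻¹)) * v.1 * (k * w.1 * k⁻¹)⁻¹ := by rw [h3]
        _ = w.1⁻¹ * ((k * w.1 * k⁻¹) * v.1) * (k * w.1 * k⁻¹)⁻¹ := by group
        _ = w.1⁻¹ * (v.1 * (k * w.1 * k⁻¹)) * (k * w.1 * k⁻¹)⁻¹ := by rw [hV _ (hk w.1 w.2) _ v.2]
        _ = w.1⁻¹ * v.1 := by group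
        _ = v.1 * w.1⁻¹ := (hV _ v.2 _ (inv_mem w.2)).symm
    exact Subtype.ext (by
      calc v.1 = (v.1 * w.1⁻¹) * w.1 := by group
        _ = w.1 := by rw [h2, one_mul])
  obtain ⟨v, hv⟩ := (Finite.injective_iff_surjective.1 hinj) ⟨u, hu⟩
  exact ⟨v.1, v.2, congrArg Subtype.val hv⟩

theorem phi1_comm_self {b : I → ℤ} (hb : b ∈ Phi1 cs h r) {u v : Y} (hu : u ∈ X b) (hv : v ∈ X b) : u * v = v * u :=
  H.comm1 hb hb (H.sub_ne hb).symm hu hv

theorem phi1_sq {b : I → ℤ} (hb : b ∈ Phi1 cs h r) {u : Y} (hu : u ∈ X b) : u * u = 1 := sq_x (H.a2 hb) R hu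

theorem r_sq {u : Y} (hu : u ∈ X r) : u * u = 1 := by
  obtain ⟨b, hb⟩ := H.ex
  have hA' : A2 cs h r (-b) := by
    refine H.sl.a2 H.root hb.1.neg ?_
    rw [cpr_neg_right cs h _ hb.1, H.sl r b H.root hb.1, hb.2]
  exact sq_x hA' R hu

section B

variable {y : Y} (hyP : ∀ p ∈ RGD.Sup X (Ge cs h r), y * p * y⁻¹ * p⁻¹ ∈ RGD.Sup X (Rad cs h r))
  (hyX : ∀ z ∈ X r, y * z = z * y) (hyQ : ∀ q ∈ RGD.Sup X (Rad cs h r), y * q * y⁻¹ * q⁻¹ ∈ X r)

include hyP hyX hyQ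

theorem y_triv {b : I → ℤ} (hb : b ∈ Phi1 cs h r) {v : Y} (hv : v ∈ X b) : ⁅y, v⁆ ∈ X r := by
  rw [commutatorElement_def]
  exact hyQ v (RGD.le_Sup (H.phi1_rad hb) hv)

/-- the homomorphism `v ↦ ⁅y, v⁆` on `X b` -/
theorem xi_mul [Finite ↥(X r)] {b : I → ℤ} (hb : b ∈ Phi1 cs h r) {v w : Y} (hv : v ∈ X b) (hw : w ∈ X b) :
    ⁅y, v * w⁆ = ⁅y, v⁆ * ⁅y, w⁆ := by
  have h1 := H.y_triv hyP hyX hyQ hb hw
  have h2 : v * ⁅y, w⁆ = ⁅y, w⁆ * v := H.central (RGD.le_Sup (H.phi1_ge hb) hv) h1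
  have h3 : ⁅y, v * w⁆ = ⁅y, v⁆ * (v * ⁅y, w⁆ * v⁻¹) := by simp only [commutatorElement_def]; group
  rw [h3, h2]; group

/-- (B2), (B3) : on `X b` the element `y` acts as an element of `X (r - b)`. -/
theorem exists_c [Finite T] (hfin : ∀ b, IsRoot cs h b → Finite ↥(X b))
    (hq : ∀ b, IsRoot cs h b → ∃ u ∈ X b, ∃ v ∈ X b, u ≠ 1 ∧ v ≠ 1 ∧ u ≠ v) {b : I → ℤ} (hb : b ∈ Phi1 cs h r) :
    ∃ c ∈ X (r - b), ∀ v ∈ X b, ⁅y, v⁆ = ⁅c, v⁆ := by
  have := hfin r H.root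
  have := hfin b hb.1
  have := hfin _ (H.sub_mem hb).1
  have hcQ : ∀ {q z : Y}, q ∈ RGD.Sup X (Rad cs h r) → z ∈ X r → q * z = z * q :=
    fun hq hz => H.central (H.rad_le_ge hq) hz
  have hb' := H.sub_mem hb
  obtain ⟨a, ha, har, hba⟩ := H.lev b hb
  have hAa : A2 cs h (-a) b := by
    refine H.sl.a2 ha.neg hb.1 ?_
    rw [cpr_neg_left _ hb.1, H.sl a b ha hb.1, hba]
  have hAa' : A2 cs h a (r - b) := by
    refine H.sl.a2 ha hb'.1 ?_
    rw [H.sl a _ ha hb'.1, cpr_sub_left H.sl H.root H.root ha, H.sl r a H.root ha, har, hba]; norm_num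
  obtain ⟨v1, hv1, v2, hv2, h11, h21, h12⟩ := hq b hb.1
  obtain ⟨k, hk, ek⟩ := tor_trans_pos R hAa hv1 h11 hv2 h21
  have hkT := (Subgroup.mem_inf.1 hk).1
  have hkP : k ∈ RGD.Sup X (Ge cs h r) := by
    have h1 : a ∈ Ge cs h r := ⟨ha, har.ge⟩
    have h2 : -a ∈ Ge cs h r := ⟨ha.neg, by rw [cpr_neg_left _ H.root, har, neg_zero]⟩
    exact (sup_le (RGD.le_Sup h1) (RGD.le_Sup h2) : X a ⊔ X (-a) ≤ _) (Subgroup.mem_inf.1 hk).2
  have hkr : ∀ z ∈ X r, k * z * k⁻¹ = z := fun z hz => by rw [H.central hkP hz]; group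
  have hkb : ∀ v ∈ X b, k * v * k⁻¹ ∈ X b := fun v hv => tor_mem R hb.1 hkT hv
  have hkb' : ∀ v ∈ X (r - b), k * v * k⁻¹ ∈ X (r - b) := fun v hv => tor_mem R hb'.1 hkT hv
  have hkb'' : ∀ v ∈ X (r - b), k⁻¹ * v * k ∈ X (r - b) := fun v hv => by
    have := tor_mem R hb'.1 (inv_mem hkT) hv
    rwa [inv_inv] at this
  -- `k` has no fixed points on `X b`
  have hf : ∀ v ∈ X b, k * v * k⁻¹ = v → v = 1 := by
    intro v hv he
    by_contra hv1'
    apply h12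
    have h3 := eq_of_trans (T := T) (S := {v | v ∈ X b ∧ v ≠ 1}) H.tab (fun v hv v' hv' => by
      obtain ⟨t, ht, et⟩ := tor_trans_pos R hAa hv.1 hv.2 hv'.1 hv'.2
      exact ⟨t, (Subgroup.mem_inf.1 ht).1, et⟩) (s := k) (t := 1) (v0 := v) (v := v1) hkT (one_mem _)
      ⟨hv, hv1'⟩ ⟨hv1, h11⟩ (by rw [he]; group)
    rw [ek] at h3
    rw [h3]; group
  -- `k` has no fixed points on `X (r - b)`
  have hf' : ∀ c ∈ X (r - b), k * c * k⁻¹ = c → c = 1 := by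
    intro c hc he
    by_contra hc1
    apply h12
    rw [← ek]
    have h3 : ⁅c, k * v1 * k⁻¹⁆ = ⁅c, v1⁆ := by
      have h4 : ⁅k * c * k⁻¹, k * v1 * k⁻¹⁆ = k * ⁅c, v1⁆ * k⁻¹ := by
        simp only [commutatorElement_def]; group
      rw [he] at h4
      rw [h4]
      refine hkr _ ?_
      have := (H.a2 hb).symm.comm_mem R hc hv1
      rwa [sub_add_cancel] at this
    exact ((H.a2 hb).symm.comm_inj R hc hc1 hv1 (hkb v1 hv1) h3.symm)
  -- the element `q`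
  set q := y * k * y⁻¹ * k⁻¹ with hqd
  have hqQ : q ∈ RGD.Sup X (Rad cs h r) := hyP k hkP
  have hqQ' := hqQ
  rw [H.rad_eq] at hqQ'
  obtain ⟨c', hc', q', hq', e1⟩ := H.QS_split (le_refl _) hb' hqQ'
  have hqc : ∀ v ∈ X b, ⁅q, v⁆ = ⁅c', v⁆ := by
    intro v hv
    have h1 : q' * v = v * q' := by
      refine H.QS_comm (fun x hx => hx.1) hb ?_ hq' hv
      exact fun h0 => h0.2 rfl
    rw [e1, commutatorElement_def, commutatorElement_def]
    calc c' * q' * v * (c' * q')⁻¹ * v⁻¹ = c' * (q' * v) * q'⁻¹ * c'⁻¹ * v⁻¹ := by group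
      _ = _ := by rw [h1]; group
  -- choose `c`
  have hkinv : ∀ v ∈ X (r - b), k⁻¹ * v * k⁻¹⁻¹ ∈ X (r - b) := fun v hv => by
    rw [inv_inv]; exact hkb'' v hv
  obtain ⟨c, hc, ec⟩ := surj_comm (V := X (r - b)) (fun u hu v hv => H.phi1_comm_self hb' hu hv) hkinv
    (fun v hv he => by
      refine hf' v hv ?_
      calc k * v * k⁻¹ = k * (k⁻¹ * v * k⁻¹⁻¹) * k⁻¹ := by rw [he]
        _ = v := by group) (hkb'' c' hc')
  refine ⟨c, hc, fun u hu => ?_⟩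
  obtain ⟨v, hv, rfl⟩ := surj_comm (fun u hu v hv => H.phi1_comm_self hb hu hv) hkb hf hu
  have hvi : v⁻¹ = v := inv_eq_of_mul_eq_one_right (H.phi1_sq hb hv)
  have hci : c⁻¹ = c := inv_eq_of_mul_eq_one_right (H.phi1_sq hb' hc)
  have hbr : ∀ {c v : Y}, c ∈ X (r - b) → v ∈ X b → ⁅c, v⁆ ∈ X r := fun hc hv => by
    have := (H.a2 hb).symm.comm_mem R hc hv
    rwa [sub_add_cancel] at this
  have hinv : ⁅y, v⁻¹⁆ = ⁅y, v⁆⁻¹ := by
    have h1 := H.xi_mul hyP hyX hyQ hb hv (inv_mem hv)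
    rw [mul_inv_cancel] at h1
    have h2 : ⁅y, (1 : Y)⁆ = 1 := by simp [commutatorElement_def]
    rw [h2] at h1
    exact (eq_inv_of_mul_eq_one_right h1.symm)
  -- left hand side
  have hL : ⁅y, k * v * k⁻¹⁆ = ⁅y, v⁆ * ⁅q, k * v * k⁻¹⁆ := by
    have h1 := H.y_triv hyP hyX hyQ hb hv
    have h2 : k * ⁅y, v⁆ * k⁻¹ = ⁅y, v⁆ := hkr _ h1
    have h3 : q * ⁅y, v⁆ = ⁅y, v⁆ * q := hcQ hqQ h1
    have h4 : y * k = q * k * y := by rw [hqd]; group
    have h5 : y * k * v * k⁻¹ * y⁻¹ = ⁅y, v⁆ * (q * (k * v * k⁻¹) * q⁻¹) := by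
      calc y * k * v * k⁻¹ * y⁻¹ = (y * k) * v * (y * k)⁻¹ := by group
        _ = q * (k * (y * v * y⁻¹) * k⁻¹) * q⁻¹ := by rw [h4]; group
        _ = q * (k * (⁅y, v⁆ * v) * k⁻¹) * q⁻¹ := by rw [commutatorElement_def]; group
        _ = q * ((k * ⁅y, v⁆ * k⁻¹) * (k * v * k⁻¹)) * q⁻¹ := by group
        _ = (q * ⁅y, v⁆) * (k * v * k⁻¹) * q⁻¹ := by rw [h2]; group
        _ = _ := by rw [h3]; group
    calc ⁅y, k * v * k⁻¹⁆ = (y * k * v * k⁻¹ * y⁻¹) * (k * v * k⁻¹)⁻¹ := by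
          rw [commutatorElement_def]; group
      _ = _ := by rw [h5, commutatorElement_def q]; group
  have hL2 : ⁅y, k * v * k⁻¹ * v⁻¹⁆ = ⁅c', k * v * k⁻¹⁆ := by
    rw [H.xi_mul hyP hyX hyQ hb (hkb v hv) (inv_mem hv), hinv, hL, hqc _ (hkb v hv)]
    have h1 := H.y_triv hyP hyX hyQ hb hv
    have h2 := hcQ (RGD.le_Sup H.r_rad h1) (hbr hc' (hkb v hv))
    rw [h2]; group
  -- right hand side
  have hR : ⁅c, k * v * k⁻¹ * v⁻¹⁆ = ⁅c, k * v * k⁻¹⁆ * ⁅c, v⁆ := by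
    rw [hvi, (H.a2 hb).symm.comm_mul R hc (hkb v hv) hv]
  have hR2 : ⁅c, k * v * k⁻¹⁆ = ⁅k⁻¹ * c * k, v⁆ := by
    have h1 : ⁅c, k * v * k⁻¹⁆ = k * ⁅k⁻¹ * c * k, v⁆ * k⁻¹ := by simp only [commutatorElement_def]; group
    rw [h1]
    exact hkr _ (hbr (hkb'' c hc) hv)
  have hR3 : ⁅c', k * v * k⁻¹⁆ = ⁅k⁻¹ * c' * k, v⁆ := by
    have h1 : ⁅c', k * v * k⁻¹⁆ = k * ⁅k⁻¹ * c' * k, v⁆ * k⁻¹ := by simp only [commutatorElement_def]; group
    rw [h1]
    exact hkr _ (hbr (hkb'' c' hc') hv)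
  rw [hL2, hR, hR2, hR3, ← ec, hci, inv_inv]
  -- `⁅k⁻¹ c k * c, v⁆ = ⁅k⁻¹ c k, v⁆ ⁅c, v⁆`
  set d := k⁻¹ * c * k with hd
  have hdm : d ∈ X (r - b) := hkb'' c hc
  have h1 : ⁅d * c, v⁆ = (d * ⁅c, v⁆ * d⁻¹) * ⁅d, v⁆ := by simp only [commutatorElement_def]; group
  have h2 : d * ⁅c, v⁆ = ⁅c, v⁆ * d := hcQ (RGD.le_Sup (H.phi1_rad hb') hdm) (hbr hc hv)
  rw [h1, h2]
  have h3 : ⁅c, v⁆ * ⁅d, v⁆ = ⁅d, v⁆ * ⁅c, v⁆ :=
    hcQ (RGD.le_Sup H.r_rad (hbr hc hv)) (hbr hdm hv)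
  rw [mul_inv_cancel_right, h3]

/-- (B4) -/
theorem exists_q [Finite T] (hfin : ∀ b, IsRoot cs h b → Finite ↥(X b))
    (hq : ∀ b, IsRoot cs h b → ∃ u ∈ X b, ∃ v ∈ X b, u ≠ 1 ∧ v ≠ 1 ∧ u ≠ v) :
    ∃ q ∈ RGD.Sup X (Rad cs h r), ∀ b ∈ Phi1 cs h r, ∀ v ∈ X b, ⁅q, v⁆ = ⁅y, v⁆ := by
  classical
  have := hfin r H.root
  have hcQ : ∀ {q z : Y}, q ∈ RGD.Sup X (Rad cs h r) → z ∈ X r → q * z = z * q :=
    fun hq hz => H.central (H.rad_le_ge hq) hz
  have key : ∀ D : Finset (I → ℤ), (∀ b ∈ D, b ∈ Phi1 cs h r) → ∃ q ∈ RGD.Sup X (Rad cs h r),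
      (∀ b ∈ D, ∀ v ∈ X b, ⁅q, v⁆ = ⁅y, v⁆) ∧ ∀ b ∈ Phi1 cs h r, b ∉ D → ∀ v ∈ X b, ⁅q, v⁆ = 1 := by
    intro D
    induction D using Finset.induction_on with
    | empty =>
      intro _
      exact ⟨1, one_mem _, fun b hb => absurd hb (Finset.notMem_empty b), fun b _ _ v _ => by
        simp [commutatorElement_def]⟩
    | insert b D hbD ih =>
      intro hD
      obtain ⟨q, hq1, h1, h2⟩ := ih fun x hx => hD x (Finset.mem_insert_of_mem hx)
      have hb := hD b (Finset.mem_insert_self _ _)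
      obtain ⟨c, hc, ec⟩ := H.exists_c hyP hyX hyQ hfin hq hb
      have hcm : c ∈ RGD.Sup X (Rad cs h r) := RGD.le_Sup (H.phi1_rad (H.sub_mem hb)) hc
      have hmul : ∀ b' ∈ Phi1 cs h r, ∀ v ∈ X b', ⁅c * q, v⁆ = ⁅q, v⁆ * ⁅c, v⁆ := by
        intro b' hb' v hv
        have h3 : ⁅q, v⁆ ∈ X r := H.br_Q hq1 (RGD.le_Sup (H.phi1_rad hb') hv)
        have h4 : ⁅c * q, v⁆ = (c * ⁅q, v⁆ * c⁻¹) * ⁅c, v⁆ := by simp only [commutatorElement_def]; group
        rw [h4, hcQ hcm h3]; group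
      have hc1 : ∀ b' ∈ Phi1 cs h r, b' ≠ b → ∀ v ∈ X b', ⁅c, v⁆ = 1 := by
        intro b' hb' hne v hv
        rw [commutatorElement_eq_one_iff_mul_comm]
        exact H.comm1 (H.sub_mem hb) hb' (by rwa [sub_sub_cancel]) hc hv
      refine ⟨c * q, mul_mem hcm hq1, ?_, ?_⟩
      · intro b' hb' v hv
        have hb1 := hD b' hb'
        rw [hmul b' hb1 v hv]
        by_cases hbb : b' = b
        · subst hbb
          rw [h2 b' hb hbD v hv, one_mul, ec v hv]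
        · rw [h1 b' (Finset.mem_of_mem_insert_of_ne hb' hbb) v hv, hc1 b' hb1 hbb v hv, mul_one]
      · intro b' hb' hn v hv
        rw [Finset.mem_insert, not_or] at hn
        rw [hmul b' hb' v hv, h2 b' hb' hn.2 v hv, one_mul, hc1 b' hb' hn.1 v hv]
  obtain ⟨q, hq1, h1, -⟩ := key (finite_phi1 (cs := cs) (h := h) (r := r)).toFinset fun b hb => by
    rwa [Set.Finite.mem_toFinset] at hb
  exact ⟨q, hq1, fun b hb v hv => h1 b (by rwa [Set.Finite.mem_toFinset]) v hv⟩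

/-- **(B)** -/
theorem B [Finite T] (hfin : ∀ b, IsRoot cs h b → Finite ↥(X b))
    (hq : ∀ b, IsRoot cs h b → ∃ u ∈ X b, ∃ v ∈ X b, u ≠ 1 ∧ v ≠ 1 ∧ u ≠ v) :
    ∃ q ∈ RGD.Sup X (Rad cs h r), ∀ p ∈ RGD.Sup X (Ge cs h r), y * p * y⁻¹ = q * p * q⁻¹ := by
  obtain ⟨q, hqQ, hq1⟩ := H.exists_q hyP hyX hyQ hfin hq
  refine ⟨q, hqQ, ?_⟩
  have hcQ : ∀ {q z : Y}, q ∈ RGD.Sup X (Rad cs h r) → z ∈ X r → q * z = z * q :=
    fun hq hz => H.central (H.rad_le_ge hq) hz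
  set y' := q⁻¹ * y with hy'
  -- `y'` centralises `Q`
  have h1 : ∀ b ∈ Rad cs h r, ∀ v ∈ X b, y' * v = v * y' := by
    intro b hb v hv
    rcases H.rad_cases hb with rfl | hb'
    · rw [hy', mul_assoc, hyX v hv, ← mul_assoc, hcQ (inv_mem hqQ) hv, mul_assoc]
    · have h2 := hq1 b hb' v hv
      rw [commutatorElement_def, commutatorElement_def] at h2
      have h3 : q * v * q⁻¹ = y * v * y⁻¹ := mul_right_cancel h2
      calc y' * v = q⁻¹ * (y * v * y⁻¹) * y := by rw [hy']; group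
        _ = v * y' := by rw [← h3, hy']; group
  have h2 : ∀ w ∈ RGD.Sup X (Rad cs h r), y' * w = w * y' := by
    have h3 : RGD.Sup X (Rad cs h r) ≤ Subgroup.centralizer {y'} := by
      refine RGD.Sup_le fun b hb v hv => ?_
      rw [Subgroup.mem_centralizer_singleton_iff]
      exact (h1 b hb v hv).symm
    intro w hw
    exact (Subgroup.mem_centralizer_singleton_iff.1 (h3 hw)).symm
  -- `[y', p] ∈ X r`
  have h3 : ∀ p ∈ RGD.Sup X (Ge cs h r), y' * p * y'⁻¹ * p⁻¹ ∈ X r := by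
    intro p hp
    have h4 : y' * p * y'⁻¹ * p⁻¹ ∈ RGD.Sup X (Rad cs h r) := by
      have h5 : y' * p * y'⁻¹ * p⁻¹ = q⁻¹ * (y * p * y⁻¹ * p⁻¹) * (p * q * p⁻¹) := by rw [hy']; group
      rw [h5]
      exact mul_mem (mul_mem (inv_mem hqQ) (hyP p hp)) (H.QN hp hqQ)
    have h5 := H.mem_QS (S := ∅) (Set.empty_subset _) h4 (fun c hc _ w hw => by
      have hwQ : w ∈ RGD.Sup X (Rad cs h r) := RGD.le_Sup (H.phi1_rad (H.sub_mem hc)) hw
      have h6 : p⁻¹ * w * p ∈ RGD.Sup X (Rad cs h r) := by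
        have := H.QN (inv_mem hp) hwQ
        rwa [inv_inv] at this
      have h7 := h2 _ h6
      have h8 := h2 _ hwQ
      calc y' * p * y'⁻¹ * p⁻¹ * w = y' * p * (y'⁻¹ * (p⁻¹ * w * p)) * p⁻¹ := by group
        _ = y' * p * ((p⁻¹ * w * p) * y'⁻¹) * p⁻¹ := by
            have : y'⁻¹ * (p⁻¹ * w * p) = (p⁻¹ * w * p) * y'⁻¹ := (Commute.inv_left h7).eq
            rw [this]
        _ = (y' * w) * (p * y'⁻¹ * p⁻¹) := by group
        _ = w * (y' * p * y'⁻¹ * p⁻¹) := by rw [h8]; group)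
    exact (sup_le (RGD.Sup_le fun x hx => absurd hx (Set.notMem_empty x)) le_rfl : QS X r ∅ ≤ X r) h5
  -- `y'` centralises `P`
  have hP : ∀ {p z : Y}, p ∈ RGD.Sup X (Ge cs h r) → z ∈ X r → p * z = z * p := fun hp hz => H.central hp hz
  have h4 : ∀ a ∈ Ge cs h r, ∀ u ∈ X a, y' * u = u * y' := by
    intro a ha u hu
    by_cases ha1 : 1 ≤ cpr cs h a r
    · exact h1 a ⟨ha.1, ha1⟩ u hu
    have har : cpr cs h a r = 0 := by have := ha.2; omega
    -- a root at 60 degrees to `a`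
    obtain ⟨b, hb, hab⟩ := H.nb a ha.1
    have hA : A2 cs h a (-b) := by
      refine H.sl.a2 ha.1 hb.neg ?_
      rw [cpr_neg_right cs h _ hb, hab]
    have := hfin a ha.1
    obtain ⟨u1, hu1, u2, hu2, h11, h21, h12⟩ := hq a ha.1
    obtain ⟨k, hk, ek⟩ := tor_self hA R H.tab hu1 h11 hu2 h21
    have hkT := (Subgroup.mem_inf.1 hk).1
    have hkP : k ∈ RGD.Sup X (Ge cs h r) := by
      have h2 : -a ∈ Ge cs h r := ⟨ha.1.neg, by rw [cpr_neg_left _ H.root, har, neg_zero]⟩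
      exact (sup_le (RGD.le_Sup ha) (RGD.le_Sup h2) : X a ⊔ X (-a) ≤ _) (Subgroup.mem_inf.1 hk).2
    have hka : ∀ v ∈ X a, k * v * k⁻¹ ∈ X a := fun v hv => tor_mem R ha.1 hkT hv
    have hcomm : ∀ u ∈ X a, ∀ v ∈ X a, u * v = v * u := fun u hu v hv =>
      (H.lr a ha.1).comm a ha.1 (by rw [cpr_self cs h ha.1]; norm_num) u hu v hv
    have hf : ∀ v ∈ X a, k * v * k⁻¹ = v → v = 1 := by
      intro v hv he
      by_contra hv1'
      apply h12
      have h3 := eq_of_trans (T := T) (S := {v | v ∈ X a ∧ v ≠ 1}) H.tab (fun v hv v' hv' => by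
        obtain ⟨t, ht, et⟩ := tor_self hA R H.tab hv.1 hv.2 hv'.1 hv'.2
        exact ⟨t, (Subgroup.mem_inf.1 ht).1, et⟩) (s := k) (t := 1) (v0 := v) (v := u1) hkT (one_mem _)
        ⟨hv, hv1'⟩ ⟨hu1, h11⟩ (by rw [he]; group)
      rw [ek] at h3
      rw [h3]; group
    obtain ⟨v, hv, rfl⟩ := surj_comm hcomm hka hf hu
    have hvP : v ∈ RGD.Sup X (Ge cs h r) := RGD.le_Sup ha hv
    -- `y'` acts on `P` by a homomorphism to the centre `X r`
    set zk := y' * k * y'⁻¹ * k⁻¹ with hzk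
    set zv := y' * v * y'⁻¹ * v⁻¹ with hzv
    have hzkr : zk ∈ X r := h3 k hkP
    have hzvr : zv ∈ X r := h3 v hvP
    have e1 : y' * k * y'⁻¹ = zk * k := by rw [hzk]; group
    have e2 : y' * v * y'⁻¹ = zv * v := by rw [hzv]; group
    have c1 : Commute zk k := (hP hkP hzkr).symm
    have c2 : Commute zk v := (hP hvP hzkr).symm
    have c3 : Commute zv k := (hP hkP hzvr).symm
    have c4 : Commute zv v := (hP hvP hzvr).symm
    have c5 : Commute zk zv := hcQ (RGD.le_Sup H.r_rad hzkr) hzvr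
    have e3 : y' * (k * v * k⁻¹ * v⁻¹) * y'⁻¹ = k * v * k⁻¹ * v⁻¹ := by
      calc y' * (k * v * k⁻¹ * v⁻¹) * y'⁻¹
          = (y' * k * y'⁻¹) * (y' * v * y'⁻¹) * (y' * k * y'⁻¹)⁻¹ * (y' * v * y'⁻¹)⁻¹ := by group
        _ = (zk * k) * (zv * v) * (zk * k)⁻¹ * (zv * v)⁻¹ := by rw [e1, e2]
        _ = zk * (k * (zv * v)) * k⁻¹ * (zk⁻¹ * (v⁻¹ * zv⁻¹)) := by group
        _ = zk * (k * (zv * v)) * k⁻¹ * ((v⁻¹ * zv⁻¹) * zk⁻¹) := by
            rw [((c2.inv_right.mul_right c5.inv_right).inv_left).eq]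
        _ = zk * ((k * zv) * v * k⁻¹ * v⁻¹ * zv⁻¹) * zk⁻¹ := by group
        _ = zk * (zv * (k * v * k⁻¹ * v⁻¹) * zv⁻¹) * zk⁻¹ := by rw [← c3.eq]; group
        _ = zk * (k * v * k⁻¹ * v⁻¹) * zk⁻¹ := by
            rw [(((c3.mul_right c4).mul_right c3.inv_right).mul_right c4.inv_right).eq]; group
        _ = _ := by
            rw [(((c1.mul_right c2).mul_right c1.inv_right).mul_right c2.inv_right).eq]; group
    calc y' * (k * v * k⁻¹ * v⁻¹) = (y' * (k * v * k⁻¹ * v⁻¹) * y'⁻¹) * y' := by group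
      _ = _ := by rw [e3]
  have h5 : RGD.Sup X (Ge cs h r) ≤ Subgroup.centralizer {y'} := by
    refine RGD.Sup_le fun b hb v hv => ?_
    rw [Subgroup.mem_centralizer_singleton_iff]
    exact (h4 b hb v hv).symm
  intro p hp
  have h6 : y' * p = p * y' := (Subgroup.mem_centralizer_singleton_iff.1 (h5 hp)).symm
  calc y * p * y⁻¹ = q * (y' * p) * (q * y')⁻¹ := by rw [hy']; group
    _ = q * p * q⁻¹ := by rw [h6]; group

end B

end HypW

end Cfsg.Agent.OddHalf.DblR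

end

-- merged: Cfsg.Agent.OddHalf.DblR.LocW
section

/-!
# ODD, D4, simply laced `K`, without `Sep` (for `L_4(q)`): existence of the doubled root group

* `Agr R r` : elements of `T ∩ ⟨X r, X (-r)⟩` and of `T ∩ ⟨X a, X (-a)⟩` acting in the same way on two root groups;
* `HypW.sc`, `HypW.perfect`, **`HypW.locS`**;
* **`no_pair_rgdS`** : no commuting pair of root type.
-/

set_option autoImplicit false
set_option linter.unusedSectionVars false

namespace Cfsg.Agent.OddHalf.DblR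

open CoxeterSystem Cfsg.Agent.ChevalleyStructure.CoxeterGeom Cfsg.Agent.Tits.Roots Cfsg.Agent.Tits.Core
  Cfsg.Agent.Tits.RootComb Cfsg.Agent.Tits.Exchange Cfsg.Agent.Nodes.Reps Cfsg.Agent.Nodes.BNOf
  Cfsg.Agent.Nodes.StabComb Cfsg.Agent.Nodes.Bruhat Cfsg.Agent.Nodes.OppDec Cfsg.Agent.Nodes.LeviDec
  Cfsg.Agent.Nodes.NormX Cfsg.Agent.Nodes.Coroot Cfsg.Agent.Nodes.PosPair Cfsg.Agent.KFacts.RgdPar
  Cfsg.Agent.KFacts.RgdSL Cfsg.Agent.KFacts.RgdTI Cfsg.Agent.KFacts.RgdCent Cfsg.Agent.KFacts.RgdOdd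
  Cfsg.Agent.KFacts.RgdEx Cfsg.Agent.KFacts.RgdTor Cfsg.Agent.KFacts.RgdKfour
open scoped commutatorElement

variable {I W Y : Type*} [Fintype I] [DecidableEq I] [Group W] [Group Y] {M : CoxeterMatrix I}
  {cs : CoxeterSystem M W} {A : I → I → ℤ} {h : IsCartan M A} {T : Subgroup Y} {n : I → Y}
  {X : (I → ℤ) → Subgroup Y}

/-- An element of `T ∩ ⟨X r, X (-r)⟩` acts on `X b` and `X c` as an element of `T ∩ ⟨X a, X (-a)⟩`. -/
def Agr (cs : CoxeterSystem M W) (h : IsCartan M A) (T : Subgroup Y) (X : (I → ℤ) → Subgroup Y) (r : I → ℤ) : Prop :=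
  ∀ a, IsRoot cs h a → cpr cs h a r = 0 → ∀ b ∈ Phi1 cs h r, ∀ c ∈ Phi1 cs h r, cpr cs h b a = 1 → cpr cs h c a = 1 →
    ∀ k ∈ T ⊓ (X r ⊔ X (-r)), ∃ t ∈ T ⊓ (X a ⊔ X (-a)), (∀ v ∈ X b, t * v * t⁻¹ = k * v * k⁻¹) ∧
      ∀ v ∈ X c, t * v * t⁻¹ = k * v * k⁻¹

namespace HypW

variable [Finite W] {R : RGD cs h 2 T n X} {r : I → ℤ} (H : HypW R r)

include H

/-- `⟨X r, X (-r)⟩` commutes with `X a`, `a` orthogonal to `r`. -/
theorem t0_comm {a : I → ℤ} (ha : IsRoot cs h a) (har : cpr cs h a r = 0) {k u : Y} (hk : k ∈ X r ⊔ X (-r))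
    (hu : u ∈ X a) : k * u = u * k := orth_comm R H.sl H.root ha har hk hu

theorem t_conj_Q {t p : Y} (ht : t ∈ T) (hp : p ∈ RGD.Sup X (Rad cs h r)) : t * p * t⁻¹ ∈ RGD.Sup X (Rad cs h r) := by
  have h1 : RGD.Sup X (Rad cs h r) ≤ (RGD.Sup X (Rad cs h r)).comap (MulAut.conj t).toMonoidHom := by
    refine RGD.Sup_le fun a ha u hu => ?_
    rw [Subgroup.mem_comap]
    exact RGD.le_Sup ha (tor_mem R ha.1 ht hu)
  exact h1 hp

/-- `[T_r, P] ≤ Q` -/
theorem tq {k p : Y} (hk : k ∈ T ⊓ (X r ⊔ X (-r))) (hp : p ∈ RGD.Sup X (Ge cs h r)) :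
    k * p * k⁻¹ * p⁻¹ ∈ RGD.Sup X (Rad cs h r) := by
  have hkT := (Subgroup.mem_inf.1 hk).1
  let L : Subgroup Y :=
    { carrier := {p | p ∈ RGD.Sup X (Ge cs h r) ∧ k * p * k⁻¹ * p⁻¹ ∈ RGD.Sup X (Rad cs h r)}
      one_mem' := ⟨one_mem _, by simp⟩
      mul_mem' := by
        rintro x y ⟨hx, hx'⟩ ⟨hy, hy'⟩
        refine ⟨mul_mem hx hy, ?_⟩
        have : k * (x * y) * k⁻¹ * (x * y)⁻¹ = (k * x * k⁻¹ * x⁻¹) * (x * (k * y * k⁻¹ * y⁻¹) * x⁻¹) := by group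
        rw [this]
        exact mul_mem hx' (H.QN hx hy')
      inv_mem' := by
        rintro x ⟨hx, hx'⟩
        refine ⟨inv_mem hx, ?_⟩
        have h1 : k * x⁻¹ * k⁻¹ * x⁻¹⁻¹ = x⁻¹ * (k * x * k⁻¹ * x⁻¹)⁻¹ * x := by group
        rw [h1]
        have := H.QN (inv_mem hx) (inv_mem hx')
        rwa [inv_inv] at this }
  have hL : RGD.Sup X (Ge cs h r) ≤ L := by
    refine RGD.Sup_le fun a ha u hu => ⟨RGD.le_Sup ha hu, ?_⟩
    by_cases h0 : 1 ≤ cpr cs h a r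
    · have h1 : a ∈ Rad cs h r := ⟨ha.1, h0⟩
      exact mul_mem (RGD.le_Sup h1 (tor_mem R ha.1 hkT hu)) (inv_mem (RGD.le_Sup h1 hu))
    · have h1 : cpr cs h a r = 0 := by have := ha.2; omega
      have h2 : k * u = u * k := t0_comm H ha.1 h1 (Subgroup.mem_inf.1 hk).2 hu
      have h3 : k * u * k⁻¹ * u⁻¹ = 1 := by rw [h2]; group
      rw [h3]
      exact one_mem _
  exact (hL hp).2


theorem perfect [Finite Y] (big : ∀ b, IsRoot cs h b → ∃ u ∈ X b, ∃ u' ∈ X b, u ≠ 1 ∧ u' ≠ 1 ∧ u ≠ u') :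
    RGD.Sup X (Ge cs h r) ≤ ⁅RGD.Sup X (Ge cs h r), RGD.Sup X (Ge cs h r)⁆ := by
  -- a root that is the sum of two roots of `Ge`
  have key : ∀ {a b : I → ℤ}, A2 cs h a b → a ∈ Ge cs h r → b ∈ Ge cs h r →
      X (a + b) ≤ ⁅RGD.Sup X (Ge cs h r), RGD.Sup X (Ge cs h r)⁆ := by
    intro a b hA ha hb w hw
    obtain ⟨u, hu, hu1⟩ := exists_ne R hA.rx
    obtain ⟨v, hv, rfl⟩ := hA.comm_surj R hu hu1 hw
    exact Subgroup.commutator_mem_commutator (RGD.le_Sup ha hu) (RGD.le_Sup hb hv)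
  refine RGD.Sup_le fun a ha => ?_
  rcases lt_or_ge 0 (cpr cs h a r) with h0 | h0
  · rcases H.rad_cases (b := a) ⟨ha.1, by omega⟩ with rfl | h1
    · -- `a = r`
      obtain ⟨b, hb⟩ := H.ex
      have h2 := key (H.a2 hb) (H.phi1_ge hb) (H.phi1_ge (H.sub_mem hb))
      rwa [add_sub_cancel] at h2
    · obtain ⟨d, hd, hdr, had⟩ := H.lev a h1
      have hda : cpr cs h d a = 1 := by rw [H.sl d a hd h1.1, had]
      have hA : A2 cs h (a - d) d := by
        refine H.sl.a2 (isRoot_sub h1.1 hd had) hd ?_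
        rw [cpr_sub_left H.sl hd hd hd, had, cpr_self cs h hd]; norm_num
      have h2 := key hA ⟨hA.rx, by
        rw [cpr_sub_left H.sl hd hd H.root, h1.2, hdr]; norm_num⟩ ⟨hd, by rw [hdr]⟩
      rwa [sub_add_cancel] at h2
  · -- `a` orthogonal to `r`
    have h1 : cpr cs h a r = 0 := le_antisymm h0 ha.2
    obtain ⟨b, hb, hab⟩ := H.nb a ha.1
    have hA : A2 cs h a (-b) := by
      refine H.sl.a2 ha.1 hb.neg ?_
      rw [cpr_neg_right cs h _ hb, hab]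
    obtain ⟨t, ht, hall⟩ := exists_tor_comm R H.tab hA (big a ha.1)
    intro u hu
    obtain ⟨v, hv, rfl⟩ := hall u hu
    refine Subgroup.commutator_mem_commutator (RGD.le_Sup ha hv) ?_
    have h3 : X a ⊔ X (-a) ≤ RGD.Sup X (Ge cs h r) := by
      refine sup_le (RGD.le_Sup ha) (RGD.le_Sup ⟨ha.1.neg, ?_⟩)
      rw [cpr_neg_left _ H.root, h1, neg_zero]
    exact h3 ht.2

section Aut

variable {e : Y} (heP : ∀ p ∈ RGD.Sup X (Ge cs h r), e * p * e⁻¹ * p⁻¹ ∈ RGD.Sup X (Rad cs h r))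

include heP

omit H in
theorem e_mem_Q {q : Y} (hq : q ∈ RGD.Sup X (Rad cs h r))
    (hle : RGD.Sup X (Rad cs h r) ≤ RGD.Sup X (Ge cs h r)) : e * q * e⁻¹ ∈ RGD.Sup X (Rad cs h r) := by
  have h1 := mul_mem (heP q (hle hq)) hq
  rwa [inv_mul_cancel_right] at h1

/-- `e v e⁻¹`, `v ∈ X b`, has no component in `X c` if some root `a` orthogonal to `r` separates `b` from `c`. -/
theorem e_comm {b c a : I → ℤ} (hb : b ∈ Phi1 cs h r) (hc : c ∈ Phi1 cs h r) (ha : IsRoot cs h a)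
    (har : cpr cs h a r = 0) (hab : 0 ≤ cpr cs h a b) (hac : cpr cs h a c = -1) {v : Y} (hv : v ∈ X b) :
    ∀ w ∈ X (r - c), (e * v * e⁻¹) * w = w * (e * v * e⁻¹) := by
  have hvQ : v ∈ RGD.Sup X (Rad cs h r) := RGD.le_Sup (H.phi1_rad hb) hv
  have htQ : e * v * e⁻¹ ∈ RGD.Sup X (Rad cs h r) := e_mem_Q heP hvQ H.rad_le_ge
  set t := e * v * e⁻¹ with ht
  -- `t` commutes with `X (r - c)`
  have hc' := H.sub_mem hc
  have hac' : cpr cs h a (r - c) = 1 := by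
    rw [H.sl a _ ha hc'.1, cpr_sub_left H.sl H.root H.root ha, H.sl r a H.root ha, har, H.sl c a hc.1 ha, hac]
    norm_num
  have hsub : IsRoot cs h (r - c - a) := by
    refine isRoot_sub hc'.1 ha ?_
    rw [H.sl _ a hc'.1 ha, hac']
  have hdr : cpr cs h (r - c - a) r = 1 := by
    rw [cpr_sub_left H.sl H.root H.root H.root, hc'.2, har]; norm_num
  have hA : A2 cs h a (r - c - a) := by
    refine H.sl.a2 ha hsub ?_
    rw [H.sl a _ ha hsub, cpr_sub_left H.sl H.root H.root ha, cpr_self cs h ha, H.sl _ a hc'.1 ha, hac']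
    norm_num
  intro w hw
  obtain ⟨x, hx, hx1⟩ := exists_ne R ha
  obtain ⟨w', hw', ew⟩ := hA.comm_surj R hx hx1 (w := w) (by rwa [add_sub_cancel])
  have hxP : x ∈ RGD.Sup X (Ge cs h r) := RGD.le_Sup (⟨ha, har.ge⟩ : a ∈ Ge cs h r) hx
  have hw'Q : w' ∈ RGD.Sup X (Rad cs h r) := RGD.le_Sup (⟨hsub, hdr.ge⟩ : (r - c - a) ∈ Rad cs h r) hw'
  have hwQ : w ∈ RGD.Sup X (Rad cs h r) := RGD.le_Sup (H.phi1_rad hc') hw
  -- `x t x⁻¹ = t z`
  set q := e * x * e⁻¹ * x⁻¹ with hq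
  have hqQ : q ∈ RGD.Sup X (Rad cs h r) := heP x hxP
  have hxv : x * v = v * x := (H.lr b hb.1).comm a ha hab x hx v hv
  have h1 : (q * x) * t = t * (q * x) := by
    have : q * x = e * x * e⁻¹ := by rw [hq]; group
    rw [this, ht]
    calc e * x * e⁻¹ * (e * v * e⁻¹) = e * (x * v) * e⁻¹ := by group
      _ = e * v * e⁻¹ * (e * x * e⁻¹) := by rw [hxv]; group
  have hz : ⁅t⁻¹, q⁻¹⁆ ∈ X r := H.br_Q (inv_mem htQ) (inv_mem hqQ)
  have h2 : x * t * x⁻¹ = t * ⁅t⁻¹, q⁻¹⁆ := by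
    calc x * t * x⁻¹ = q⁻¹ * ((q * x) * t) * x⁻¹ := by group
      _ = q⁻¹ * t * q := by rw [h1]; group
      _ = t * ⁅t⁻¹, q⁻¹⁆ := by rw [commutatorElement_def]; group
  have h3 : x * w' * x⁻¹ = w * w' := by
    rw [← ew, commutatorElement_def]; group
  have hcQ : ∀ {q z : Y}, q ∈ RGD.Sup X (Rad cs h r) → z ∈ X r → q * z = z * q :=
    fun hq hz => H.central (H.rad_le_ge hq) hz
  have h4 : ⁅t, w'⁆ ∈ X r := H.br_Q htQ hw'Q
  have h4' : ⁅t, w⁆ ∈ X r := H.br_Q htQ hwQ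
  have h5 : x * ⁅t, w'⁆ * x⁻¹ = ⁅t, w'⁆ := by
    rw [H.central hxP h4]; group
  have h6 : x * ⁅t, w'⁆ * x⁻¹ = ⁅t, w⁆ * ⁅t, w'⁆ := by
    have e1 : x * ⁅t, w'⁆ * x⁻¹ = ⁅x * t * x⁻¹, x * w' * x⁻¹⁆ := by
      simp only [commutatorElement_def]; group
    rw [e1, h2, h3]
    have hzw : ⁅t⁻¹, q⁻¹⁆ * (w * w') = (w * w') * ⁅t⁻¹, q⁻¹⁆ := (hcQ (mul_mem hwQ hw'Q) hz).symm
    have e2 : ⁅t * ⁅t⁻¹, q⁻¹⁆, w * w'⁆ = ⁅t, w * w'⁆ := by
      rw [commutatorElement_def (t * _), commutatorElement_def t (w * w')]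
      calc t * ⁅t⁻¹, q⁻¹⁆ * (w * w') * (t * ⁅t⁻¹, q⁻¹⁆)⁻¹ * (w * w')⁻¹
          = t * (⁅t⁻¹, q⁻¹⁆ * (w * w')) * (t * ⁅t⁻¹, q⁻¹⁆)⁻¹ * (w * w')⁻¹ := by group
        _ = _ := by rw [hzw]; group
    have e3 : ⁅t, w * w'⁆ = ⁅t, w⁆ * (w * ⁅t, w'⁆ * w⁻¹) := by simp only [commutatorElement_def]; group
    rw [e2, e3, hcQ hwQ h4]; group
  rw [h5] at h6
  have h7 : ⁅t, w⁆ = 1 := by
    have := h6.symm
    exact mul_eq_right.mp this
  exact commutatorElement_eq_one_iff_mul_comm.1 h7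

/-- **(sc)** -/
theorem sc (hagr : Agr cs h T X r) (heX : ∀ z ∈ X r, e * z * e⁻¹ ∈ X r) {k : Y} (hk : k ∈ T ⊓ (X r ⊔ X (-r))) {v : Y}
    (hv : v ∈ RGD.Sup X (Rad cs h r)) :
    k * (e * v * e⁻¹) * k⁻¹ * (e * (k * v * k⁻¹) * e⁻¹)⁻¹ ∈ X r := by
  have hkT := (Subgroup.mem_inf.1 hk).1
  have hcQ : ∀ {q z : Y}, q ∈ RGD.Sup X (Rad cs h r) → z ∈ X r → q * z = z * q :=
    fun hq hz => H.central (H.rad_le_ge hq) hz
  have hkQ : ∀ {q : Y}, q ∈ RGD.Sup X (Rad cs h r) → k * q * k⁻¹ ∈ RGD.Sup X (Rad cs h r) := fun hq => t_conj_Q H hkT hq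
  have heQ : ∀ {q : Y}, q ∈ RGD.Sup X (Rad cs h r) → e * q * e⁻¹ ∈ RGD.Sup X (Rad cs h r) :=
    fun hq => e_mem_Q heP hq H.rad_le_ge
  let L : Subgroup Y :=
    { carrier := {v | v ∈ RGD.Sup X (Rad cs h r) ∧
        k * (e * v * e⁻¹) * k⁻¹ * (e * (k * v * k⁻¹) * e⁻¹)⁻¹ ∈ X r}
      one_mem' := ⟨one_mem _, by
        have : k * (e * 1 * e⁻¹) * k⁻¹ * (e * (k * 1 * k⁻¹) * e⁻¹)⁻¹ = 1 := by group
        rw [this]; exact one_mem _⟩
      mul_mem' := by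
        rintro x y ⟨hx, hx'⟩ ⟨hy, hy'⟩
        refine ⟨mul_mem hx hy, ?_⟩
        have h1 := hcQ (hkQ (heQ hx)) hy'
        have h2 : k * (e * (x * y) * e⁻¹) * k⁻¹ * (e * (k * (x * y) * k⁻¹) * e⁻¹)⁻¹ =
            (k * (e * x * e⁻¹) * k⁻¹) * (k * (e * y * e⁻¹) * k⁻¹ * (e * (k * y * k⁻¹) * e⁻¹)⁻¹) *
              (e * (k * x * k⁻¹) * e⁻¹)⁻¹ := by group
        rw [h2, h1, mul_assoc]
        exact mul_mem hy' hx'
      inv_mem' := by
        rintro x ⟨hx, hx'⟩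
        refine ⟨inv_mem hx, ?_⟩
        have h1 := hcQ (inv_mem (hkQ (heQ hx))) (inv_mem hx')
        have h2 : k * (e * x⁻¹ * e⁻¹) * k⁻¹ * (e * (k * x⁻¹ * k⁻¹) * e⁻¹)⁻¹ =
            (k * (e * x * e⁻¹) * k⁻¹)⁻¹ * (k * (e * x * e⁻¹) * k⁻¹ * (e * (k * x * k⁻¹) * e⁻¹)⁻¹)⁻¹ *
              (k * (e * x * e⁻¹) * k⁻¹) := by group
        rw [h2, h1, mul_assoc, inv_mul_cancel, mul_one]
        exact inv_mem hx' }
  suffices hL : RGD.Sup X (Rad cs h r) ≤ L from (hL hv).2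
  clear hv v
  refine RGD.Sup_le fun b hb v hv => ?_
  have hvQ : v ∈ RGD.Sup X (Rad cs h r) := RGD.le_Sup hb hv
  refine ⟨hvQ, ?_⟩
  rcases H.rad_cases hb with hbr | hb'
  · rw [hbr] at hv
    exact mul_mem (tor_mem R H.root hkT (heX v hv)) (inv_mem (heX _ (tor_mem R H.root hkT hv)))
  -- `v ∈ X b`, `b ∈ Phi1`
  set u := e * v * e⁻¹ with hu
  have huQ : u ∈ RGD.Sup X (Rad cs h r) := heQ hvQ
  have hvb : k * v * k⁻¹ ∈ X b := tor_mem R hb'.1 hkT hv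
  have hDQ : k * u * k⁻¹ * (e * (k * v * k⁻¹) * e⁻¹)⁻¹ ∈ RGD.Sup X (Rad cs h r) :=
    mul_mem (hkQ huQ) (inv_mem (heQ (hkQ hvQ)))
  have h1 := H.mem_QS (S := ∅) (Set.empty_subset _) hDQ ?_
  · exact (sup_le (RGD.Sup_le fun x hx => absurd hx (Set.notMem_empty x)) le_rfl : QS X r ∅ ≤ X r) h1
  intro c hc _ w hw
  have hc' := H.sub_mem hc
  -- conjugates by elements of `T`
  have htc : ∀ {t m : Y}, t ∈ T → (∀ w ∈ X (r - c), m * w = w * m) → ∀ w ∈ X (r - c), (t * m * t⁻¹) * w = w * (t * m * t⁻¹) := by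
    intro t m ht hm w hw
    have h2 : t⁻¹ * w * t ∈ X (r - c) := by
      have := tor_mem R hc'.1 (inv_mem ht) hw
      rwa [inv_inv] at this
    have h3 := hm _ h2
    calc t * m * t⁻¹ * w = t * (m * (t⁻¹ * w * t)) * t⁻¹ := by group
      _ = t * ((t⁻¹ * w * t) * m) * t⁻¹ := by rw [h3]
      _ = _ := by group
  by_cases hsep : ∃ a, IsRoot cs h a ∧ cpr cs h a r = 0 ∧ 0 ≤ cpr cs h a b ∧ cpr cs h a c = -1
  · obtain ⟨a, ha, har, hab, hac⟩ := hsep
    have h2 := H.e_comm heP hb' hc ha har hab hac hv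
    have h3 := H.e_comm heP hb' hc ha har hab hac hvb w hw
    have h4 := htc hkT h2 w hw
    have h5 : (e * (k * v * k⁻¹) * e⁻¹)⁻¹ * w = w * (e * (k * v * k⁻¹) * e⁻¹)⁻¹ := (Commute.inv_left h3).eq
    calc k * u * k⁻¹ * (e * (k * v * k⁻¹) * e⁻¹)⁻¹ * w = k * u * k⁻¹ * ((e * (k * v * k⁻¹) * e⁻¹)⁻¹ * w) := by
          rw [mul_assoc]
      _ = (k * u * k⁻¹ * w) * (e * (k * v * k⁻¹) * e⁻¹)⁻¹ := by rw [h5, ← mul_assoc]
      _ = _ := by rw [h4, mul_assoc]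
  · obtain ⟨a, ha, har, hca⟩ := H.lev c hc
    have hba : cpr cs h b a = 1 := by
      by_contra hne
      apply hsep
      refine ⟨-a, ha.neg, by rw [cpr_neg_left _ H.root, har, neg_zero], ?_, ?_⟩
      · rw [cpr_neg_left _ hb'.1]
        rcases H.sl.cases ha hb'.1 with ⟨h2, -⟩ | ⟨h2, h3⟩ | h2
        · rw [h2, hb'.2] at har; omega
        · omega
        · have := H.sl b a hb'.1 ha
          omega
      · rw [cpr_neg_left _ hc.1, H.sl a c ha hc.1, hca]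
    obtain ⟨t, ht, htb, htc'⟩ := hagr a ha har b hb' c hc hba hca k hk
    have htT := (Subgroup.mem_inf.1 ht).1
    have htP : t ∈ RGD.Sup X (Ge cs h r) := by
      have h1 : a ∈ Ge cs h r := ⟨ha, har.ge⟩
      have h2 : -a ∈ Ge cs h r := ⟨ha.neg, by rw [cpr_neg_left _ H.root, har, neg_zero]⟩
      exact (sup_le (RGD.le_Sup h1) (RGD.le_Sup h2) : X a ⊔ X (-a) ≤ _) (Subgroup.mem_inf.1 ht).2
    set q := e * t * e⁻¹ * t⁻¹ with hq
    have hqQ : q ∈ RGD.Sup X (Rad cs h r) := heP t htP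
    have htuQ : t * u * t⁻¹ ∈ RGD.Sup X (Rad cs h r) := t_conj_Q H htT huQ
    have hz : ⁅q, t * u * t⁻¹⁆ ∈ X r := H.br_Q hqQ htuQ
    have h2 : e * (k * v * k⁻¹) * e⁻¹ = ⁅q, t * u * t⁻¹⁆ * (t * u * t⁻¹) := by
      rw [← htb v hv, commutatorElement_def, hu, hq]; group
    -- the component in `X c`
    have huS : u ∈ QS X r (Phi1 cs h r) := by rw [← H.rad_eq]; exact huQ
    obtain ⟨vc, hvc, q', hq', e1⟩ := H.QS_split subset_rfl hc huS
    have hq'c : ∀ w ∈ X (r - c), q' * w = w * q' := fun w hw => by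
      refine H.QS_comm (S := Phi1 cs h r \ {c}) (fun y hy => hy.1) hc' ?_ hq' hw
      rw [sub_sub_cancel]
      exact fun h0 => h0.2 rfl
    set m := (k * q' * k⁻¹) * (t * q' * t⁻¹)⁻¹ with hm
    have hmc : ∀ w ∈ X (r - c), m * w = w * m := by
      intro w hw
      have h3 : (k * q' * k⁻¹) * w = w * (k * q' * k⁻¹) := htc hkT hq'c w hw
      have h4 : (t * q' * t⁻¹)⁻¹ * w = w * (t * q' * t⁻¹)⁻¹ := (Commute.inv_left (htc htT hq'c w hw)).eq
      rw [hm, mul_assoc, h4, ← mul_assoc, h3, mul_assoc]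
    have hD : k * u * k⁻¹ * (e * (k * v * k⁻¹) * e⁻¹)⁻¹ =
        (k * vc * k⁻¹) * m * (k * vc * k⁻¹)⁻¹ * ⁅q, t * u * t⁻¹⁆⁻¹ := by
      rw [h2, mul_inv_rev, hm]
      have h3 : k * u * k⁻¹ * (t * u * t⁻¹)⁻¹ = (k * vc * k⁻¹) * ((k * q' * k⁻¹) * (t * q' * t⁻¹)⁻¹) * (k * vc * k⁻¹)⁻¹ := by
        conv_rhs => rw [← htc' vc hvc]
        rw [e1]
        have h4 := htc' vc hvc
        calc k * (vc * q') * k⁻¹ * (t * (vc * q') * t⁻¹)⁻¹
            = (k * vc * k⁻¹) * ((k * q' * k⁻¹) * (t * q' * t⁻¹)⁻¹) * (t * vc * t⁻¹)⁻¹ := by group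
          _ = _ := by rw [h4]
      rw [← mul_assoc, h3]
    have hvcX : k * vc * k⁻¹ ∈ X c := tor_mem R hc.1 hkT hvc
    set v' := k * vc * k⁻¹ with hv'
    have hzw : ⁅v', w⁆ ∈ X r := H.br_mem hc hvcX hw
    have hwQ : w ∈ RGD.Sup X (Rad cs h r) := RGD.le_Sup (H.phi1_rad hc') hw
    have hv'Q : v' ∈ RGD.Sup X (Rad cs h r) := RGD.le_Sup (H.phi1_rad hc) hvcX
    have hmQ : m ∈ RGD.Sup X (Rad cs h r) := by
      have hq'Q : q' ∈ RGD.Sup X (Rad cs h r) := by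
        have : q' = vc⁻¹ * u := by rw [e1]; group
        rw [this]
        exact mul_mem (inv_mem (RGD.le_Sup (H.phi1_rad hc) hvc)) huQ
      exact mul_mem (hkQ hq'Q) (inv_mem (t_conj_Q H htT hq'Q))
    have h5 : v' * m * v'⁻¹ * w = w * (v' * m * v'⁻¹) := by
      -- `v'⁻¹ w v' = w z`
      have h6 : ⁅v'⁻¹, w⁆ ∈ X r := H.br_mem hc (inv_mem hvcX) hw
      have h7 : v'⁻¹ * w = ⁅v'⁻¹, w⁆ * w * v'⁻¹ := by rw [commutatorElement_def]; group
      have h8 : m * ⁅v'⁻¹, w⁆ = ⁅v'⁻¹, w⁆ * m := hcQ hmQ h6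
      calc v' * m * v'⁻¹ * w = v' * m * (v'⁻¹ * w) := by group
        _ = v' * (m * ⁅v'⁻¹, w⁆) * w * v'⁻¹ := by rw [h7]; group
        _ = v' * ⁅v'⁻¹, w⁆ * (m * w) * v'⁻¹ := by rw [h8]; group
        _ = v' * ⁅v'⁻¹, w⁆ * (w * m) * v'⁻¹ := by rw [hmc w hw]
        _ = (v' * (⁅v'⁻¹, w⁆ * w * v'⁻¹)) * (v' * m * v'⁻¹) := by group
        _ = (v' * (v'⁻¹ * w)) * (v' * m * v'⁻¹) := by rw [h7]
        _ = _ := by group
    rw [hD]
    have h6 : ⁅q, t * u * t⁻¹⁆⁻¹ * w = w * ⁅q, t * u * t⁻¹⁆⁻¹ := (hcQ hwQ (inv_mem hz)).symm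
    rw [mul_assoc, h6, ← mul_assoc, h5, mul_assoc]

end Aut

/-- **`LocS`** -/
theorem locS [Finite Y] (hagr : Agr cs h T X r) (hq : ∀ b, IsRoot cs h b → ∃ u ∈ X b, ∃ v ∈ X b, u ≠ 1 ∧ v ≠ 1 ∧ u ≠ v)
    {Rr : Subgroup Y} (amb : Amb (GG cs h T X) Rr)
    (two : ∀ c ∈ C1 (GG cs h T X) Rr, IsPGroup 2 (Subgroup.zpowers c) → c ∈ Rr)
    (k3 : ∀ c : Y, (∀ a ∈ Rr, c * a = a * c) → (∀ p ∈ RGD.Sup X (Ge cs h r), c * p = p * c) →
      ∃ x ∈ X r, x⁻¹ * c ∈ C1 (GG cs h T X) Rr) :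
    LocS (GG cs h T X) Rr (RGD.Sup X (Ge cs h r)) (RGD.Sup X (Rad cs h r)) (X r) (T ⊓ (X r ⊔ X (-r))) where
  amb := amb
  PK := le_trans (RGD.Sup_mono fun _ hx => hx.1) le_sup_right
  QP := H.rad_le_ge
  XQ := RGD.le_Sup H.r_rad
  XX := fun x hx => H.r_sq hx
  XZ := fun x hx p hp => (H.central hp hx).symm
  QN := fun p hp q hq => H.QN hp hq
  TK := le_trans inf_le_left le_sup_left
  TX := fun t ht x hx => tor_mem R H.root (Subgroup.mem_inf.1 ht).1 hx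
  TQ := fun k hk p hp => tq H hk hp
  Tab := fun s hs t ht => H.tab s (Subgroup.mem_inf.1 hs).1 t (Subgroup.mem_inf.1 ht).1
  Ttr := by
    intro x hx hx1 y hy hy1
    obtain ⟨b, hb⟩ := H.ex
    have hA' : A2 cs h r (-b) := by
      refine H.sl.a2 H.root hb.1.neg ?_
      rw [cpr_neg_right cs h _ hb.1, H.sl r b H.root hb.1, hb.2]
    exact tor_self hA' R H.tab hx hx1 hy hy1
  big := by
    obtain ⟨x, hx, y, hy, h1, h2, h3⟩ := hq r H.root
    exact ⟨x, hx, y, hy, h1, h2, h3⟩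
  two := two
  k3 := k3
  sc := fun e _ _ heX he k hk v hv => H.sc he hagr heX hk hv
  gen := by
    obtain ⟨b, hb⟩ := H.ex
    obtain ⟨u, hu, hu1⟩ := exists_ne R hb.1
    intro w hw
    obtain ⟨v, hv, rfl⟩ := (H.a2 hb).comm_surj R hu hu1 (w := w) (by rwa [add_sub_cancel])
    exact Subgroup.commutator_mem_commutator (RGD.le_Sup (H.phi1_rad hb) hu) (RGD.le_Sup (H.phi1_rad (H.sub_mem hb)) hv)
  B := by
    intro y _ hyP hyQ hyX
    exact H.B hyP hyX hyQ (fun b _ => inferInstance) hq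

end HypW

/-- **No commuting pair of root type**, simply laced root group datum. -/
theorem no_pair_rgdS [Finite W] (Rd : RGD cs h 2 T n X) [Finite Y] (hs : SL cs h) (hL : ∀ a, IsRoot cs h a → LR Rd a)
    (hN : NoCent cs h T X) (Tab : ∀ t ∈ T, ∀ t' ∈ T, t * t' = t' * t) {E T0 : Subgroup Y}
    (F1 : FactOne cs h T X E) (F2 : FactTwo cs h T X E)
    {r s g g' : I → ℤ} (hA : A2 cs h r s) (hgs : cpr cs h s g = 0) (hgr : A2 cs h g r)
    (hgs' : cpr cs h r g' = 0) (hgr' : A2 cs h g' s)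
    (hT0 : T0 ≤ T) (L : LocS (GG cs h T X) E (RGD.Sup X (Ge cs h r)) (RGD.Sup X (Rad cs h r)) (X r) T0)
    (hPp : RGD.Sup X (Ge cs h r) ≤ ⁅RGD.Sup X (Ge cs h r), RGD.Sup X (Ge cs h r)⁆)
    (hout : ∀ H : Subgroup Y, H ≤ Subgroup.normalizer (GG cs h T X : Set Y) → H ≤ ⁅H, H⁆ →
      ∀ x ∈ H, ∃ k ∈ GG cs h T X, ∃ c : Y, (∀ y ∈ GG cs h T X, c * y = y * c) ∧ x = k * c)
    (hC1 : ∀ H : Subgroup Y, H ≤ C1 (GG cs h T X) E → H ≤ ⁅H, H⁆ → H = ⊥)
    {t t' : Y} (ht : t ∈ E) (ht1 : t ≠ 1) (ht' : t' ∈ E) (ht1' : t' ≠ 1) (hne : t' ≠ t)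
    {γ k : Y} (hk : k ∈ GG cs h T X) (hg1 : cj γ E ≤ E ⊔ X r) (hg2 : E ≤ cj γ (E ⊔ cj k (X r)))
    (hg3 : ¬ cj γ E ≤ E) : False := by
  obtain ⟨k1, m1, H, ek, em⟩ := ktri Rd hs hL Tab F1 F2 hA hgs hgr hgs' hgr' L.big
  have hL' := hL r hA.rx
  have hkm : m1⁻¹ * k1 ∈ GG cs h T X := mul_mem (inv_mem H.mK) H.nK
  obtain ⟨V, B, -⟩ := L.base_of_pair (norX Rd hL' Tab hT0) res res_cj
    (res_eq L.amb (fun p hp x hx => (L.XZ x hx p hp).symm) L.PK (le_trans L.XQ (le_trans L.QP L.PK))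
      ⟨t, ht, ht1⟩ hPp hout hC1 (fun x hx hx1 H hH hHx hHp => le_P_of_perfect Rd hL' Tab hx hx1 hH hHx hHp))
    (fun g hg => cj_of_cj_P Rd hs hL hN hA.rx L.QN hg) hk hg1 hg2 hg3
  exact hne ((H.tri L.amb B (a := 1) (b := m1⁻¹ * k1) (c := k1) (one_mem _) hkm H.nK (cj_one _)
    (by rw [cj_mul, H.nX, ← H.mX, cj_inv_cj]) H.nX (cj_one _) (by rw [cj_mul, ek, ← em, cj_inv_cj]) ek).eq_of_ne_one
    ht ht1 ht' ht1')

end Cfsg.Agent.OddHalf.DblR

end

-- merged: Cfsg.Agent.OddHalf.DblR.RowW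
section

/-!
# ODD, D4: rows, `K` simply laced of rank at least 3 over a field with at least 4 elements, `A₃` included

* `SheetW R` : as `Sheet R`, `Sep` replaced by `lev` and `Agr`;
* **`SheetW.row`** : `f : Y →* G` injective with image `K`, `E` a Sylow 2-subgroup of `C_G(K)` of order at least 4:
  there is no commuting pair of root type.
-/

set_option autoImplicit false
set_option linter.unusedSectionVars false

namespace Cfsg.Agent.OddHalf.DblR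

open CoxeterSystem Cfsg.Agent.ChevalleyStructure.CoxeterGeom Cfsg.Agent.Tits.Roots Cfsg.Agent.Tits.Core
  Cfsg.Agent.Tits.RootComb Cfsg.Agent.Tits.Exchange Cfsg.Agent.Nodes.Reps Cfsg.Agent.Nodes.BNOf
  Cfsg.Agent.Nodes.StabComb Cfsg.Agent.Nodes.Bruhat Cfsg.Agent.Nodes.OppDec Cfsg.Agent.Nodes.LeviDec
  Cfsg.Agent.Nodes.NormX Cfsg.Agent.Nodes.Coroot Cfsg.Agent.Nodes.PosPair Cfsg.Agent.KFacts.RgdPar
  Cfsg.Agent.KFacts.RgdSL Cfsg.Agent.KFacts.RgdTI Cfsg.Agent.KFacts.RgdCent Cfsg.Agent.KFacts.RgdOdd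
  Cfsg.Agent.KFacts.RgdEx Cfsg.Agent.KFacts.RgdTor Cfsg.Agent.KFacts.RgdKfour
open scoped commutatorElement

variable {I W Y : Type*} [Fintype I] [DecidableEq I] [Group W] [Group Y] {M : CoxeterMatrix I}
  {cs : CoxeterSystem M W} {A : I → I → ℤ} {h : IsCartan M A} {T : Subgroup Y} {n : I → Y}
  {X : (I → ℤ) → Subgroup Y}

/-- The facts on `Y`. -/
structure SheetW [Finite W] (R : RGD cs h 2 T n X) : Prop where
  top : RGD.Sup X {x | IsRoot cs h x} = ⊤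
  sl : SL cs h
  tab : ∀ s ∈ T, ∀ t ∈ T, s * t = t * s
  lev : ∀ r, IsRoot cs h r → ∀ b ∈ Phi1 cs h r, ∃ a, IsRoot cs h a ∧ cpr cs h a r = 0 ∧ cpr cs h b a = 1
  nb : ∀ a, IsRoot cs h a → ∃ b, IsRoot cs h b ∧ cpr cs h a b = 1
  three : ∀ r s, IsRoot cs h r → IsRoot cs h s → cpr cs h r s = 1 →
    ∃ c, IsRoot cs h c ∧ cpr cs h c r = 1 ∧ cpr cs h c s = 1
  nocent : NoCent cs h T X
  big : ∀ b, IsRoot cs h b → ∃ u ∈ X b, ∃ v ∈ X b, u ≠ 1 ∧ v ≠ 1 ∧ u ≠ v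
  k1 : ∀ r, IsRoot cs h r → ∀ α : MulAut Y, (∀ a ∈ Rad cs h r, ∀ x ∈ X a, α x = x) → ∃ z ∈ X r, α = MulAut.conj z
  k2 : ∀ r s, IsRoot cs h r → IsRoot cs h s → cpr cs h r s = 1 → ∀ α : MulAut Y,
    (∀ a ∈ Psi cs h r s, ∀ x ∈ X a, α x = x) → ∃ z ∈ X r ⊔ X s, α = MulAut.conj z
  /-- perfect groups of automorphisms are inner -/
  out : ∀ H : Subgroup (MulAut Y), H ≤ ⁅H, H⁆ → ∀ α ∈ H, ∃ y, α = MulAut.conj y
  agr : ∀ r, IsRoot cs h r → Agr cs h T X r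

theorem SheetW.hyp [Finite W] {R : RGD cs h 2 T n X} (S : SheetW R) {r : I → ℤ} (hr : IsRoot cs h r) : HypW R r :=
  ⟨S.sl, hr, S.tab, S.lev r hr, S.nb⟩

section

variable [Finite W] {R : RGD cs h 2 T n X} {G : Type*} [Group G] (f : Y →* G)

theorem map_hypW {r : I → ℤ} (R' : RGD cs h 2 (T.map f) (fun i => f (n i)) (fun x => (X x).map f)) (H : HypW R r) :
    HypW R' r := by
  refine ⟨H.sl, H.root, ?_, H.lev, H.nb⟩
  rintro _ ⟨s, hs, rfl⟩ _ ⟨t, ht, rfl⟩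
  rw [← map_mul, ← map_mul, H.tab s hs t ht]

theorem map_agr (hf : Function.Injective f) {r : I → ℤ} (H : Agr cs h T X r) :
    Agr cs h (T.map f) (fun x => (X x).map f) r := by
  intro a ha har b hb c hc hba hca k hk
  have key : ∀ y : I → ℤ, T.map f ⊓ ((X y).map f ⊔ (X (-y)).map f) = (T ⊓ (X y ⊔ X (-y))).map f := by
    intro y
    rw [← Subgroup.map_sup, Subgroup.map_inf _ _ f hf]
  rw [key] at hk
  obtain ⟨k0, hk0, rfl⟩ := hk
  obtain ⟨t, ht, h1, h2⟩ := H a ha har b hb c hc hba hca k0 hk0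
  refine ⟨f t, ?_, ?_, ?_⟩
  · rw [key]; exact ⟨t, ht, rfl⟩
  · rintro _ ⟨v, hv, rfl⟩
    rw [← map_inv, ← map_inv, ← map_mul, ← map_mul, ← map_mul, ← map_mul, h1 v hv]
  · rintro _ ⟨v, hv, rfl⟩
    rw [← map_inv, ← map_inv, ← map_mul, ← map_mul, ← map_mul, ← map_mul, h2 v hv]

/-- **Row.** No commuting pair of root type. -/
theorem SheetW.row [Finite Y] [Finite G] (S : SheetW R) (hf : Function.Injective f) {K : Subgroup G} (hK : f.range = K)
    (St : Std1 K) {E : Subgroup G} (hE : E ≤ Subgroup.centralizer (K : Set G)) (hE2 : IsPGroup 2 ↥E)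
    (hEmax : ∀ D : Subgroup G, E ≤ D → D ≤ Subgroup.centralizer (K : Set G) → IsPGroup 2 ↥D → D ≤ E)
    (hC1 : ∀ H : Subgroup G, H ≤ C1 K E → H ≤ ⁅H, H⁆ → H = ⊥)
    {t t' : G} (ht : t ∈ E) (ht1 : t ≠ 1) (ht' : t' ∈ E) (ht1' : t' ≠ 1) (hne : t' ≠ t)
    {r : I → ℤ} (hr : IsRoot cs h r) {γ k : G} (hk : k ∈ K) (hg1 : cj γ E ≤ E ⊔ (X r).map f)
    (hg2 : E ≤ cj γ (E ⊔ cj k ((X r).map f))) (hg3 : ¬ cj γ E ≤ E) : False := by
  subst hK
  have H := S.hyp hr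
  set R' := Cfsg.Agent.Nodes.RGDLib.rgd_map_of_injective R f hf with hR'
  have H' : HypW R' r := map_hypW f R' H
  have hGG : GG cs h (T.map f) (fun x => (X x).map f) = f.range := by
    rw [← map_GG, Cfsg.Agent.KFacts.RgdRigid.GG_eq_top S.top, ← MonoidHom.range_eq_map]
  have hXK : ∀ x, (X x).map f ≤ f.range := by
    rintro x _ ⟨y, -, rfl⟩
    exact ⟨y, rfl⟩
  have hKc : ∀ e ∈ E, ∀ y ∈ f.range, e * y = y * e := fun e he y hy =>
    ((Subgroup.mem_centralizer_iff.1 (hE he)) y hy).symm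
  obtain ⟨amb, two⟩ := St.core (hXK r) (fun x hx => H'.r_sq hx) hE hE2 hEmax hg1 hg3
  -- elements of `C_G(E)` normalise `K`
  have hnorm : ∀ c : G, (∀ a ∈ E, c * a = a * c) → c ∈ Subgroup.normalizer (f.range : Set G) := by
    intro c hc
    rw [mem_normalizer_iff_cj]
    have key : ∀ c : G, (∀ a ∈ E, c * a = a * c) → cj c f.range ≤ f.range := by
      intro c hc x hx
      rw [mem_cj] at hx
      have := amb.nor t ht ht1 c (hc t ht) _ hx
      have e2 : c * (c⁻¹ * x * c) * c⁻¹ = x := by group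
      rwa [e2] at this
    exact cj_eq_of_le (key c hc) (key c⁻¹ fun t ht => comm_inv (hc t ht))
  have inC1 : ∀ (c : G) (z : Y), (∀ a ∈ E, c * a = a * c) → (∀ y, (f z)⁻¹ * c * f y = f y * ((f z)⁻¹ * c)) →
      (f z)⁻¹ * c ∈ C1 f.range E := by
    intro c z hc hz
    rw [mem_C1]
    refine ⟨?_, ?_⟩
    · rintro _ ⟨y, rfl⟩
      exact hz y
    · intro a ha
      have h1 := comm_inv' (hKc a ha (f z) ⟨z, rfl⟩)
      calc (f z)⁻¹ * c * a = (f z)⁻¹ * (c * a) := by group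
        _ = ((f z)⁻¹ * a) * c := by rw [hc a ha]; group
        _ = a * ((f z)⁻¹ * c) := by rw [← h1]; group
  have F1 : FactOne cs h (T.map f) (fun x => (X x).map f) E := by
    intro a ha c hc hcP
    rw [hGG]
    obtain ⟨z, hz, hzc⟩ := Cfsg.Agent.KFacts.RgdAutChev.exists_of_aut f hf (S := {y | ∃ b ∈ Rad cs h a, y ∈ X b}) (Z := X a)
      (fun α hα => S.k1 a ha α fun b hb x hx => hα x ⟨b, hb, hx⟩) (hnorm c hc)
      (by rintro x ⟨b, hb, hx⟩; exact hcP b hb _ ⟨x, hx, rfl⟩)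
    exact ⟨f z, ⟨z, hz, rfl⟩, inC1 c z hc hzc⟩
  have F2 : FactTwo cs h (T.map f) (fun x => (X x).map f) E := by
    intro a b ha hb hab c hc hcP
    rw [hGG]
    obtain ⟨z, hz, hzc⟩ := Cfsg.Agent.KFacts.RgdAutChev.exists_of_aut f hf (S := {y | ∃ d ∈ Psi cs h a b, y ∈ X d}) (Z := X a ⊔ X b)
      (fun α hα => S.k2 a b ha hb hab α fun b hb x hx => hα x ⟨b, hb, hx⟩) (hnorm c hc)
      (by rintro x ⟨b, hb, hx⟩; exact hcP b hb _ ⟨x, hx, rfl⟩)
    have hcomm : ∀ x ∈ X a, ∀ y ∈ X b, x * y = y * x := fun x hx y hy =>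
      ((S.hyp ha).lr b hb).comm a ha (by rw [hab]; norm_num) x hx y hy
    have h8 : z ∈ ((X a ⊔ X b : Subgroup Y) : Set Y) := hz
    have h7 : X a ≤ Subgroup.normalizer (X b : Set Y) := by
      intro u hu
      rw [mem_normalizer_iff_cj]
      have key : ∀ u ∈ X a, cj u (X b) ≤ X b := by
        intro u hu x hx
        rw [mem_cj] at hx
        have h3 := hcomm u hu _ hx
        have : x = u⁻¹ * x * u := by
          calc x = (u * (u⁻¹ * x * u)) * u⁻¹ := by group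
            _ = ((u⁻¹ * x * u) * u) * u⁻¹ := by rw [h3]
            _ = _ := by group
        rw [this]; exact hx
      exact cj_eq_of_le (key u hu) (key u⁻¹ (inv_mem hu))
    rw [Subgroup.coe_mul_of_left_le_normalizer_right _ _ h7] at h8
    obtain ⟨x, hx, y, hy, rfl⟩ := h8
    refine ⟨f x, ⟨x, hx, rfl⟩, f y, ⟨y, hy, rfl⟩, ?_⟩
    rw [← map_mul]
    exact inC1 c (x * y) hc hzc
  have k3 : ∀ c : G, (∀ a ∈ E, c * a = a * c) →
      (∀ p ∈ RGD.Sup (fun x => (X x).map f) (Ge cs h r), c * p = p * c) →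
      ∃ x ∈ (X r).map f, x⁻¹ * c ∈ C1 (GG cs h (T.map f) (fun x => (X x).map f)) E := by
    intro c hc hcP
    apply F1 r hr c hc
    intro b hb v hv
    have hb' : b ∈ Ge cs h r := ⟨hb.1, le_trans zero_le_one hb.2⟩
    exact hcP v (RGD.le_Sup (X := fun x => (X x).map f) hb' hv)
  obtain ⟨s, g, g', hA, c1, hgr, c2, hgr'⟩ := exists_tri S.sl S.nb S.three hr
  have big' := map_big (cs := cs) (h := h) f hf S.big
  have L := H'.locS (map_agr f hf (S.agr r hr)) big' (Rr := E) (by rw [hGG]; exact amb) (by rw [hGG]; exact two) k3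
  refine no_pair_rgdS R' S.sl (fun a ha => H'.lr a ha) (map_nocent f hf S.nocent) H'.tab F1 F2 hA c1 hgr c2 hgr'
    inf_le_left L (H'.perfect big') ?_ ?_ ht ht1 ht' ht1' hne (γ := γ) (k := k) (by rw [hGG]; exact hk) hg1 hg2 hg3
  · rw [hGG]; exact schreier f hf S.out
  · rw [hGG]; exact hC1

end

end Cfsg.Agent.OddHalf.DblR

end

-- merged: Cfsg.Agent.OddHalf.DblR.InputInd
section

/-!
# ODD, D4: direct indecomposability of `P = C_K(X)^∞`

`ind_of` : `P` perfect, `Q` a normal 2-subgroup with `C_P(Q) ≤ X ≤ Q`, `[Q, Q] ≤ X ≤ Z(P)`, a group `T0` with `[T0, P] ≤ Q`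
transitive on `X#`: then `P` is not a nontrivial direct product.
-/

set_option autoImplicit false

namespace Cfsg.Agent.OddHalf.DblR

open Cfsg.Agent.OddHalf.D4.Input
open scoped commutatorElement

variable {Y : Type*} [Group Y]

theorem eq_bot_of_perfect_two [Finite Y] {P : Subgroup Y} (hP : P ≤ ⁅P, P⁆) (h2 : ∀ x ∈ P, ∃ n : ℕ, x ^ 2 ^ n = 1) :
    P = ⊥ := by
  by_contra hne
  have h3 : IsPGroup 2 ↥P := by
    rintro ⟨x, hx⟩
    obtain ⟨n, hn⟩ := h2 x hx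
    exact ⟨n, Subtype.ext (by simpa only [_root_.SubmonoidClass.mk_pow, _root_.OneMemClass.coe_one] using hn)⟩
  have : Fact (Nat.Prime 2) := ⟨Nat.prime_two⟩
  have h4 : Group.IsNilpotent ↥P := h3.isNilpotent
  have h5 : Nontrivial ↥P := (Subgroup.nontrivial_iff_ne_bot P).2 hne
  have h6 : Group.IsSolvable ↥P := inferInstance
  have h7 := Group.IsSolvable.commutator_lt_top_of_nontrivial ↥P
  apply h7.ne
  rw [eq_top_iff, _root_.commutator_def]
  intro p _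
  have h8 : (⁅(⊤ : Subgroup ↥P), (⊤ : Subgroup ↥P)⁆ : Subgroup ↥P).map P.subtype = ⁅P, P⁆ := by
    rw [Subgroup.map_commutator, ← MonoidHom.range_eq_map, Subgroup.range_subtype]
  have h9 : (p : Y) ∈ (⁅(⊤ : Subgroup ↥P), (⊤ : Subgroup ↥P)⁆ : Subgroup ↥P).map P.subtype := by
    rw [h8]; exact hP p.2
  obtain ⟨q, hq, hqp⟩ := h9
  have h10 : q = p := Subtype.ext hqp
  rw [← h10]; exact hq

theorem comm_pow {a b : Y} (h : a * b = b * a) (n : ℕ) : (a * b) ^ n = a ^ n * b ^ n := (show Commute a b from h).mul_pow n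

/-- the projection of a subgroup with trivial commutator modulo `Q` -/
theorem cj_le_of_trivial [Finite Y] {P Q A B : Subgroup Y} (QP : Q ≤ P) (Q2 : IsPGroup 2 ↥Q) (hA : A ≤ P)
    (hAB : ∀ a ∈ A, ∀ b ∈ B, a * b = b * a) (hdis : ∀ x ∈ A, x ∈ B → x = 1)
    (hdec : ∀ y ∈ P, ∃ a ∈ A, ∃ b ∈ B, y = a * b) (hAp : A ≤ ⁅A, A⁆) {t : Y}
    (ht : ∀ p ∈ P, t * p * t⁻¹ * p⁻¹ ∈ Q) : ∀ a ∈ A, t * a * t⁻¹ ∈ A := by
  have htP : ∀ a ∈ A, t * a * t⁻¹ ∈ P := by
    intro a ha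
    have e : t * a * t⁻¹ = (t * a * t⁻¹ * a⁻¹) * a := by group
    rw [e]
    exact mul_mem (QP (ht a (hA ha))) (hA ha)
  have h1 : proj hAB (D4.CommConj.cj t A) = ⊥ := by
    apply eq_bot_of_perfect_two
    · apply proj_perf hAB _ (cj_perf hAp) hdis
      intro x hx
      rw [D4.CommConj.mem_cj] at hx
      obtain ⟨a, ha, b, hb, e⟩ := hdec _ (htP _ hx)
      exact ⟨a, ha, b, hb, by rw [← e]; group⟩
    · rintro b ⟨hb, a, ha, hab⟩
      rw [D4.CommConj.mem_cj] at hab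
      set a' := t⁻¹ * (a * b) * t with ha'
      have e1 : a * b = t * a' * t⁻¹ := by rw [ha']; group
      have hq := ht a' (hA hab)
      obtain ⟨n, hn⟩ := D4.Input.pow_eq_one_of_isPGroup Q2 hq
      obtain ⟨α, hα, β, hβ, e2⟩ := hdec _ (QP hq)
      -- `a b = α β a'`
      have e3 : a * b = (α * a') * β := by
        have e4 : a * b = (t * a' * t⁻¹ * a'⁻¹) * a' := by rw [e1]; group
        rw [e4, e2]
        calc α * β * a' = α * (β * a') := by group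
          _ = α * (a' * β) := by rw [← hAB a' hab β hβ]
          _ = α * a' * β := by group
      have e5 : (α * a')⁻¹ * a = β * b⁻¹ := by
        calc (α * a')⁻¹ * a = (α * a')⁻¹ * (a * b) * b⁻¹ := by group
          _ = (α * a')⁻¹ * ((α * a') * β) * b⁻¹ := by rw [e3]
          _ = _ := by group
      have e6 := hdis _ (mul_mem (inv_mem (mul_mem hα hab)) ha) (by rw [e5]; exact mul_mem hβ (inv_mem hb))
      rw [e5] at e6
      have e7 : b = β := by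
        calc b = (β * b⁻¹)⁻¹ * β := by group
          _ = β := by rw [e6]; group
      refine ⟨n, ?_⟩
      have e8 : α ^ 2 ^ n * β ^ 2 ^ n = 1 := by
        rw [← comm_pow (hAB α hα β hβ), ← e2]; exact hn
      have e9 : β ^ 2 ^ n = (α ^ 2 ^ n)⁻¹ := eq_inv_of_mul_eq_one_right e8
      have e10 := hdis (β ^ 2 ^ n) (by rw [e9]; exact inv_mem (pow_mem hα _)) (pow_mem hβ _)
      rw [e7]; exact e10
  intro a ha
  obtain ⟨a', ha', b, hb, e⟩ := hdec _ (htP a ha)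
  have h2 : b ∈ proj hAB (D4.CommConj.cj t A) := ⟨hb, a', ha', by rw [← e]; exact D4.CommConj.mem_cj_mul ha⟩
  rw [h1, Subgroup.mem_bot] at h2
  rw [e, h2, mul_one]; exact ha'

/-- a nontrivial direct factor contains `X` -/
theorem le_factor [Finite Y] {P Q X T0 A B : Subgroup Y} (QP : Q ≤ P) (XZ : ∀ x ∈ X, ∀ p ∈ P, x * p = p * x)
    (QN : ∀ p ∈ P, ∀ q ∈ Q, p * q * p⁻¹ ∈ Q) (TQ : ∀ t ∈ T0, ∀ p ∈ P, t * p * t⁻¹ * p⁻¹ ∈ Q)
    (Ttr : ∀ x ∈ X, x ≠ 1 → ∀ y ∈ X, y ≠ 1 → ∃ t ∈ T0, t * x * t⁻¹ = y) (perf : P ≤ ⁅P, P⁆) (Q2 : IsPGroup 2 ↥Q)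
    (cQ : ∀ g ∈ P, (∀ q ∈ Q, g * q = q * g) → g ∈ X) (QQ : ∀ q ∈ Q, ∀ q' ∈ Q, q * q' * q⁻¹ * q'⁻¹ ∈ X)
    (hA : A ≤ P) (hAB : ∀ a ∈ A, ∀ b ∈ B, a * b = b * a) (hdis : ∀ x ∈ A, x ∈ B → x = 1)
    (hdec : ∀ y ∈ P, ∃ a ∈ A, ∃ b ∈ B, y = a * b) (hne : A ≠ ⊥) : X ≤ A := by
  have hBA : ∀ b ∈ B, ∀ a ∈ A, b * a = a * b := fun b hb a ha => (hAB a ha b hb).symm
  have hAn : ∀ p ∈ P, ∀ x ∈ A, p * x * p⁻¹ ∈ A := by
    intro p hp x hx
    obtain ⟨a, ha, b, hb, rfl⟩ := hdec p hp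
    have e : a * b * x * (a * b)⁻¹ = a * x * a⁻¹ := by
      calc a * b * x * (a * b)⁻¹ = a * (b * x) * b⁻¹ * a⁻¹ := by group
        _ = a * (x * b) * b⁻¹ * a⁻¹ := by rw [hBA b hb x hx]
        _ = _ := by group
    rw [e]
    exact mul_mem (mul_mem ha hx) (inv_mem ha)
  -- `A` is perfect
  have hpr : proj hBA P = A := by
    apply le_antisymm (fun x hx => hx.1)
    intro x hx
    exact ⟨hx, 1, one_mem _, by rw [one_mul]; exact hA hx⟩
  have hAp : A ≤ ⁅A, A⁆ := by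
    have h1 := proj_perf hBA (H := P) (fun x hx => by
      obtain ⟨a, ha, b, hb, e⟩ := hdec x hx
      exact ⟨b, hb, a, ha, by rw [e, hAB a ha b hb]⟩) perf (fun x hx hx' => hdis x hx' hx)
    rwa [hpr] at h1
  have hAT : ∀ t ∈ T0, ∀ a ∈ A, t * a * t⁻¹ ∈ A := fun t ht =>
    cj_le_of_trivial QP Q2 hA hAB hdis hdec hAp (TQ t ht)
  -- an element of `A ∩ X`
  obtain ⟨x, hxA, hxX, hx1⟩ : ∃ x ∈ A, x ∈ X ∧ x ≠ 1 := by
    by_cases h1 : ∀ a ∈ A, ∀ q ∈ Q, a * q = q * a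
    · exfalso
      apply hne
      apply eq_bot_of_comm hAp
      intro a ha b hb
      exact XZ a (cQ a (hA ha) (h1 a ha)) b (hA hb)
    · push Not at h1
      obtain ⟨a, ha, q, hq, haq⟩ := h1
      have hv1 : a * q * a⁻¹ * q⁻¹ ≠ 1 := by
        intro h2
        apply haq
        calc a * q = (a * q * a⁻¹ * q⁻¹) * (q * a) := by group
          _ = q * a := by rw [h2, one_mul]
      have hvQ : a * q * a⁻¹ * q⁻¹ ∈ Q := mul_mem (QN a (hA ha) q hq) (inv_mem hq)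
      have hvA : a * q * a⁻¹ * q⁻¹ ∈ A := by
        have e : a * q * a⁻¹ * q⁻¹ = a * (q * a⁻¹ * q⁻¹) := by group
        rw [e]
        exact mul_mem ha (hAn q (QP hq) _ (inv_mem ha))
      by_cases hvX : a * q * a⁻¹ * q⁻¹ ∈ X
      · exact ⟨_, hvA, hvX, hv1⟩
      · set v := a * q * a⁻¹ * q⁻¹ with hv
        obtain ⟨q', hq', hvq⟩ : ∃ q' ∈ Q, v * q' ≠ q' * v := by
          by_contra hcon
          push Not at hcon
          exact hvX (cQ v (QP hvQ) hcon)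
        refine ⟨v * q' * v⁻¹ * q'⁻¹, ?_, QQ v hvQ q' hq', ?_⟩
        · have e : v * q' * v⁻¹ * q'⁻¹ = v * (q' * v⁻¹ * q'⁻¹) := by group
          rw [e]
          exact mul_mem hvA (hAn q' (QP hq') _ (inv_mem hvA))
        · intro h2
          apply hvq
          calc v * q' = (v * q' * v⁻¹ * q'⁻¹) * (q' * v) := by group
            _ = q' * v := by rw [h2, one_mul]
  intro y hy
  by_cases hy1 : y = 1
  · rw [hy1]; exact one_mem _
  · obtain ⟨t, ht, rfl⟩ := Ttr x hxX hx1 y hy hy1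
    exact hAT t ht x hxA

/-- **direct indecomposability** -/
theorem ind_of [Finite Y] {P Q X T0 : Subgroup Y} (QP : Q ≤ P) (XZ : ∀ x ∈ X, ∀ p ∈ P, x * p = p * x)
    (QN : ∀ p ∈ P, ∀ q ∈ Q, p * q * p⁻¹ ∈ Q) (TQ : ∀ t ∈ T0, ∀ p ∈ P, t * p * t⁻¹ * p⁻¹ ∈ Q)
    (Ttr : ∀ x ∈ X, x ≠ 1 → ∀ y ∈ X, y ≠ 1 → ∃ t ∈ T0, t * x * t⁻¹ = y) (perf : P ≤ ⁅P, P⁆) (Q2 : IsPGroup 2 ↥Q)
    (cQ : ∀ g ∈ P, (∀ q ∈ Q, g * q = q * g) → g ∈ X) (QQ : ∀ q ∈ Q, ∀ q' ∈ Q, q * q' * q⁻¹ * q'⁻¹ ∈ X)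
    (hX : X ≠ ⊥) (A B : Subgroup Y) (hA : A ≤ P) (hB : B ≤ P) (hAB : ∀ a ∈ A, ∀ b ∈ B, a * b = b * a)
    (hdis : A ⊓ B = ⊥) (hdec : ∀ y ∈ P, ∃ a ∈ A, ∃ b ∈ B, y = a * b) : A = ⊥ ∨ B = ⊥ := by
  by_contra hcon
  push Not at hcon
  obtain ⟨hA1, hB1⟩ := hcon
  have hd : ∀ x ∈ A, x ∈ B → x = 1 := by
    intro x hx hx'
    rw [← Subgroup.mem_bot, ← hdis]
    exact ⟨hx, hx'⟩
  have h1 := le_factor QP XZ QN TQ Ttr perf Q2 cQ QQ hA hAB hd hdec hA1
  have h2 := le_factor QP XZ QN TQ Ttr perf Q2 cQ QQ hB (fun b hb a ha => (hAB a ha b hb).symm)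
    (fun x hx hx' => hd x hx' hx) (fun y hy => by
      obtain ⟨a, ha, b, hb, e⟩ := hdec y hy
      exact ⟨b, hb, a, ha, by rw [e, hAB a ha b hb]⟩) hB1
  apply hX
  rw [eq_bot_iff, ← hdis]
  exact le_inf h1 h2

end Cfsg.Agent.OddHalf.DblR

end

-- merged: Cfsg.Agent.OddHalf.DblR.InputRgd
section

/-!
# ODD, D4: the facts `Inp` of `D4/Input.lean` over a root group datum

`r` a dominant long root of a root group datum of characteristic 2 with `⟨X x⟩ = Y`, `S = U`, `X = X r`,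
`H = ⟨X a : ⟨a, r⟩ ≥ 0⟩`.

* `Pt R r T0` : the facts on `Y`;
* `KD K` : the facts on the standard component `K ≤ G`;
* `Pt.inp` : `Inp K (f U) (f (X r)) (f H)` for `f : Y →* G` injective with image `K`;
* `Cov` : every root `x ≠ -r` has `⟨x, a⟩ ≥ 0` for some `a` in the orbit of `r` with `⟨a, r⟩ ≥ 0`.
-/

set_option autoImplicit false
set_option linter.unusedSectionVars false

namespace Cfsg.Agent.OddHalf.DblR

open CoxeterSystem Cfsg.Agent.ChevalleyStructure.CoxeterGeom Cfsg.Agent.Tits.Roots Cfsg.Agent.Tits.Core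
  Cfsg.Agent.Tits.RootComb Cfsg.Agent.Tits.Exchange Cfsg.Agent.Nodes.Reps Cfsg.Agent.Nodes.BNOf
  Cfsg.Agent.Nodes.StabComb Cfsg.Agent.Nodes.Bruhat Cfsg.Agent.Nodes.OppDec Cfsg.Agent.Nodes.LeviDec
  Cfsg.Agent.Nodes.NormX Cfsg.Agent.Nodes.Coroot Cfsg.Agent.Nodes.PosPair Cfsg.Agent.KFacts.RgdPar
  Cfsg.Agent.KFacts.RgdSL Cfsg.Agent.KFacts.RgdTI Cfsg.Agent.KFacts.RgdCent Cfsg.Agent.KFacts.RgdOdd
  Cfsg.Agent.KFacts.RgdEx Cfsg.Agent.KFacts.RgdTor Cfsg.Agent.KFacts.RgdKfour Cfsg.Agent.OddHalf.D4.Input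
open scoped commutatorElement

variable {I W Y : Type*} [Fintype I] [DecidableEq I] [Group W] [Group Y] {M : CoxeterMatrix I}
  {cs : CoxeterSystem M W} {A : I → I → ℤ} {h : IsCartan M A} {T : Subgroup Y} {n : I → Y}
  {X : (I → ℤ) → Subgroup Y}

/-- every root `x ≠ -r` has `⟨x, a⟩ ≥ 0` for some `a = w r` with `⟨a, r⟩ ≥ 0` -/
def Cov (cs : CoxeterSystem M W) (h : IsCartan M A) (r : I → ℤ) : Prop :=
  ∀ x, IsRoot cs h x → x ≠ -r → ∃ w : W, 0 ≤ cpr cs h (rep cs h w r) r ∧ 0 ≤ cpr cs h x (rep cs h w r)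

/-- the reflection at a root -/
theorem exists_refl_root [Finite W] {x : I → ℤ} (hx : IsRoot cs h x) :
    ∃ w : W, ∀ y, rep cs h w y = y - cpr cs h y x • x := by
  obtain ⟨w, i, rfl⟩ := hx
  exact ⟨w * cs.simple i * w⁻¹, fun y => rep_rfl'_eq cs h w i y⟩

/-- `Cov` if the multiplicities are at most two -/
theorem cov_of [Finite W] {r : I → ℤ} (hr : IsRoot cs h r) (hge : ∀ x, IsRoot cs h x → x ≠ -r → -1 ≤ cpr cs h x r)
    (h2 : ∀ x, IsRoot cs h x → cpr cs h x r = -1 → -2 ≤ cpr cs h r x) : Cov cs h r := by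
  intro x hx hxr
  by_cases h0 : 0 ≤ cpr cs h x r
  · refine ⟨1, ?_, ?_⟩
    · rw [map_one, Module.End.one_apply, cpr_self cs h hr]; norm_num
    · rw [map_one, Module.End.one_apply]; exact h0
  · have h1 : cpr cs h x r = -1 := by
      have := hge x hx hxr
      omega
    obtain ⟨w, hw⟩ := exists_refl_root hx
    have hwx : rep cs h w⁻¹ x = -x := by
      have h3 : rep cs h w x = -x := by
        rw [hw, cpr_self cs h hx]; module
      have h4 : rep cs h w (-x) = x := by rw [map_neg, h3, neg_neg]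
      calc rep cs h w⁻¹ x = rep cs h w⁻¹ (rep cs h w (-x)) := by rw [h4]
        _ = -x := by rw [rep_inv_apply]
    refine ⟨w, ?_, ?_⟩
    · rw [hw, sub_eq_add_neg, cpr_add cs h _ _ hr, cpr_neg cs h _ hr, cpr_smul cs h _ _ hr, cpr_self cs h hr, h1]
      have := h2 x hx h1
      omega
    · have h5 : cpr cs h x (rep cs h w r) = cpr cs h (rep cs h w⁻¹ x) r := by
        rw [cpr_rep_left _ _ hr, inv_inv]
      rw [h5, hwx, cpr_neg_left _ hr, h1]; norm_num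

section

variable [Finite W] {R : RGD cs h 2 T n X} {r : I → ℤ}

/-- `C(x) ≤ J` for the involutions `x` of `⟨X a : ⟨a, r⟩ ≥ 0⟩` implies `J = Y` -/
theorem gen_rgd (top : RGD.Sup X {x | IsRoot cs h x} = ⊤) (L : LG R r) {s : I → ℤ} (hA : A2 cs h r s)
    (cov : Cov cs h r) (J : Subgroup Y)
    (hJ : ∀ x ∈ RGD.Sup X (Ge cs h r), x * x = 1 → x ≠ 1 → ∀ k, k * x = x * k → k ∈ J) : J = ⊤ := by
  -- root groups
  have key : ∀ x, IsRoot cs h x → x ≠ -r → X x ≤ J := by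
    intro x hx hxr
    obtain ⟨w, hw1, hw2⟩ := cov x hx hxr
    have La := L.act w
    obtain ⟨u, hu, hu1⟩ := exists_ne R L.root
    obtain ⟨k, hk⟩ := exists_rp cs R.nsys w
    have hku := R.conj_mem hk L.root hu
    intro v hv
    have hmem : rep cs h w r ∈ Ge cs h r := ⟨La.root, hw1⟩
    apply hJ (k * u * k⁻¹) (RGD.le_Sup hmem hku)
    · calc k * u * k⁻¹ * (k * u * k⁻¹) = k * (u * u) * k⁻¹ := by group
        _ = 1 := by rw [sq_x hA R hu]; group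
    · intro h0
      apply hu1
      calc u = k⁻¹ * (k * u * k⁻¹) * k := by group
        _ = 1 := by rw [h0]; group
    · exact La.lr.comm x hx hw2 v hv _ hku
  rw [eq_top_iff, ← top]
  refine RGD.Sup_le fun x hx => ?_
  by_cases hxr : x = -r
  · -- `-r = s_s (-(r + s))`
    subst hxr
    have hs := hA.ry
    obtain ⟨u, hu, hu1⟩ := exists_ne R hs
    have hA' : A2 cs h s r := hA.symm
    obtain ⟨w, hw, m, hm, hmr, -⟩ := hA'.exists_mu' R hu hu1
    have h1 : rep cs h w (-(r + s)) = -r := by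
      rw [hw, cpr_neg_left _ hs, cpr_add cs h _ _ hs, hA.cxy, cpr_self cs h hs]
      module
    have h2 : s ≠ -r := fun h0 => hA'.ne_neg h0
    have h3 : -s ≠ -r := fun h0 => hA.ne (neg_injective h0).symm
    have h4 : -(r + s) ≠ -r := by
      intro h0
      have h5 := neg_injective h0
      exact hs.ne_zero (by simpa using h5)
    have hmJ : m ∈ J := (sup_le (key s hs h2) (key (-s) hs.neg h3)) hm
    intro v hv
    have h6 := R.conj_mem' hmr (hA.rxy.neg.act w) (u := v) (by rw [h1]; exact hv)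
    rw [rep_inv_apply] at h6
    have h7 := key _ hA.rxy.neg h4 h6
    have e : v = m * (m⁻¹ * v * m) * m⁻¹ := by group
    rw [e]
    exact mul_mem (mul_mem hmJ h7) (inv_mem hmJ)
  · exact key x hx hxr

end

/-- The facts on `Y`. -/
structure Pt [Finite W] (R : RGD cs h 2 T n X) (r : I → ℤ) (T0 : Subgroup Y) : Prop where
  top : RGD.Sup X {x | IsRoot cs h x} = ⊤
  tab : ∀ s ∈ T, ∀ t ∈ T, s * t = t * s
  long : LG R r
  dom : ∀ i, 0 ≤ cpr cs h (sr i) r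
  a2 : ∃ s, A2 cs h r s
  cov : Cov cs h r
  k1 : ∀ α : MulAut Y, (∀ a ∈ Rad cs h r, ∀ x ∈ X a, α x = x) → ∃ z ∈ X r, α = MulAut.conj z
  perf : RGD.Sup X (Ge cs h r) ≤ ⁅RGD.Sup X (Ge cs h r), RGD.Sup X (Ge cs h r)⁆
  out : ∀ H : Subgroup (MulAut Y), H ≤ ⁅H, H⁆ → ∀ α ∈ H, ∃ y, α = MulAut.conj y
  QN : ∀ p ∈ RGD.Sup X (Ge cs h r), ∀ q ∈ RGD.Sup X (Rad cs h r), p * q * p⁻¹ ∈ RGD.Sup X (Rad cs h r)
  QQ : ∀ q ∈ RGD.Sup X (Rad cs h r), ∀ q' ∈ RGD.Sup X (Rad cs h r), q * q' * q⁻¹ * q'⁻¹ ∈ X r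
  TQ : ∀ t ∈ T0, ∀ p ∈ RGD.Sup X (Ge cs h r), t * p * t⁻¹ * p⁻¹ ∈ RGD.Sup X (Rad cs h r)
  Ttr : ∀ x ∈ X r, x ≠ 1 → ∀ y ∈ X r, y ≠ 1 → ∃ t ∈ T0, t * x * t⁻¹ = y

open Cfsg.Agent.OddHalf.D4 Cfsg.Agent.OddHalf.D4.Basic in
/-- The facts on the standard component `K` which do not depend on its type. -/
structure KD {G : Type*} [Group G] (K : Subgroup G) : Prop where
  tight : TightAt K
  even : Even (Nat.card ↥(Subgroup.centralizer (K : Set G)))
  ctr : ∀ x ∈ K, x ∈ Subgroup.centralizer (K : Set G) → x = 1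
  std : ∀ g : G, ¬ ∀ k ∈ K, ∀ l ∈ CommConj.cj g K, k * l = l * k
  simp : ∀ N : Subgroup G, N ≤ K → (∀ k ∈ K, ∀ y ∈ N, k * y * k⁻¹ ∈ N) → N = ⊥ ∨ N = K
  core : ∀ Q : Subgroup G, IsSyl Q (Subgroup.centralizer (K : Set G)) → ∀ P : Subgroup G,
    P ≤ Subgroup.centralizer (K : Set G) → (∀ x ∈ P, ∀ q ∈ Q, x * q = q * x) → P ≤ ⁅P, P⁆ → P = ⊥

/-- Schreier -/
theorem out_map {G : Type*} [Group G] (f : Y →* G) (hf : Function.Injective f)
    (out : ∀ H : Subgroup (MulAut Y), H ≤ ⁅H, H⁆ → ∀ α ∈ H, ∃ y, α = MulAut.conj y) {H : Subgroup G}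
    (hHN : H ≤ Subgroup.normalizer (f.range : Set G)) (hHp : H ≤ ⁅H, H⁆) {x : G} (hx : x ∈ H) :
    ∃ y, ∀ z, (f y)⁻¹ * x * f z = f z * ((f y)⁻¹ * x) := by
  let e : Y ≃* ↥f.range := MonoidHom.ofInjective hf
  let φ : ↥(Subgroup.normalizer (f.range : Set G)) →* MulAut Y :=
    (MulAut.congr e.symm).toMonoidHom.comp (Subgroup.normalizerMonoidHom f.range)
  have hφ : ∀ (c : ↥(Subgroup.normalizer (f.range : Set G))) (y : Y), f (φ c y) = c * f y * (c : G)⁻¹ := by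
    intro c y
    have h1 : φ c y = e.symm (Subgroup.normalizerMonoidHom f.range c (e y)) := rfl
    have h2 : ∀ z : ↥f.range, f (e.symm z) = z := by
      intro z
      have : ((e (e.symm z) : ↥f.range) : G) = z := by rw [MulEquiv.apply_symm_apply]
      exact this
    rw [h1, h2]
    rfl
  have h1 : ((H.subgroupOf (Subgroup.normalizer (f.range : Set G))).map φ) ≤
      ⁅(H.subgroupOf (Subgroup.normalizer (f.range : Set G))).map φ,
        (H.subgroupOf (Subgroup.normalizer (f.range : Set G))).map φ⁆ := by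
    rw [← Subgroup.map_commutator]
    apply Subgroup.map_mono
    intro y hy
    have hy' : (y : G) ∈ ⁅H, H⁆ := hHp (Subgroup.mem_subgroupOf.1 hy)
    have h2 : ⁅H, H⁆ = ⁅H.subgroupOf (Subgroup.normalizer (f.range : Set G)),
        H.subgroupOf (Subgroup.normalizer (f.range : Set G))⁆.map (Subgroup.normalizer (f.range : Set G)).subtype := by
      rw [Subgroup.map_commutator, Subgroup.map_subgroupOf_eq_of_le hHN]
    rw [h2] at hy'
    obtain ⟨y', hy1, hy2⟩ := hy'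
    have : y' = y := Subtype.ext hy2
    rwa [← this]
  have h2 : φ ⟨x, hHN hx⟩ ∈ (H.subgroupOf (Subgroup.normalizer (f.range : Set G))).map φ :=
    ⟨⟨x, hHN hx⟩, hx, rfl⟩
  obtain ⟨y, hy⟩ := out _ h1 _ h2
  refine ⟨y, fun z => ?_⟩
  have h3 := hφ ⟨x, hHN hx⟩ z
  rw [hy, MulAut.conj_apply, map_mul, map_mul, map_inv] at h3
  have h4 : f y * f z * (f y)⁻¹ = x * f z * x⁻¹ := h3
  calc (f y)⁻¹ * x * f z = (f y)⁻¹ * (x * f z * x⁻¹) * x := by group
    _ = f z * ((f y)⁻¹ * x) := by rw [← h4]; group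

theorem comap_perf {G : Type*} [Group G] (f : Y →* G) (hf : Function.Injective f) {P : Subgroup G}
    (hP : P ≤ f.range) (hp : P ≤ ⁅P, P⁆) : P.comap f ≤ ⁅P.comap f, P.comap f⁆ := by
  have h1 : (P.comap f).map f = P := by
    rw [Subgroup.map_comap_eq, inf_eq_right]
    exact hP
  intro x hx
  have h2 : f x ∈ ⁅P, P⁆ := hp hx
  rw [← h1, ← Subgroup.map_commutator] at h2
  obtain ⟨y, hy, e⟩ := h2
  rwa [← hf e]

variable [Finite W] {R : RGD cs h 2 T n X} {r : I → ℤ} {T0 : Subgroup Y}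

theorem Pt.nonneg (P : Pt R r T0) {x : I → ℤ} (hx : 0 ≤ x) : 0 ≤ cpr cs h x r :=
  dom_nonneg (f := ell cs h P.long.root) P.dom hx

theorem Pt.pos (P : Pt R r T0) {x : I → ℤ} (hx : IsRoot cs h x) (h1 : 1 ≤ cpr cs h x r) : x ∈ RGD.Pos cs h := by
  refine ⟨hx, ?_⟩
  rcases hx.pos_or_neg with h2 | h2
  · exact h2
  · exfalso
    have h3 := P.nonneg (x := -x) (neg_nonneg.2 h2)
    rw [cpr_neg_left _ P.long.root] at h3
    omega

theorem Pt.U_le (P : Pt R r T0) : RGD.Sup X (RGD.Pos cs h) ≤ RGD.Sup X (Ge cs h r) :=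
  RGD.Sup_mono fun _ hx => ⟨hx.1, P.nonneg hx.2⟩

theorem Pt.GG (P : Pt R r T0) : GG cs h T X = ⊤ := Cfsg.Agent.KFacts.RgdRigid.GG_eq_top P.top

/-- **the facts `Inp`** -/
theorem Pt.inp [Finite Y] {G : Type*} [Group G] [Finite G] (P : Pt R r T0) (f : Y →* G) (hf : Function.Injective f)
    {K : Subgroup G} (hK : f.range = K) (D : KD K) :
    Inp K ((RGD.Sup X (RGD.Pos cs h)).map f) ((X r).map f) ((RGD.Sup X (Ge cs h r)).map f) := by
  subst hK
  have : Fact (Nat.Prime 2) := ⟨Nat.prime_two⟩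
  have hr := P.long.root
  obtain ⟨s, hA⟩ := P.a2
  have hctr : ∀ y : Y, (∀ z, y * z = z * y) → y = 1 := by
    intro y hy
    apply hf
    rw [map_one]
    apply D.ctr _ ⟨y, rfl⟩
    rw [Subgroup.mem_centralizer_iff]
    rintro _ ⟨z, rfl⟩
    rw [← map_mul, ← map_mul, hy z]
  have hQP : RGD.Sup X (Rad cs h r) ≤ RGD.Sup X (Ge cs h r) := RGD.Sup_mono fun x hx => ⟨hx.1, by have := hx.2; omega⟩
  have hXP : X r ≤ RGD.Sup X (Ge cs h r) := RGD.le_Sup ⟨hr, by rw [cpr_self cs h hr]; norm_num⟩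
  have cQ : ∀ g ∈ RGD.Sup X (Ge cs h r), (∀ q ∈ RGD.Sup X (Rad cs h r), g * q = q * g) → g ∈ X r := by
    intro g _ hg
    obtain ⟨z, hz, e⟩ := P.k1 (MulAut.conj g) (by
      intro a ha x hx
      rw [MulAut.conj_apply, hg x (RGD.le_Sup ha hx)]; group)
    have h1 : z⁻¹ * g = 1 := by
      apply hctr
      intro y
      have h2 := congrArg (fun φ : MulAut Y => φ y) e
      simp only [MulAut.conj_apply] at h2
      calc z⁻¹ * g * y = z⁻¹ * (g * y * g⁻¹) * g := by group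
        _ = z⁻¹ * (z * y * z⁻¹) * g := by rw [h2]
        _ = _ := by group
    have h3 : g = z := by
      calc g = z * (z⁻¹ * g) := by group
        _ = z := by rw [h1, mul_one]
    rw [h3]; exact hz
  have hX1 : X r ≠ ⊥ := X_ne_bot R hr
  refine ⟨?_, D.tight, D.even, D.ctr, D.std, D.simp, ?_, Subgroup.map_mono P.U_le, ?_, ?_, ?_, ?_, ?_, ?_, ?_, ?_, D.core⟩
  · -- Sylow
    obtain ⟨S, hS⟩ := Cfsg.Agent.KFacts.RgdAutFacts.exists_sylow R P.GG
    refine ⟨?_, ?_, ?_⟩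
    · rw [← hS]; exact S.isPGroup'.map f
    · rintro _ ⟨y, -, rfl⟩
      exact ⟨y, rfl⟩
    · intro Q hQ hle hQK
      have h1 : IsPGroup 2 ↥(Q.comap f) := hQ.comap_of_injective f hf
      have h2 : (S : Subgroup Y) ≤ Q.comap f := by
        rw [hS]
        exact Subgroup.map_le_iff_le_comap.1 hle
      have h3 := S.is_maximal' h1 h2
      intro q hq
      obtain ⟨y, rfl⟩ := hQK hq
      refine ⟨y, ?_, rfl⟩
      rw [← hS, ← h3]
      exact hq
  · -- `X ≤ S`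
    apply Subgroup.map_mono
    exact RGD.le_Sup (P.pos hr (by rw [cpr_self cs h hr]; norm_num))
  · rintro _ ⟨y, -, rfl⟩
    exact ⟨y, rfl⟩
  · rintro _ ⟨y, hy, rfl⟩ _ ⟨x, hx, rfl⟩
    rw [← map_mul, ← map_mul, P.long.lr.comm' hy hx]
  · rw [← Subgroup.map_commutator]
    exact Subgroup.map_mono P.perf
  · -- (F1)
    intro y hy _ hc
    obtain ⟨z, hz, hzc⟩ := Cfsg.Agent.KFacts.RgdAutChev.exists_of_aut f hf (S := {y | ∃ b ∈ Rad cs h r, y ∈ X b})
      (Z := X r) (fun α hα => P.k1 α fun b hb x hx => hα x ⟨b, hb, hx⟩) hy (by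
      rintro x ⟨b, hb, hx⟩
      exact (hc (f x) ⟨x, RGD.le_Sup (P.pos hb.1 hb.2) hx, rfl⟩).symm)
    refine ⟨(f z)⁻¹ * y, ?_, f z, ⟨z, hz, rfl⟩, ?_⟩
    · rw [Subgroup.mem_centralizer_iff]
      rintro _ ⟨x, rfl⟩
      exact (hzc x).symm
    · rw [hzc z]; group
  · -- `res`
    rintro _ ⟨w, hw, rfl⟩ hw1 P' hP' hPp hPw
    have h1 : P'.comap f ≤ RGD.Sup X (Ge cs h r) := by
      refine le_P_of_perfect R P.long.lr P.tab hw (fun h0 => hw1 (by rw [h0, map_one])) ?_ ?_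
        (comap_perf f hf hP' hPp)
      · rw [P.GG]; exact le_top
      · intro y hy
        apply hf
        rw [map_mul, map_mul]
        exact hPw _ hy
    intro y hy
    obtain ⟨x, rfl⟩ := hP' hy
    exact ⟨x, h1 hy, rfl⟩
  · -- Schreier
    intro H hHN hHp x hx
    obtain ⟨y, hy⟩ := out_map f hf P.out hHN hHp hx
    have e : x = f y * ((f y)⁻¹ * x) := by group
    rw [e]
    refine Subgroup.mul_mem_sup ⟨y, rfl⟩ ?_
    rw [Subgroup.mem_centralizer_iff]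
    rintro _ ⟨z, rfl⟩
    exact (hy z).symm
  · -- `ind`
    intro A' B' hA' hB' hAB hdis hdec
    have hle : ∀ {C : Subgroup G}, C ≤ (RGD.Sup X (Ge cs h r)).map f → (C.comap f ≤ RGD.Sup X (Ge cs h r)) ∧
        (C.comap f = ⊥ → C = ⊥) := by
      intro C hC
      refine ⟨?_, ?_⟩
      · intro x hx
        obtain ⟨y, hy, e⟩ := hC hx
        rwa [← hf e]
      · intro h0
        rw [eq_bot_iff]
        intro x hx
        obtain ⟨y, hy, rfl⟩ := hC hx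
        have h1 : y ∈ C.comap f := hx
        rw [h0, Subgroup.mem_bot] at h1
        rw [h1, map_one]; exact one_mem _
    rcases ind_of hQP (fun x hx p hp => (P.long.lr.comm' hp hx).symm) P.QN P.TQ P.Ttr P.perf
      (isPGroup_rad R hr) cQ P.QQ hX1 (A'.comap f) (B'.comap f) (hle hA').1 (hle hB').1 (by
        intro a ha b hb
        apply hf
        rw [map_mul, map_mul]
        exact hAB _ ha _ hb) (by
        rw [eq_bot_iff]
        rintro x ⟨hx1, hx2⟩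
        have h1 : f x ∈ A' ⊓ B' := ⟨hx1, hx2⟩
        rw [hdis, Subgroup.mem_bot] at h1
        rw [Subgroup.mem_bot]
        apply hf
        rw [h1, map_one]) (by
        intro y hy
        obtain ⟨a, ha, b, hb, e⟩ := hdec (f y) ⟨y, hy, rfl⟩
        obtain ⟨a', ha', rfl⟩ := hA' ha
        obtain ⟨b', hb', rfl⟩ := hB' hb
        exact ⟨a', ha, b', hb, hf (by rw [e, map_mul])⟩) with h1 | h1
    · exact Or.inl ((hle hA').2 h1)
    · exact Or.inr ((hle hB').2 h1)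
  · -- `gen`
    intro J hJ
    have h1 := gen_rgd P.top P.long hA P.cov (J.comap f) (by
      intro x hx hxx hx1 k hk
      apply hJ (f x) ⟨x, hx, rfl⟩ (by rw [← map_mul, hxx, map_one]) (fun h0 => hx1 (hf (by rw [h0, map_one]))) _ ⟨k, rfl⟩
      rw [← map_mul, ← map_mul, hk])
    rintro _ ⟨y, rfl⟩
    have h2 : y ∈ J.comap f := by rw [h1]; trivial
    exact h2

end Cfsg.Agent.OddHalf.DblR

end

-- merged: Cfsg.Agent.OddHalf.DblR.SheetInst
section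

/-!
# ODD, D4: the sheets of `L_n(q)` (`n ≥ 5`), `PΩ⁺_2m(q)` (`m ≥ 4`), `E_6(q)`, `E_7(q)`, `E_8(q)`, `q = 2^a ≥ 4`

* `sheet_of_sys` : `Sheet R` from `ChevTwo.Sys`, simply laced, connected, rank at least 4, Schreier property;
* `HasSheet Y` : some root group datum of `Y` has a sheet;
* `hasSheet_psl`, `hasSheet_oplus`, `hasSheet_e6`, `hasSheet_e7`, `hasSheet_e8`.
-/

set_option autoImplicit false
set_option linter.unusedSectionVars false

namespace Cfsg.Agent.OddHalf.DblR.SheetInst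

open CoxeterSystem Cfsg.Agent.ChevalleyStructure.CoxeterGeom Cfsg.Agent.Tits.Roots Cfsg.Agent.Tits.Core
  Cfsg.Agent.Nodes.Reps Cfsg.Agent.Nodes.BNOf Cfsg.Agent.Nodes.Bruhat Cfsg.Agent.Nodes.Coroot
  Cfsg.Agent.KFacts.RgdPar Cfsg.Agent.KFacts.RgdSL Cfsg.Agent.KFacts.RgdTI Cfsg.Agent.KFacts.RgdCent
  Cfsg.Agent.KFacts.RgdOdd Cfsg.Agent.KFacts.RgdEx Cfsg.Agent.KFacts.RgdKfour
  Cfsg.Agent.KFacts.ChevTwo Cfsg.Agent.KFacts.RgdSys Cfsg.Agent.KFacts.SLRow.Def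
  Cfsg.Agent.OddHalf.DblR Cfsg.Agent.Schreier.Basic
open scoped commutatorElement

section

variable {I W Y K : Type*} [Fintype I] [DecidableEq I] [Group W] [Group Y] [Field K] {M : CoxeterMatrix I}
  {cs : CoxeterSystem M W} {A : I → I → ℤ} {h : IsCartan M A} {e : (I → ℤ) → K → Y} {T : Subgroup Y} {n : I → Y}
  {X : (I → ℤ) → Subgroup Y}

/-- `T` is abelian. -/
theorem tab_of_sys {R : RGD cs h 2 T n X} (S : Sys R e) (hN : NoCent cs h T X) :
    ∀ s ∈ T, ∀ t ∈ T, s * t = t * s := by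
  intro s hs t ht
  refine ext_T S hN (mul_mem hs ht) (mul_mem ht hs) fun r hr a => ?_
  have e1 := chS_spec S hr hs
  have e2 := chS_spec S hr ht
  calc s * t * e r a * (s * t)⁻¹ = s * (t * e r a * t⁻¹) * s⁻¹ := by group
    _ = t * (s * e r a * s⁻¹) * t⁻¹ := by rw [e2, e1, e1, e2, mul_left_comm]
    _ = t * s * e r a * (t * s)⁻¹ := by group

/-- A field with more than two elements: three different elements. -/
theorem exists_two [Finite K] (hK : 2 < Nat.card K) : ∃ a : K, a ≠ 0 ∧ a ≠ 1 := by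
  classical
  have := Fintype.ofFinite K
  rw [Nat.card_eq_fintype_card] at hK
  by_contra hcon
  push Not at hcon
  have h1 : (Finset.univ : Finset K) ⊆ {0, 1} := by
    intro a _
    rw [Finset.mem_insert, Finset.mem_singleton]
    by_cases ha : a = 0
    · exact Or.inl ha
    · exact Or.inr (hcon a ha)
  have h2 := Finset.card_le_card h1
  rw [Finset.card_univ] at h2
  have h3 : ({0, 1} : Finset K).card ≤ 2 := Finset.card_le_two
  omega

end

universe u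

end Cfsg.Agent.OddHalf.DblR.SheetInst

end

-- merged: Cfsg.Agent.OddHalf.DblR.RowWInst
section

/-!
# ODD, D4: no full pair `K`, `L` with a Sylow 2-subgroup of `K` in `N(L)`, `K` simply laced over `𝔽_q`, `q = 2^a ≥ 4`

`L_n(q)` (`n ≥ 4`), `PΩ⁺_2m(q)` (`m ≥ 4`), `E_6(q)`, `E_7(q)`, `E_8(q)`.

* `exists_hel` : `T ∩ ⟨X y, X (-y)⟩` consists of the `h_y(c)`; `agr_of_sys`;
* `sheetW_of_sys` : `SheetW R` from `ChevTwo.Sys`, simply laced, connected, rank at least 3;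
* `SheetW.pt` : the facts `Pt` for a dominant root; **`SheetW.no_full`**;
* `HasSheetW`, `hasSheetW_psl`, `hasSheetW_oplus`, `hasSheetW_e6`, `hasSheetW_e7`, `hasSheetW_e8`;
* **`HasSheetW.no_full`**.
-/

set_option autoImplicit false
set_option linter.unusedSectionVars false

namespace Cfsg.Agent.OddHalf.DblR

open CoxeterSystem Cfsg.Agent.ChevalleyStructure.CoxeterGeom Cfsg.Agent.Tits.Roots Cfsg.Agent.Tits.Core
  Cfsg.Agent.Nodes.Reps Cfsg.Agent.Nodes.BNOf Cfsg.Agent.Nodes.Bruhat Cfsg.Agent.Nodes.Coroot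
  Cfsg.Agent.KFacts.RgdPar Cfsg.Agent.KFacts.RgdSL Cfsg.Agent.KFacts.RgdTI Cfsg.Agent.KFacts.RgdCent
  Cfsg.Agent.KFacts.RgdOdd Cfsg.Agent.KFacts.RgdEx Cfsg.Agent.KFacts.RgdTor Cfsg.Agent.KFacts.RgdKfour
  Cfsg.Agent.KFacts.ChevTwo Cfsg.Agent.KFacts.RgdSys Cfsg.Agent.KFacts.SLRow.Def Cfsg.Agent.Schreier.Basic
open scoped commutatorElement

section

variable {I W Y F : Type*} [Fintype I] [DecidableEq I] [Group W] [Group Y] [Field F] {M : CoxeterMatrix I}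
  {cs : CoxeterSystem M W} {A : I → I → ℤ} {h : IsCartan M A} {e : (I → ℤ) → F → Y} {T : Subgroup Y} {n : I → Y}
  {X : (I → ℤ) → Subgroup Y}

/-- `T ∩ ⟨X y, X (-y)⟩` -/
theorem exists_hel [Finite W] {R : RGD cs h 2 T n X} (S : Sys R e) (hG1 : RGD.Sup X {x | IsRoot cs h x} = ⊤)
    (hN : NoCent cs h T X) {y : I → ℤ} (hy : IsRoot cs h y) {t : Y} (ht : t ∈ T ⊓ (X y ⊔ X (-y))) :
    ∃ c, c ≠ 0 ∧ t = hel e y c := by
  obtain ⟨ht, ht'⟩ := ht
  rcases rank_one S hG1 hN hy ht' with ⟨a, c, hc, he⟩ | ⟨a, c, b, hc, he⟩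
  · refine ⟨c, hc, ?_⟩
    have h1 : e y a ∈ X y ⊓ T := by
      refine ⟨S.mem hy a, ?_⟩
      have h2 : e y a = t * (hel e y c)⁻¹ := by rw [he]; group
      exact h2 ▸ (mul_mem ht (inv_mem (hel_mem S hG1 hy hc)) : t * (hel e y c)⁻¹ ∈ T)
    rw [Cfsg.Agent.Nodes.OppDec.X_inf_T R hy, Subgroup.mem_bot] at h1
    rw [he, h1, one_mul]
  · exfalso
    -- `nel e y` normalises `X y`
    have key : ∀ v ∈ X y, nel e y * v * (nel e y)⁻¹ ∈ X y := by
      intro v hv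
      have e1 : nel e y = (hel e y c)⁻¹ * ((e y a)⁻¹ * t * (e y b)⁻¹) := by rw [he]; group
      have h1 : (e y b)⁻¹ * v * (e y b) ∈ X y := mul_mem (mul_mem (inv_mem (S.mem hy b)) hv) (S.mem hy b)
      have h2 := tor_mem R hy ht h1
      have h3 : (e y a)⁻¹ * (t * ((e y b)⁻¹ * v * e y b) * t⁻¹) * e y a ∈ X y :=
        mul_mem (mul_mem (inv_mem (S.mem hy a)) h2) (S.mem hy a)
      have h4 := tor_mem R hy (inv_mem (hel_mem S hG1 hy hc)) h3
      have e2 : nel e y * v * (nel e y)⁻¹ = (hel e y c)⁻¹ * ((e y a)⁻¹ * (t * ((e y b)⁻¹ * v * e y b) * t⁻¹) * e y a) *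
          (hel e y c)⁻¹⁻¹ := by
        rw [e1]; group
      rw [e2]
      exact h4
    have h1 := key _ (S.mem hy 1)
    have h2 := S.data.nel_conj hy hy 1
    rw [cpr_self cs h hy] at h2
    have h3 : y - (2 : ℤ) • y = -y := by rw [two_smul]; abel
    rw [h3] at h2
    rw [h2] at h1
    have hne : y ≠ -y := by
      intro e
      apply hy.ne_zero
      have : (2 : ℤ) • y = 0 := by
        rw [two_smul]; nth_rewrite 2 [e]; simp
      rcases smul_eq_zero.1 this with h3 | h3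
      · norm_num at h3
      · exact h3
    have h4 : e (-y) 1 ∈ X y ⊓ X (-y) := Subgroup.mem_inf.2 ⟨h1, S.mem hy.neg 1⟩
    rw [Cfsg.Agent.Nodes.OppDec.X_inf_X R hy hy.neg hne, Subgroup.mem_bot] at h4
    exact S.data.ne_one hy.neg one_ne_zero h4

theorem agr_of_sys [Finite W] {R : RGD cs h 2 T n X} (S : Sys R e) (hG1 : RGD.Sup X {x | IsRoot cs h x} = ⊤)
    (hN : NoCent cs h T X) {r : I → ℤ} (hr : IsRoot cs h r) : Agr cs h T X r := by
  intro a ha har b hb c hc hba hca k hk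
  obtain ⟨γ, hγ, rfl⟩ := exists_hel S hG1 hN hr hk
  refine ⟨hel e a γ, ⟨hel_mem S hG1 ha hγ, ?_⟩, ?_, ?_⟩
  · have hx : ∀ u, e a u ∈ X a ⊔ X (-a) := fun u => Subgroup.mem_sup_left (S.mem ha u)
    have hy : ∀ u, e (-a) u ∈ X a ⊔ X (-a) := fun u => Subgroup.mem_sup_right (S.mem ha.neg u)
    rw [hel_def]
    unfold nel
    rw [nc_def, nc_def]
    exact mul_mem (mul_mem (mul_mem (hx _) (hy _)) (hx _)) (mul_mem (mul_mem (hx _) (hy _)) (hx _))
  · intro v hv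
    obtain ⟨z, rfl⟩ := (S.mem_X b hb.1 v).1 hv
    rw [S.data.hel_conj hb.1 ha hγ, S.data.hel_conj hb.1 hr hγ, hba, hb.2]
  · intro v hv
    obtain ⟨z, rfl⟩ := (S.mem_X c hc.1 v).1 hv
    rw [S.data.hel_conj hc.1 ha hγ, S.data.hel_conj hc.1 hr hγ, hca, hc.2]

/-- **`SheetW` from `ChevTwo.Sys`.** -/
theorem sheetW_of_sys [Finite W] [Finite F] [Finite Y] (R : RGD cs h 2 T n X) (S : Sys R e)
    (hG1 : RGD.Sup X {x | IsRoot cs h x} = ⊤) (hN : NoCent cs h T X) (h4 : ∀ i j, M i j ≠ 4)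
    (h6 : ∀ i j, M i j ≠ 6) (hirr : Conn M) (h3 : 3 ≤ Fintype.card I) (hF : 2 < Nat.card F) (hout : Sch Y) :
    SheetW R := by
  have : Fact (Nat.Prime 2) := ⟨Nat.prime_two⟩
  have hs : SL cs h := Cfsg.Agent.KFacts.RgdKap.sl_of h4 h6
  obtain ⟨a, ha0, ha1⟩ := SheetInst.exists_two hF
  have htwo : ∀ t : F, t + t = 0 := S.data.two
  have hF : ∃ a : F, a ≠ 0 ∧ a ^ 2 ≠ 1 := by
    refine ⟨a, ha0, fun h1 => ha1 ?_⟩
    have h2 : (a + 1) * (a + 1) = 0 := by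
      have e1 : (a + 1) * (a + 1) = a ^ 2 + (a + a) + 1 := by ring
      rw [e1, htwo, h1, add_zero, htwo]
    have h3 := mul_self_eq_zero.1 h2
    have h4 := htwo 1
    exact add_right_cancel (h3.trans h4.symm)
  refine
    { top := hG1
      sl := hs
      tab := SheetInst.tab_of_sys S hN
      lev := ?_
      nb := fun a ha => Cfsg.Agent.KFacts.RgdKap.nb_of h4 h6 hirr h3 ha
      three := fun r s hr hs' hrs => Cfsg.Agent.KFacts.RgdKap.three_of h4 h6 hirr h3 hr hs' hrs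
      nocent := hN
      big := ?_
      k1 := fun r hr α hα => Cfsg.Agent.KFacts.RgdKap.k1_aut h4 h6 hirr h3 R hG1 hN (coords S hG1)
        (coroots S hG1 hN) (fullChar S hG1) hF hr hα
      k2 := fun r s hr hs' hrs α hα => Cfsg.Agent.KFacts.RgdKap.k2_aut h4 h6 hirr h3 R hG1 hN (coords S hG1)
        (coroots S hG1 hN) (fullChar S hG1) hF hr hs' hrs hα
      out := ?_
      agr := fun r hr => agr_of_sys S hG1 hN hr }
  · intro r hr b hb
    have hrb : cpr cs h r b = 1 := by rw [hs r b hr hb.1, hb.2]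
    obtain ⟨c, hc, hcr, hcb⟩ := Cfsg.Agent.KFacts.RgdKap.three_of h4 h6 hirr h3 hr hb.1 hrb
    have hbc : cpr cs h b c = 1 := by rw [hs b c hb.1 hc, hcb]
    have hd : IsRoot cs h (b - c) := isRoot_sub hb.1 hc hbc
    refine ⟨b - c, hd, ?_, ?_⟩
    · rw [cpr_sub_left hs hr hr hr, hb.2, hcr]; norm_num
    · rw [hs b _ hb.1 hd, cpr_sub_left hs hb.1 hb.1 hb.1, cpr_self cs h hb.1, hcb]; norm_num
  · intro b hb
    refine ⟨e b 1, (S.mem_X b hb _).2 ⟨1, rfl⟩, e b a, (S.mem_X b hb _).2 ⟨a, rfl⟩, S.data.ne_one hb one_ne_zero,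
      S.data.ne_one hb ha0, fun h1 => ha1 (S.data.injective hb h1).symm⟩
  · intro H hH α hα
    have h1 : ⁅H, H⁆ = H := le_antisymm (Subgroup.commutator_le_self H) hH
    obtain ⟨y, hy⟩ := hout H h1 hα
    exact ⟨y, hy.symm⟩

/-! ### LEMMA INPUT -/

variable [Finite W] {R : RGD cs h 2 T n X}

theorem SheetW.pt [Finite Y] (S : SheetW R) {r : I → ℤ} (hr : IsRoot cs h r) (hdom : ∀ i, 0 ≤ cpr cs h (sr i) r) :
    Pt R r (T ⊓ (X r ⊔ X (-r))) := by
  have H := S.hyp hr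
  obtain ⟨b, hb, hrb⟩ := S.nb r hr
  refine ⟨S.top, S.tab, LG.of_le (H.lr r hr) ?_, hdom, ⟨-b, S.sl.a2 hr hb.neg ?_⟩, ?_, S.k1 r hr, H.perfect S.big, S.out,
    fun p hp q hq => H.QN hp hq, fun q hq q' hq' => ?_, fun t ht p hp => H.tq ht hp, ?_⟩
  · intro y hy hne
    rcases S.sl.cases hy hr with h1 | h1 | h1
    · exact absurd h1.1 hne
    · omega
    · omega
  · rw [cpr_neg_right cs h _ hb, hrb]
  · refine cov_of hr ?_ ?_
    · intro x hx hne
      rcases S.sl.cases hx hr with h1 | h1 | h1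
      · omega
      · exact absurd h1.1 hne
      · omega
    · intro x hx h1
      rw [S.sl r x hr hx, h1]; norm_num
  · have := H.br_Q hq hq'
    rwa [commutatorElement_def] at this
  · intro x hx hx1 y hy hy1
    have hA' : A2 cs h r (-b) := by
      refine S.sl.a2 hr hb.neg ?_
      rw [cpr_neg_right cs h _ hb, hrb]
    exact tor_self hA' R S.tab hx hx1 hy hy1

open Cfsg.Agent.OddHalf.D4 Cfsg.Agent.OddHalf.D4.Basic Cfsg.Agent.OddHalf.D4.Input Subgroup in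
/-- **No full pair `K`, `L` such that `N(L)` contains a Sylow 2-subgroup of `K`.** -/
theorem SheetW.no_full [Finite Y] [Nonempty I] (S : SheetW R) {G : Type*} [Group G] [Finite G] (f : Y →* G)
    (hf : Function.Injective f) {K : Subgroup G} (hK : f.range = K) (D : KD K)
    (hrk : ¬ PRankLE 2 1 ↥(centralizer (K : Set G))) {L Q U : Subgroup G} (hp : FullPair K L Q U) {S' : Subgroup G}
    (hS' : IsSyl S' K) (hS'L : S' ≤ normalizer (L : Set G)) : False := by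
  obtain ⟨i⟩ := (inferInstance : Nonempty I)
  have hi := isRoot_sr cs h i
  obtain ⟨w, hw⟩ := ((S.hyp hi).lr _ hi).exists_dominant
  have hr : IsRoot cs h (rep cs h w (sr i)) := hi.act w
  have P := (S.pt hr hw).inp f hf hK D
  refine P.no_full ?_ hrk hp hS' hS'L
  intro E hE hE2 hEmax hC1 t t' ht ht1 ht' ht1' hne γ k hk h1 h2 h3
  exact S.row f hf hK P.std1 hE hE2 hEmax hC1 ht ht1 ht' ht1' hne hr hk h1 h2 h3

end

/-! ### Instances -/

universe u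

/-- Some root group datum of the finite group `Y` has a sheet. -/
def HasSheetW (Y : Type*) [Group Y] : Prop :=
  ∃ (l : ℕ) (M : CoxeterMatrix (Fin (l + 1))) (A : Fin (l + 1) → Fin (l + 1) → ℤ) (h : IsCartan M A) (T : Subgroup Y)
    (n : Fin (l + 1) → Y) (X : (Fin (l + 1) → ℤ) → Subgroup Y) (_ : Finite M.Group)
    (R : RGD M.toCoxeterSystem h 2 T n X), SheetW R

open Cfsg.Agent.OddHalf.D4 Cfsg.Agent.OddHalf.D4.Basic Cfsg.Agent.OddHalf.D4.Input Subgroup in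
/-- **No full pair `K`, `L` such that `N(L)` contains a Sylow 2-subgroup of `K`.** -/
theorem HasSheetW.no_full {Y : Type*} [Group Y] [Finite Y] (H : HasSheetW Y) {G : Type*} [Group G] [Finite G]
    {K : Subgroup G} (e : Y ≃* ↥K) (D : KD K)
    (hrk : ¬ PRankLE 2 1 ↥(centralizer (K : Set G))) {L Q U : Subgroup G} (hp : FullPair K L Q U) {S' : Subgroup G}
    (hS' : IsSyl S' K) (hS'L : S' ≤ normalizer (L : Set G)) : False := by
  obtain ⟨l, M, A, h, T, n, X, hW, R, S⟩ := H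
  refine S.no_full (K.subtype.comp e.toMonoidHom) ?_ ?_ D hrk hp hS' hS'L
  · exact (K.subtype_injective).comp e.injective
  · ext x
    constructor
    · rintro ⟨y, rfl⟩
      exact (e y).2
    · intro hx
      exact ⟨e.symm ⟨x, hx⟩, by simp only [_root_.MulEquiv.toMonoidHom_eq_coe, _root_.MonoidHom.coe_comp, _root_.Subgroup.coe_subtype, _root_.MonoidHom.coe_coe, _root_.Function.comp_apply, _root_.MulEquiv.apply_symm_apply]⟩

/-- **`L_n(q)`, `n ≥ 4`, `q = 2^a ≥ 4`.** -/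
theorem hasSheetW_psl {n : ℕ} (hn : 4 ≤ n) (F : Type*) [Field F] [Finite F] [CharP F 2] (hF : 2 < Nat.card F) :
    HasSheetW (Matrix.ProjectiveSpecialLinearGroup (Fin n) F) := by
  obtain ⟨n, rfl⟩ : ∃ m, n = m + 1 + 1 := ⟨n - 2, by omega⟩
  have : Fact (Nat.Prime 2) := ⟨Nat.prime_two⟩
  have hW : Finite (Cfsg.Agent.LieRecognition.BNCox.cA (n + 1)).Group :=
    Cfsg.Agent.Nodes.RootsA.finite_W (Cfsg.Agent.LieRecognition.BNCox.cA (n + 1)).toCoxeterSystem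
      (Cfsg.Agent.Nodes.RootsA.isCartan (n + 1))
  refine ⟨n, Cfsg.Agent.LieRecognition.BNCox.cA (n + 1), _, Cfsg.Agent.Nodes.RootsA.isCartan (n + 1), _, _, _, hW, _,
    sheetW_of_sys _ (Cfsg.Agent.KFacts.SLRow.SysA.sys_PSL (F := F) _ _)
      (Cfsg.Agent.Nodes.RGDTypeA.G1_psl_eq_top _ _)
      (Cfsg.Agent.KFacts.SLRow.Psl.noCent (CharTwo.add_self_eq_zero) _ _)
      (fun i j => (Cfsg.Agent.KFacts.SLRow.Psl.cA_ne i j).1) (fun i j => (Cfsg.Agent.KFacts.SLRow.Psl.cA_ne i j).2)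
      Cfsg.Agent.KFacts.SLRow.Psl.conn_cA ?_ hF ?_⟩
  · rw [Fintype.card_fin]; omega
  · exact Cfsg.Agent.Schreier.ClassPSL.sch (by omega)

open Cfsg.Agent.LieClassical.OrthForms Cfsg.Agent.TitsThree.KSideO Cfsg.Agent.TitsThree.StdData
  Cfsg.Agent.Nodes.WittInst in
/-- **`PΩ⁺_2m(q)`, `m ≥ 4`, `q = 2^a ≥ 4`.** -/
theorem hasSheetW_oplus {m : ℕ} (hm : 4 ≤ m) (F : Type*) [Field F] [Finite F] [CharP F 2] (hF : 2 < Nat.card F) :
    HasSheetW (Cfsg.POmega F (Cfsg.quadFormPlus m F)) := by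
  have hsch : Sch (Cfsg.POmega F (Cfsg.quadFormPlus m F)) := Cfsg.Agent.Schreier.ClassPOmega.sch_plus hm
  obtain ⟨n, rfl⟩ : ∃ n, m = n + 2 := ⟨m - 2, by omega⟩
  have : Fact (Nat.Prime 2) := ⟨Nat.prime_two⟩
  rw [← coe_plusForm] at hsch ⊢
  have hG := Cfsg.Agent.KFacts.SLRow.OPlus.good_plus (n := n) (by omega) F
  have hW : Finite (Cfsg.Agent.Nodes.TypeD.M n).Group :=
    Cfsg.Agent.Nodes.TypeD.finite_W (Cfsg.Agent.Nodes.TypeD.M n).toCoxeterSystem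
  have hgen := G1D_eq_top (wplus (n + 2) F) (toPOmega hG) (toPOmega_surjective hG) (adm_plus _)
    (Cfsg.Agent.Nodes.TypeD.M n).toCoxeterSystem
  refine ⟨n + 1, Cfsg.Agent.Nodes.TypeD.M n, _, Cfsg.Agent.Nodes.TypeD.isCartan n, _, _, _, hW, _,
    sheetW_of_sys _ (Cfsg.Agent.KFacts.SLRow.DSys.sys_OPlus F (by omega) _) hgen
      (Cfsg.Agent.KFacts.SLRow.OmegaPlus.noCent_of_center hgen
        (Cfsg.Agent.KFacts.SLRow.OmegaPlus.center_eq_bot F (by omega)))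
      (fun i j => (Cfsg.Agent.KFacts.SLRow.OmegaPlus.M_ne n i j).1)
      (fun i j => (Cfsg.Agent.KFacts.SLRow.OmegaPlus.M_ne n i j).2)
      (Cfsg.Agent.KFacts.SLRow.OmegaPlus.conn_M n (by omega)) ?_ hF hsch⟩
  rw [Fintype.card_fin]; omega

open Cfsg.Lie Cfsg.Agent.Nodes.RGDChev Cfsg.Agent.ChevalleyStructure.CoxeterGeomTypes in
/-- The simply laced Chevalley groups of rank at least `3`. -/
theorem hasSheetW_group {D : ChevalleyDatum} {l : ℕ} {M : CoxeterMatrix (Fin (l + 1))} (hp : IsType D (l + 1) M)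
    (hD : D ∈ [chevD4, chevF4, chevE6, chevE7, chevE8]) (hOK : Cfsg.Agent.KFacts.ChevTwoInst.TwoOK D)
    (h4 : ∀ i j, M i j ≠ 4) (h6 : ∀ i j, M i j ≠ 6)
    (hc : Conn M) (hl : 2 ≤ l) (K : Type u) [Field K] [Finite K] [CharP K 2] (hK : 2 < Nat.card K)
    (hsch : Sch ↥(D.group K)) : HasSheetW ↥(D.group K) := by
  have : Fact (Nat.Prime 2) := ⟨Nat.prime_two⟩
  have hW : Finite M.Group := finite_W hp M.toCoxeterSystem
  refine ⟨l, M, _, hp.isCartan, _, _, _, hW, _,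
    sheetW_of_sys _ (Cfsg.Agent.KFacts.ChevTwoInst.sys (K := K) hp hOK M.toCoxeterSystem)
      (G1_eq_top hp M.toCoxeterSystem)
      (Cfsg.Agent.KFacts.SLRow.OmegaPlus.noCent_of_center (G1_eq_top hp M.toCoxeterSystem) ?_)
      h4 h6 hc (by rw [Fintype.card_fin]; omega) hK hsch⟩
  obtain ⟨hs, hna⟩ := Cfsg.Agent.S1054.result (F := K) D hD
  rcases (inferInstance : (Subgroup.center ↥(D.group K)).Normal).eq_bot_or_eq_top with h | h
  · exact h
  · exfalso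
    apply hna
    refine ⟨⟨fun a b => ?_⟩⟩
    have : b ∈ Subgroup.center ↥(D.group K) := by rw [h]; exact Subgroup.mem_top b
    rw [Subgroup.mem_center_iff] at this
    exact this a

open Cfsg.Lie Cfsg.Agent.Nodes.RGDChev Cfsg.Agent.ChevalleyStructure.CoxeterGeomTypes in
/-- **`E_6(q)`, `q = 2^a ≥ 4`.** -/
theorem hasSheetW_e6 (K : Type u) [Field K] [Finite K] [CharP K 2] (hK : 2 < Nat.card K) :
    HasSheetW ↥(chevE6.group K) := by
  have : IsSimpleGroup ↥(chevE6.group K) := (Cfsg.Agent.S1054.result (F := K) chevE6 (by simp)).1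
  exact hasSheetW_group (l := 5) (M := CoxeterMatrix.E₆) (by simp [IsType, typeList]) (by simp)
    Cfsg.Agent.KFacts.ChevTwoInst.twoOK_E6 (by intro i; fin_cases i <;> decide)
    (by intro i; fin_cases i <;> decide)
    (conn_of_parent ![0, 3, 1, 2, 3, 4] ![0, 3, 0, 2, 3, 4] (by decide) (by decide) (by decide)) (by norm_num) K hK
    (Cfsg.Agent.Schreier.Chev.sch_e6 K)

open Cfsg.Lie Cfsg.Agent.Nodes.RGDChev Cfsg.Agent.ChevalleyStructure.CoxeterGeomTypes in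
/-- **`E_7(q)`, `q = 2^a ≥ 4`.** -/
theorem hasSheetW_e7 (K : Type u) [Field K] [Finite K] [CharP K 2] (hK : 2 < Nat.card K) :
    HasSheetW ↥(chevE7.group K) := by
  have : IsSimpleGroup ↥(chevE7.group K) := (Cfsg.Agent.S1054.result (F := K) chevE7 (by simp)).1
  exact hasSheetW_group (l := 6) (M := CoxeterMatrix.E₇) (by simp [IsType, typeList]) (by simp)
    Cfsg.Agent.KFacts.ChevTwoInst.twoOK_E7 (by intro i; fin_cases i <;> decide)
    (by intro i; fin_cases i <;> decide)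
    (conn_of_parent ![0, 3, 1, 2, 3, 4, 5] ![0, 3, 0, 2, 3, 4, 5] (by decide) (by decide) (by decide)) (by norm_num)
    K hK (Cfsg.Agent.Schreier.Chev.sch_e7 K)

open Cfsg.Lie Cfsg.Agent.Nodes.RGDChev Cfsg.Agent.ChevalleyStructure.CoxeterGeomTypes in
/-- **`E_8(q)`, `q = 2^a ≥ 4`.** -/
theorem hasSheetW_e8 (K : Type u) [Field K] [Finite K] [CharP K 2] (hK : 2 < Nat.card K) :
    HasSheetW ↥(chevE8.group K) := by
  have : IsSimpleGroup ↥(chevE8.group K) := (Cfsg.Agent.S1054.result (F := K) chevE8 (by simp)).1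
  exact hasSheetW_group (l := 7) (M := CoxeterMatrix.E₈) (by simp [IsType, typeList]) (by simp)
    Cfsg.Agent.KFacts.ChevTwoInst.twoOK_E8 (by intro i; fin_cases i <;> decide)
    (by intro i; fin_cases i <;> decide)
    (conn_of_parent ![0, 3, 1, 2, 3, 4, 5, 6] ![0, 3, 0, 2, 3, 4, 5, 6] (by decide) (by decide) (by decide))
    (by norm_num) K hK (Cfsg.Agent.Schreier.Chev.sch_e8 K)

end Cfsg.Agent.OddHalf.DblR

end

-- merged: Cfsg.Agent.OddHalf.D4.RowsSL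
section

/-!
# ODD, D4: the rows `L_n(q)` (`n ≥ 4`), `Ω⁺_2m(q)`, `E_6(q)`, `E_7(q)`, `E_8(q)`, `q ≥ 4` even (helper517)

* `innSyl_of_isSLC` : (F1) for the simply laced groups;
* `e7e`, `e8e`; `lne`, `ope`, `e6e` from (k3).
-/

set_option autoImplicit false
set_option linter.unusedSectionVars false

namespace Cfsg.Agent.OddHalf.D4.RowsSL

open CoxeterSystem Cfsg Subgroup Cfsg.Agent.OddHalf.D4 Cfsg.Agent.OddHalf.D4.Basic Cfsg.Agent.OddHalf.D4.StartQ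
open Cfsg.Agent.Tits.Roots Cfsg.Agent.Nodes.Bruhat Cfsg.Agent.KFacts.SLRow.Def Cfsg.Agent.KFacts.SLRow.Row
  Cfsg.Agent.KFacts.ChevTwo Cfsg.Agent.KFacts.SysBF
open Cfsg.Agent.OddHalf.D4.CommConj (cj mem_cj)
open Cfsg.Agent.OddHalf.DblR (HasSheetW)

universe u

/-- **(F1)** -/
theorem innSyl_of_isSLC {q l : ℕ} {M : CoxeterMatrix (Fin l)} {X : Type u} [Group X] [Finite X]
    (hX : IsSLC q M X) : KPairG.InnSyl X := by
  obtain ⟨A, h, T, n, Z, h88⟩ := hX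
  revert h88; rintro ⟨F, _, _, _, e, h88⟩
  revert h88; rintro ⟨hW, rfl, hM, D, S⟩
  rintro P φ - hφ
  refine KFacts.RgdAutFacts.inner D.rgd D.GG_eq (fun i a ha b hb => ?_) D.gen P φ hφ
  have hi : IsRoot M.toCoxeterSystem h (sr i) := isRoot_sr _ h i
  exact (S.lr hi).comm _ hi (by rw [Cfsg.Agent.Nodes.Coroot.cpr_self _ h hi]; norm_num) a ha b hb

/-- a model with a sheet -/
def HasS (X : Type u) [Group X] : Prop :=
  ∃ (Y : Type) (_ : Group Y) (_ : Finite Y), HasSheetW Y ∧ Nonempty (Y ≃* X)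

theorem inp_of {G : Type u} [Group G] [Finite G] {K : Subgroup G} (D : DataQ K) (H : HasS ↥K) : Free.Inp K := by
  obtain ⟨Y, _, _, hY, ⟨e⟩⟩ := H
  exact fun _ _ _ hp _ h1 h2 => hY.no_full e ⟨D.tight, D.even, D.cen, D.std, D.simp, D.core⟩ D.nrk hp h1 h2

theorem two_lt {F : Type} [Field F] [Fintype F] {a : ℕ} (ha : 2 ≤ a) (hF : Fintype.card F = 2 ^ a) :
    2 < Nat.card F := by
  have := pow_ge ha
  rw [Nat.card_eq_fintype_card, hF]
  omega

theorem hasS_Lne {X : Type u} [Group X] (hX : Cut.Lne X) : HasS X := by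
  obtain ⟨F, _, _, a, m, ha, hF, hm, ⟨e⟩⟩ := hX
  have := charTwo_of_card hF
  exact ⟨_, _, inferInstance, DblR.hasSheetW_psl hm F (two_lt ha hF), ⟨e.symm⟩⟩

theorem hasS_Ope {X : Type u} [Group X] (hX : Cut.Ope X) : HasS X := by
  obtain ⟨F, _, _, a, m, ha, hF, hm, ⟨e⟩⟩ := hX
  have := charTwo_of_card hF
  exact ⟨_, _, inferInstance, DblR.hasSheetW_oplus hm F (two_lt ha hF), ⟨e.symm⟩⟩

theorem hasS_E6e {X : Type u} [Group X] (hX : Cut.E6e X) : HasS X := by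
  obtain ⟨F, _, _, a, ha, hF, ⟨e⟩⟩ := hX
  have := charTwo_of_card hF
  exact ⟨_, _, inferInstance, DblR.hasSheetW_e6 F (two_lt ha hF), ⟨e.symm⟩⟩

theorem hasS_E7e {X : Type u} [Group X] (hX : Cut.E7e X) : HasS X := by
  obtain ⟨F, _, _, a, ha, hF, ⟨e⟩⟩ := hX
  have := charTwo_of_card hF
  exact ⟨_, _, inferInstance, DblR.hasSheetW_e7 F (two_lt ha hF), ⟨e.symm⟩⟩

theorem hasS_E8e {X : Type u} [Group X] (hX : Cut.E8e X) : HasS X := by
  obtain ⟨F, _, _, a, ha, hF, ⟨e⟩⟩ := hX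
  have := charTwo_of_card hF
  exact ⟨_, _, inferInstance, DblR.hasSheetW_e8 F (two_lt ha hF), ⟨e.symm⟩⟩

/-- **a row from a sheet and `BFacts`** -/
theorem row (h1173 : Start.P1173.{u}) (hFT : FTT.{u}) {P : (K : Type u) → [Group K] → Prop}
    (hSL : ∀ (X : Type u) [Group X], P X → ∃ (q l : ℕ) (M : CoxeterMatrix (Fin l)), 3 ≤ q ∧ IsSLC q M X)
    (hS : ∀ (X : Type u) [Group X], P X → HasS X)
    (hB : ∀ (G : Type u) [Group G] [Finite G] (K : Subgroup G), P ↥K → ∀ g : G, Free.BFacts (cj g K)) :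
    Cut.Row1.{u} P := by
  refine row_of_free' h1173 hFT (fun X _ _ _ hX => ?_) (fun G _ hG K _ D hP => ?_) (fun G _ hG K _ _ hP g => ?_)
  · obtain ⟨q, l, M, -, h⟩ := hSL X hX
    exact innSyl_of_isSLC h
  · have := hG.fin
    exact inp_of D (hS _ hP)
  · have := hG.fin
    exact hB G K hP g

/-- (k3) for all simply laced groups over a field with at least 3 elements -/
def K3 : Prop := ∀ (G : Type u) [Group G] [Finite G] (K₀ : Subgroup G) (q l : ℕ) (M : CoxeterMatrix (Fin l)), 3 ≤ q →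
  IsSLC q M ↥K₀ → ∀ S, Free.Good K₀ S → ∃ U L, Free.FltS K₀ S U L

theorem row' (h1173 : Start.P1173.{u}) (hFT : FTT.{u}) (h3 : K3.{u}) {P : (K : Type u) → [Group K] → Prop}
    (hSL : ∀ (X : Type u) [Group X], P X → ∃ (q l : ℕ) (M : CoxeterMatrix (Fin l)), 3 ≤ q ∧ IsSLC q M X)
    (hS : ∀ (X : Type u) [Group X], P X → HasS X) : Cut.Row1.{u} P := by
  refine row h1173 hFT hSL hS fun G _ _ K hP g => ?_
  obtain ⟨q, l, M, hq, h⟩ := hSL _ hP
  have h' := h.of_equiv (eqCj K g)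
  exact bFacts_of_isSLC h' (h3 G _ q l M hq h')

theorem slc_Lne {X : Type u} [Group X] (hX : Cut.Lne X) :
    ∃ (q l : ℕ) (M : CoxeterMatrix (Fin l)), 3 ≤ q ∧ IsSLC q M X := by
  obtain ⟨q, n, hq, -, h⟩ := isSLC_Lne hX
  exact ⟨q, n, _, hq, h⟩

theorem slc_Ope {X : Type u} [Group X] (hX : Cut.Ope X) :
    ∃ (q l : ℕ) (M : CoxeterMatrix (Fin l)), 3 ≤ q ∧ IsSLC q M X := by
  obtain ⟨q, n, hq, -, h⟩ := isSLC_Ope hX
  exact ⟨q, _, _, hq, h⟩

theorem slc_E6e {X : Type u} [Group X] (hX : Cut.E6e X) :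
    ∃ (q l : ℕ) (M : CoxeterMatrix (Fin l)), 3 ≤ q ∧ IsSLC q M X := by
  obtain ⟨q, hq, h⟩ := isSLC_E6e hX
  exact ⟨q, _, _, hq, h⟩

theorem slc_E7e {X : Type u} [Group X] (hX : Cut.E7e X) :
    ∃ (q l : ℕ) (M : CoxeterMatrix (Fin l)), 3 ≤ q ∧ IsSLC q M X := by
  obtain ⟨q, hq, h⟩ := isSLC_E7e hX
  exact ⟨q, _, _, hq, h⟩

theorem slc_E8e {X : Type u} [Group X] (hX : Cut.E8e X) :
    ∃ (q l : ℕ) (M : CoxeterMatrix (Fin l)), 3 ≤ q ∧ IsSLC q M X := by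
  obtain ⟨q, hq, h⟩ := isSLC_E8e hX
  exact ⟨q, _, _, hq, h⟩

/-- **`E_7(q)`, `q ≥ 4` even.** -/
theorem e7e (h1173 : Start.P1173.{u}) (hFT : FTT.{u}) : Cut.Row1.{u} (fun K _ => Cut.E7e K) :=
  row h1173 hFT (fun _ _ h => slc_E7e h) (fun _ _ h => hasS_E7e h) fun _ _ _ _ h g => bFacts_E7 h g

/-- **`E_8(q)`, `q ≥ 4` even.** -/
theorem e8e (h1173 : Start.P1173.{u}) (hFT : FTT.{u}) : Cut.Row1.{u} (fun K _ => Cut.E8e K) :=
  row h1173 hFT (fun _ _ h => slc_E8e h) (fun _ _ h => hasS_E8e h) fun _ _ _ _ h g => bFacts_E8 h g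

/-- **`L_n(q)`, `n ≥ 4`, `q ≥ 4` even.** -/
theorem lne_of (h1173 : Start.P1173.{u}) (hFT : FTT.{u}) (h3 : K3.{u}) : Cut.Row1.{u} (fun K _ => Cut.Lne K) :=
  row' h1173 hFT h3 (fun _ _ h => slc_Lne h) (fun _ _ h => hasS_Lne h)

/-- **`Ω⁺_2m(q)`, `m ≥ 4`, `q ≥ 4` even.** -/
theorem ope_of (h1173 : Start.P1173.{u}) (hFT : FTT.{u}) (h3 : K3.{u}) : Cut.Row1.{u} (fun K _ => Cut.Ope K) :=
  row' h1173 hFT h3 (fun _ _ h => slc_Ope h) (fun _ _ h => hasS_Ope h)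

/-- **`E_6(q)`, `q ≥ 4` even.** -/
theorem e6e_of (h1173 : Start.P1173.{u}) (hFT : FTT.{u}) (h3 : K3.{u}) : Cut.Row1.{u} (fun K _ => Cut.E6e K) :=
  row' h1173 hFT h3 (fun _ _ h => slc_E6e h) (fun _ _ h => hasS_E6e h)

end Cfsg.Agent.OddHalf.D4.RowsSL

end
end

-- part: OddHalf/DblR/OneRow
section
-- merged: Cfsg.Agent.OddHalf.DblR.YInput
section

/-!
# ODD, D4: LEMMA INPUT, the facts on the abstract group `Y` (helper552)

* `YInp S X H` : the facts of `Input.Inp` as facts on the group `Y` alone;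
* `YInp.inp` : `Inp f.range (S.map f) (X.map f) (H.map f)` for `f : Y →* G` injective;
* `ind_of_trans` (K-free) : a perfect group `H` generated by 2-elements, `S` Sylow in `H`, `Z(S) ≤ X`, some group of
  automorphisms of `H` transitive on `X ∖ 1` ⟹ `H` is directly indecomposable.
-/

set_option autoImplicit false

namespace Cfsg.Agent.OddHalf.DblR.YInput

open Subgroup Cfsg.Agent.OddHalf.D4 Cfsg.Agent.OddHalf.D4.Basic Cfsg.Agent.OddHalf.D4.Input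
open Cfsg.Agent.OddHalf.D4.CommConj (cj mem_cj cj_mul card_cj mem_cj_mul)
open scoped commutatorElement

/-! ### Direct decompositions -/

section Dir

variable {G : Type*} [Group G]

/-- `H = A × B` -/
structure Dir (H A B : Subgroup G) : Prop where
  le1 : A ≤ H
  le2 : B ≤ H
  com : ∀ a ∈ A, ∀ b ∈ B, a * b = b * a
  dis : ∀ x ∈ A, x ∈ B → x = 1
  dec : ∀ y ∈ H, ∃ a ∈ A, ∃ b ∈ B, y = a * b

variable {H A B A' B' : Subgroup G}

theorem Dir.symm (h : Dir H A B) : Dir H B A :=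
  ⟨h.le2, h.le1, fun b hb a ha => (h.com a ha b hb).symm, fun x h1 h2 => h.dis x h2 h1, fun y hy => by
    obtain ⟨a, ha, b, hb, e⟩ := h.dec y hy
    exact ⟨b, hb, a, ha, by rw [e, h.com a ha b hb]⟩⟩

theorem Dir.nrm (h : Dir H A B) : ∀ y ∈ H, ∀ a ∈ A, y * a * y⁻¹ ∈ A := by
  intro y hy a ha
  obtain ⟨a', ha', b, hb, rfl⟩ := h.dec y hy
  have e : a' * b * a * (a' * b)⁻¹ = a' * a * a'⁻¹ := by
    have h1 := h.com a ha b hb
    calc a' * b * a * (a' * b)⁻¹ = a' * (b * a) * b⁻¹ * a'⁻¹ := by group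
      _ = a' * (a * b) * b⁻¹ * a'⁻¹ := by rw [h1]
      _ = _ := by group
  rw [e]
  exact mul_mem (mul_mem ha' ha) (inv_mem ha')

theorem Dir.perf (h : Dir H A B) (hp : H ≤ ⁅H, H⁆) : A ≤ ⁅A, A⁆ := by
  have h1 := proj_perf (L := B) (D := A) h.symm.com h.symm.dec hp (fun x h1 h2 => h.dis x h2 h1)
  have h2 : proj h.symm.com H = A := by
    apply le_antisymm (fun a ha => ha.1)
    intro a ha
    exact ⟨ha, 1, one_mem _, by rw [one_mul]; exact h.le1 ha⟩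
  rwa [h2] at h1

/-- a perfect group is the product of its intersections with the factors of a second decomposition -/
theorem Dir.refine (h : Dir H A B) (h' : Dir H A' B') (hp : H ≤ ⁅H, H⁆) :
    ∀ a ∈ A, ∃ x ∈ A ⊓ A', ∃ y ∈ A ⊓ B', a = x * y := by
  -- the product is a subgroup
  let P : Subgroup G :=
    { carrier := {a | ∃ x ∈ A ⊓ A', ∃ y ∈ A ⊓ B', a = x * y}
      one_mem' := ⟨1, one_mem _, 1, one_mem _, by rw [one_mul]⟩
      mul_mem' := by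
        rintro _ _ ⟨x, hx, y, hy, rfl⟩ ⟨x', hx', y', hy', rfl⟩
        refine ⟨x * x', mul_mem hx hx', y * y', mul_mem hy hy', ?_⟩
        have h1 := h'.com x' (Subgroup.mem_inf.1 hx').2 y (Subgroup.mem_inf.1 hy).2
        calc x * y * (x' * y') = x * (y * x') * y' := by group
          _ = x * (x' * y) * y' := by rw [h1]
          _ = _ := by group
      inv_mem' := by
        rintro _ ⟨x, hx, y, hy, rfl⟩
        refine ⟨x⁻¹, inv_mem hx, y⁻¹, inv_mem hy, ?_⟩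
        have h1 := h'.com x⁻¹ (inv_mem (Subgroup.mem_inf.1 hx).2) y⁻¹ (inv_mem (Subgroup.mem_inf.1 hy).2)
        rw [h1]; group }
  have h1 : A ≤ P := by
    refine (h.perf hp).trans ?_
    rw [Subgroup.commutator_le]
    intro a ha c hc
    obtain ⟨x, hx, y, hy, rfl⟩ := h'.dec c (h.le1 hc)
    have hxH := h'.le1 hx
    have hyH := h'.le2 hy
    refine ⟨⁅a, x⁆, ?_, x * ⁅a, y⁆ * x⁻¹, ?_, ?_⟩
    · refine Subgroup.mem_inf.2 ⟨?_, ?_⟩
      · have e : ⁅a, x⁆ = a * (x * a⁻¹ * x⁻¹) := by rw [commutatorElement_def]; group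
        rw [e]; exact mul_mem ha (h.nrm x hxH _ (inv_mem ha))
      · rw [commutatorElement_def]
        exact mul_mem (h'.nrm a (h.le1 ha) x hx) (inv_mem hx)
    · refine Subgroup.mem_inf.2 ⟨?_, ?_⟩
      · have e : ⁅a, y⁆ = a * (y * a⁻¹ * y⁻¹) := by rw [commutatorElement_def]; group
        rw [e]; exact h.nrm x hxH _ (mul_mem ha (h.nrm y hyH _ (inv_mem ha)))
      · rw [commutatorElement_def]
        exact h'.symm.nrm x hxH _ (mul_mem (h'.symm.nrm a (h.le1 ha) y hy) (inv_mem hy))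
    · simp only [commutatorElement_def]; group
  exact fun a ha => h1 ha

/-- the intersection of two direct factors of a perfect group is a direct factor -/
theorem Dir.inf (h : Dir H A B) (h' : Dir H A' B') (hp : H ≤ ⁅H, H⁆) : Dir H (A ⊓ A') ((A ⊓ B') ⊔ B) := by
  have hcom : ∀ y ∈ A ⊓ B', ∀ b ∈ B, y * b = b * y := fun y hy b hb => h.com y (Subgroup.mem_inf.1 hy).1 b hb
  have hsup : ∀ z ∈ (A ⊓ B') ⊔ B, ∃ y ∈ A ⊓ B', ∃ b ∈ B, z = y * b := by
    intro z hz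
    have h7 : A ⊓ B' ≤ Subgroup.normalizer (B : Set G) := by
      intro u hu
      rw [Subgroup.mem_normalizer_iff]
      intro e
      constructor
      · intro he
        have e2 : u * e * u⁻¹ = e := by rw [hcom u hu e he]; group
        rwa [e2]
      · intro he
        have h1 := hcom u⁻¹ (inv_mem hu) _ he
        have e2 : e = u * e * u⁻¹ := by
          calc e = (u⁻¹ * (u * e * u⁻¹)) * u := by group
            _ = ((u * e * u⁻¹) * u⁻¹) * u := by rw [h1]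
            _ = _ := by group
        rw [e2]; exact he
    have h8 : z ∈ (((A ⊓ B') ⊔ B : Subgroup G) : Set G) := hz
    rw [Subgroup.coe_mul_of_left_le_normalizer_right _ _ h7] at h8
    obtain ⟨y, hy, b, hb, e⟩ := h8
    exact ⟨y, hy, b, hb, e.symm⟩
  refine ⟨inf_le_left.trans h.le1, sup_le (inf_le_left.trans h.le1) h.le2, ?_, ?_, ?_⟩
  · rintro x ⟨hx, hx'⟩ z hz
    obtain ⟨y, hy, b, hb, rfl⟩ := hsup z hz
    have h1 := h'.com x hx' y hy.2
    have h2 := h.com x hx b hb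
    calc x * (y * b) = (x * y) * b := by group
      _ = y * (x * b) := by rw [h1]; group
      _ = _ := by rw [h2]; group
  · rintro x ⟨hx, hx'⟩ hz
    obtain ⟨y, hy, b, hb, rfl⟩ := hsup x hz
    have h1 : b = 1 := h.dis b (by
      have : b = y⁻¹ * (y * b) := by group
      rw [this]
      exact mul_mem (inv_mem hy.1) hx) hb
    rw [h1, mul_one] at hx' ⊢
    exact h'.dis y hx' hy.2
  · intro z hz
    obtain ⟨a, ha, b, hb, rfl⟩ := h.dec z hz
    obtain ⟨x, hx, y, hy, rfl⟩ := h.refine h' hp a ha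
    exact ⟨x, hx, y * b, mul_mem (Subgroup.mem_sup_left hy) (Subgroup.mem_sup_right hb), by group⟩

theorem Dir.cj (h : Dir H A B) {t : G} (ht : CommConj.cj t H = H) :
    Dir H (CommConj.cj t A) (CommConj.cj t B) := by
  have h1 : ∀ C : Subgroup G, C ≤ H → CommConj.cj t C ≤ H := fun C hC => by
    rw [← ht]; exact map_mono hC
  refine ⟨h1 A h.le1, h1 B h.le2, ?_, ?_, ?_⟩
  · intro a ha b hb
    rw [mem_cj] at ha hb
    have h2 := h.com _ ha _ hb
    calc a * b = t * ((t⁻¹ * a * t) * (t⁻¹ * b * t)) * t⁻¹ := by group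
      _ = t * ((t⁻¹ * b * t) * (t⁻¹ * a * t)) * t⁻¹ := by rw [h2]
      _ = _ := by group
  · intro x hx hx'
    rw [mem_cj] at hx hx'
    have h2 := h.dis _ hx hx'
    calc x = t * (t⁻¹ * x * t) * t⁻¹ := by group
      _ = 1 := by rw [h2]; group
  · intro y hy
    rw [← ht, mem_cj] at hy
    obtain ⟨a, ha, b, hb, e⟩ := h.dec _ hy
    refine ⟨t * a * t⁻¹, mem_cj_mul ha, t * b * t⁻¹, mem_cj_mul hb, ?_⟩
    calc y = t * (t⁻¹ * y * t) * t⁻¹ := by group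
      _ = _ := by rw [e]; group

/-- **Direct indecomposability from transitivity on `X ∖ 1`.** -/
theorem dir_of_trans [Finite G] {H S X : Subgroup G} (perf : H ≤ ⁅H, H⁆)
    (gen : H ≤ Subgroup.closure {x | x ∈ H ∧ ∃ k : ℕ, x ^ 2 ^ k = 1}) (hS : IsSyl S H)
    (hX : ∀ w ∈ S, (∀ s ∈ S, s * w = w * s) → w ∈ X)
    (tr : ∀ x ∈ X, ∀ y ∈ X, x ≠ 1 → y ≠ 1 → ∃ t : G, CommConj.cj t H = H ∧ t * x * t⁻¹ = y)
    {A B : Subgroup G} (h : Dir H A B) : A = ⊥ ∨ B = ⊥ := by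
  -- every nontrivial factor meets `X`
  have key : ∀ A B : Subgroup G, Dir H A B → A ≠ ⊥ → ∃ w ∈ A, w ∈ X ∧ w ≠ 1 := by
    intro A B h hA
    -- a 2-element of `A`
    obtain ⟨a, ha, ha1, k, hak⟩ : ∃ a ∈ A, a ≠ 1 ∧ ∃ k : ℕ, a ^ 2 ^ k = 1 := by
      by_contra hcon
      push Not at hcon
      apply hA
      have h1 : H ≤ B := by
        refine gen.trans ((Subgroup.closure_le _).2 ?_)
        rintro x ⟨hx, k, hk⟩
        obtain ⟨a, ha, b, hb, rfl⟩ := h.dec x hx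
        have h2 : (a * b) ^ 2 ^ k = a ^ 2 ^ k * b ^ 2 ^ k := Commute.mul_pow (h.com a ha b hb) _
        have h3 : a ^ 2 ^ k = 1 := by
          apply h.dis _ (pow_mem ha _)
          rw [h2] at hk
          rw [eq_inv_of_mul_eq_one_left hk]
          exact inv_mem (pow_mem hb _)
        have h4 : a = 1 := by
          by_contra h5
          exact hcon a ha h5 k h3
        rw [h4, one_mul]; exact hb
      rw [Subgroup.eq_bot_iff_forall]
      intro x hx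
      exact h.dis x hx (h1 (h.le1 hx))
    -- a conjugate of it in `S`
    have hz : IsPGroup 2 ↥(Subgroup.zpowers a) := by
      rintro ⟨x, hx⟩
      obtain ⟨m, rfl⟩ := Subgroup.mem_zpowers_iff.1 hx
      refine ⟨k, Subtype.ext ?_⟩
      show (a ^ m) ^ 2 ^ k = 1
      rw [← zpow_natCast, ← zpow_mul, mul_comm, zpow_mul, zpow_natCast, hak, one_zpow]
    obtain ⟨m, hm, hmS⟩ := hS.conj_into hz (by rw [Subgroup.zpowers_le]; exact h.le1 ha)
    have h1 := hmS a (Subgroup.mem_zpowers a)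
    have h2 : m * a * m⁻¹ ∈ A := h.nrm m hm a ha
    obtain ⟨w, ⟨hwS, hwA⟩, hw2, hwc⟩ := exists_central_invol (T := S) (N := S ⊓ A) hS.two inf_le_left (by
      intro h3
      have h4 : m * a * m⁻¹ ∈ S ⊓ A := ⟨h1, h2⟩
      rw [h3, Subgroup.mem_bot] at h4
      apply ha1
      calc a = m⁻¹ * (m * a * m⁻¹) * m := by group
        _ = 1 := by rw [h4]; group) (by
      rintro t ht x ⟨hx1, hx2⟩
      exact Subgroup.mem_inf.2 ⟨mul_mem (mul_mem ht hx1) (inv_mem ht), h.nrm t (hS.le ht) x hx2⟩)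
    refine ⟨w, hwA, hX w hwS hwc, ?_⟩
    rintro rfl
    rw [orderOf_one] at hw2
    exact absurd hw2 (by norm_num)
  -- a nontrivial factor of minimal order
  by_contra hcon
  push Not at hcon
  obtain ⟨hA, hB⟩ := hcon
  have hex : ∃ m : ℕ, ∃ A B : Subgroup G, Dir H A B ∧ A ≠ ⊥ ∧ Nat.card ↥A = m := ⟨_, A, B, h, hA, rfl⟩
  classical
  obtain ⟨C, D, hCD, hC, hcard⟩ := Nat.find_spec hex
  have hmin : ∀ A B : Subgroup G, Dir H A B → A ≠ ⊥ → Nat.card ↥C ≤ Nat.card ↥A := by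
    intro A B h hA
    rw [hcard]
    exact Nat.find_min' hex ⟨A, B, h, hA, rfl⟩
  have hD : D ≠ ⊥ := by
    rintro rfl
    have h1 : H ≤ C := by
      intro y hy
      obtain ⟨a, ha, b, hb, rfl⟩ := hCD.dec y hy
      rw [Subgroup.mem_bot] at hb
      rw [hb, mul_one]; exact ha
    have h2 : A = H := by
      apply Subgroup.eq_of_le_of_card_ge h.le1
      exact (Subgroup.card_le_of_le h1).trans (hmin A B h hA)
    apply hB
    rw [Subgroup.eq_bot_iff_forall]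
    intro x hx
    exact h.dis x (by rw [h2]; exact h.le2 hx) hx
  obtain ⟨w, hwC, hwX, hw1⟩ := key C D hCD hC
  obtain ⟨v, hvD, hvX, hv1⟩ := key D C hCD.symm hD
  have hwv1 : w * v ≠ 1 := by
    intro h0
    apply hw1
    apply hCD.dis w hwC
    rw [eq_inv_of_mul_eq_one_left h0]
    exact inv_mem hvD
  obtain ⟨t, ht, e⟩ := tr w hwX (w * v) (mul_mem hwX hvX) hw1 hwv1
  have hT := hCD.cj ht
  have hwt : w * v ∈ CommConj.cj t C := by rw [← e]; exact mem_cj_mul hwC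
  by_cases h1 : C ⊓ CommConj.cj t C = ⊥
  · -- `C^t ≤ D`
    obtain ⟨x, hx, y, hy, e2⟩ := hT.refine hCD perf _ hwt
    have hx1 : x = 1 := by
      rw [← Subgroup.mem_bot, ← h1]
      exact ⟨hx.2, hx.1⟩
    rw [hx1, one_mul] at e2
    apply hw1
    apply hCD.dis w hwC
    have : w = (w * v) * v⁻¹ := by group
    rw [this, e2]
    exact mul_mem hy.2 (inv_mem hvD)
  · have h2 := hmin _ _ (hCD.inf hT perf) h1
    have h3 : C ⊓ CommConj.cj t C = C := Subgroup.eq_of_le_of_card_ge inf_le_left h2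
    have h4 : C ≤ CommConj.cj t C := inf_eq_left.1 h3
    have h5 : C = CommConj.cj t C := Subgroup.eq_of_le_of_card_ge h4 (by rw [card_cj])
    rw [← h5] at hwt
    apply hv1
    apply hCD.dis v _ hvD
    have : v = w⁻¹ * (w * v) := by group
    rw [this]
    exact mul_mem (inv_mem hwC) hwt

end Dir

/-! ### The facts on `Y` -/

/-- The facts of LEMMA INPUT on the group `Y`: `S` a Sylow 2-subgroup, `X` its centre, `H` the largest perfect subgroup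
of `C(w)`, `1 ≠ w ∈ X`. -/
structure YInp {Y : Type*} [Group Y] (S X H : Subgroup Y) : Prop where
  syl : IsSyl S ⊤
  ctr : ∀ x : Y, (∀ y : Y, x * y = y * x) → x = 1
  simp : ∀ N : Subgroup Y, N.Normal → N = ⊥ ∨ N = ⊤
  XS : X ≤ S
  SH : S ≤ H
  HX : ∀ y ∈ H, ∀ x ∈ X, y * x = x * y
  perf : H ≤ ⁅H, H⁆
  cen : ∀ α : MulAut Y, (∃ k : ℕ, α ^ 2 ^ k = 1) → (∀ s ∈ S, α s = s) → ∃ x ∈ X, α = MulAut.conj x
  res : ∀ w ∈ X, w ≠ 1 → ∀ P : Subgroup Y, P ≤ ⁅P, P⁆ → (∀ y ∈ P, y * w = w * y) → P ≤ H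
  out : ∀ P : Subgroup (MulAut Y), P ≤ ⁅P, P⁆ → ∀ α ∈ P, ∃ y, α = MulAut.conj y
  ind : ∀ A B : Subgroup Y, Dir H A B → A = ⊥ ∨ B = ⊥
  gen : ∀ J : Subgroup Y, (∀ x ∈ H, x * x = 1 → x ≠ 1 → ∀ k, k * x = x * k → k ∈ J) → J = ⊤

section Map

variable {Y G : Type*} [Group Y] [Group G] {S X H : Subgroup Y} (f : Y →* G) (hf : Function.Injective f)

include hf

theorem map_comap_of_le {N : Subgroup G} (hN : N ≤ f.range) : (N.comap f).map f = N := by
  rw [Subgroup.map_comap_eq]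
  exact inf_eq_right.2 hN

theorem comap_perf {P : Subgroup G} (hP : P ≤ f.range) (hPP : P ≤ ⁅P, P⁆) :
    P.comap f ≤ ⁅P.comap f, P.comap f⁆ := by
  intro x hx
  have h1 := hPP (Subgroup.mem_comap.1 hx)
  have h2 : ⁅P, P⁆ = (⁅P.comap f, P.comap f⁆).map f := by
    rw [Subgroup.map_commutator, map_comap_of_le f hf hP]
  rw [h2] at h1
  obtain ⟨y, hy, e⟩ := h1
  rwa [← hf e]

/-- the automorphism induced by an element of the normaliser of the range -/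
theorem exists_aut {g : G} (hg : g ∈ Subgroup.normalizer (f.range : Set G)) :
    ∃ α : MulAut Y, (∀ y, f (α y) = g * f y * g⁻¹) ∧ ∀ k : ℕ, g ^ k = 1 → α ^ k = 1 := by
  let e : Y ≃* ↥f.range := MonoidHom.ofInjective hf
  let θ : ↥(normalizer (f.range : Set G)) →* MulAut Y :=
    (MulAut.congr e.symm).toMonoidHom.comp (Subgroup.normalizerMonoidHom f.range)
  have hθ : ∀ (g : ↥(normalizer (f.range : Set G))) (y : Y), f (θ g y) = (g : G) * f y * (g : G)⁻¹ := by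
    intro g y
    have h1 : θ g y = e.symm (Subgroup.normalizerMonoidHom f.range g (e y)) := rfl
    have h2 : ∀ z : ↥f.range, f (e.symm z) = (z : G) := by
      intro z
      have h3 : f (e.symm z) = ((e (e.symm z) : ↥f.range) : G) := rfl
      rw [h3, MulEquiv.apply_symm_apply]
    rw [h1, h2]
    rfl
  refine ⟨θ ⟨g, hg⟩, hθ ⟨g, hg⟩, fun k hk => ?_⟩
  rw [← map_pow]
  have : (⟨g, hg⟩ : ↥(normalizer (f.range : Set G))) ^ k = 1 := Subtype.ext hk
  rw [this, map_one]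

/-- **`Inp` from the facts on `Y`.** -/
theorem YInp.inp (h : YInp S X H) (tight : TightAt f.range)
    (even : Even (Nat.card ↥(centralizer (f.range : Set G))))
    (std : ∀ g : G, ¬ ∀ k ∈ f.range, ∀ l ∈ CommConj.cj g f.range, k * l = l * k)
    (core : ∀ Q : Subgroup G, IsSyl Q (centralizer (f.range : Set G)) → ∀ P : Subgroup G,
      P ≤ centralizer (f.range : Set G) → (∀ x ∈ P, ∀ q ∈ Q, x * q = q * x) → P ≤ ⁅P, P⁆ → P = ⊥) :
    Inp f.range (S.map f) (X.map f) (H.map f) where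
  syl := by
    refine ⟨h.syl.two.map f, ?_, ?_⟩
    · rintro _ ⟨y, -, rfl⟩; exact ⟨y, rfl⟩
    · intro Q hQ hle hQf
      have h1 : Q.comap f ≤ S := by
        apply h.syl.max _ _ _ le_top
        · rintro ⟨x, hx⟩
          obtain ⟨k, hk⟩ := hQ ⟨f x, hx⟩
          refine ⟨k, Subtype.ext (hf ?_)⟩
          have h1 : (f x) ^ 2 ^ k = 1 := congrArg Subtype.val hk
          change f (x ^ 2 ^ k) = f 1
          rw [map_pow, h1, map_one]
        · intro s hs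
          exact hle ⟨s, hs, rfl⟩
      rw [← map_comap_of_le f hf hQf]
      exact map_mono h1
  tight := tight
  even := even
  ctr := by
    rintro _ ⟨x, rfl⟩ hx
    rw [h.ctr x, map_one]
    intro y
    apply hf
    rw [map_mul, map_mul]
    exact (mem_centralizer_iff.1 hx (f y) ⟨y, rfl⟩).symm
  std := std
  simp := by
    intro N hN hNn
    have h2 : (N.comap f).Normal := by
      constructor
      intro x hx y
      show f (y * x * y⁻¹) ∈ N
      rw [map_mul, map_mul, map_inv]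
      exact hNn (f y) ⟨y, rfl⟩ _ hx
    rcases h.simp (N.comap f) h2 with h3 | h3
    · left
      rw [← map_comap_of_le f hf hN, h3, Subgroup.map_bot]
    · right
      rw [← map_comap_of_le f hf hN, h3, ← MonoidHom.range_eq_map]
  XS := map_mono h.XS
  SH := map_mono h.SH
  HK := by
    rintro _ ⟨y, -, rfl⟩
    exact ⟨y, rfl⟩
  HX := by
    rintro _ ⟨y, hy, rfl⟩ _ ⟨x, hx, rfl⟩
    rw [← map_mul, ← map_mul, h.HX y hy x hx]
  perf := by
    rw [← Subgroup.map_commutator]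
    exact map_mono h.perf
  cen := by
    rintro y hy ⟨k, hk⟩ hyS
    obtain ⟨α, hα, hαk⟩ := exists_aut f hf hy
    obtain ⟨x, hx, e⟩ := h.cen α ⟨k, hαk _ hk⟩ (fun s hs => by
      apply hf
      rw [hα, ← hyS (f s) ⟨s, hs, rfl⟩, mul_inv_cancel_right])
    have hcz : ∀ z : Y, (f x)⁻¹ * y * f z = f z * ((f x)⁻¹ * y) := by
      intro z
      have h1 := hα z
      rw [e, MulAut.conj_apply, map_mul, map_mul, map_inv] at h1
      calc (f x)⁻¹ * y * f z = (f x)⁻¹ * (y * f z * y⁻¹) * y := by group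
        _ = (f x)⁻¹ * (f x * f z * (f x)⁻¹) * y := by rw [h1]
        _ = _ := by group
    have h2 : (f x)⁻¹ * y ∈ centralizer (f.range : Set G) := by
      rw [mem_centralizer_iff]
      rintro _ ⟨z, rfl⟩
      exact (hcz z).symm
    refine ⟨(f x)⁻¹ * y, h2, f x, ⟨x, hx, rfl⟩, ?_⟩
    have h3 := mem_centralizer_iff.1 h2 (f x) ⟨x, rfl⟩
    rw [← h3]; group
  res := by
    rintro _ ⟨w, hw, rfl⟩ hw1 P hPK hPP hPw
    rw [← map_comap_of_le f hf hPK]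
    apply map_mono
    apply h.res w hw (fun h0 => hw1 (by rw [h0, map_one])) _ (comap_perf f hf hPK hPP)
    intro y hy
    apply hf
    rw [map_mul, map_mul]
    exact hPw (f y) hy
  out := by
    intro P hP hPP x hx
    obtain ⟨k, hk, c, hc, e⟩ := schreier f hf h.out P hP hPP x hx
    rw [e]
    exact mul_mem_sup hk (mem_centralizer_iff.2 fun y hy => (hc y hy).symm)
  ind := by
    intro A B hA hB hAB hdis hdec
    have hr : H.map f ≤ f.range := by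
      rintro _ ⟨y, -, rfl⟩
      exact ⟨y, rfl⟩
    have hAr := hA.trans hr
    have hBr := hB.trans hr
    have hle : ∀ C : Subgroup G, C ≤ H.map f → C.comap f ≤ H := by
      intro C hC x hx
      obtain ⟨y, hy, e⟩ := hC hx
      rwa [← hf e]
    rcases h.ind (A.comap f) (B.comap f) ⟨hle A hA, hle B hB, by
        intro a ha b hb
        apply hf
        rw [map_mul, map_mul]
        exact hAB _ ha _ hb, by
        intro x hx hx'
        apply hf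
        rw [map_one, ← Subgroup.mem_bot, ← hdis]
        exact ⟨hx, hx'⟩, by
        intro y hy
        obtain ⟨a, ha, b, hb, e⟩ := hdec (f y) ⟨y, hy, rfl⟩
        obtain ⟨a', rfl⟩ := hAr ha
        obtain ⟨b', rfl⟩ := hBr hb
        exact ⟨a', ha, b', hb, hf (by rw [e, map_mul])⟩⟩ with h1 | h1
    · left
      rw [← map_comap_of_le f hf hAr, h1, Subgroup.map_bot]
    · right
      rw [← map_comap_of_le f hf hBr, h1, Subgroup.map_bot]
  gen := by
    intro J hJ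
    have h2 : J.comap f = ⊤ := by
      apply h.gen
      intro x hx hxx hx1 k hkx
      refine hJ (f x) ⟨x, hx, rfl⟩ ?_ ?_ (f k) ⟨k, rfl⟩ ?_
      · rw [← map_mul, hxx, map_one]
      · intro h0
        exact hx1 (hf (h0.trans (map_one f).symm))
      · rw [← map_mul, hkx, map_mul]
    rintro _ ⟨y, rfl⟩
    have h3 : y ∈ J.comap f := by rw [h2]; trivial
    exact h3
  core := core

end Map

end Cfsg.Agent.OddHalf.DblR.YInput

end

-- merged: Cfsg.Agent.OddHalf.DblR.OneLong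
section

/-!
# ODD, D4: LEMMA INPUT and the end of case (a) for a root group datum with `SheetL` (helper552)

* `OneL R r` : `SheetL`, `HasFull`, `r` dominant, some root orthogonal to `r`, no type `G₂`;
* `OneL.yinp` : `YInp U (X r) ⟨X a : ⟨a, r^∨⟩ ≥ 0⟩`;
* `HasOneL Y`;
* **`HasOneL.false_of_pair`** : no full pair `(K, L)` with a Sylow 2-subgroup of `K` contained in `N(L)`.
-/

set_option autoImplicit false
set_option linter.unusedSectionVars false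

namespace Cfsg.Agent.OddHalf.DblR.OneLong

open CoxeterSystem Cfsg.Agent.ChevalleyStructure.CoxeterGeom Cfsg.Agent.Tits.Roots Cfsg.Agent.Tits.Core
  Cfsg.Agent.Tits.RootComb Cfsg.Agent.Tits.Exchange Cfsg.Agent.Nodes.Reps Cfsg.Agent.Nodes.BNOf
  Cfsg.Agent.Nodes.StabComb Cfsg.Agent.Nodes.Bruhat Cfsg.Agent.Nodes.OppDec Cfsg.Agent.Nodes.LeviDec
  Cfsg.Agent.Nodes.NormX Cfsg.Agent.Nodes.Coroot Cfsg.Agent.Nodes.PosPair Cfsg.Agent.KFacts.RgdPar
  Cfsg.Agent.KFacts.RgdSL Cfsg.Agent.KFacts.RgdTI Cfsg.Agent.KFacts.RgdCent Cfsg.Agent.KFacts.RgdOdd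
  Cfsg.Agent.KFacts.RgdEx Cfsg.Agent.KFacts.RgdTor Cfsg.Agent.KFacts.RgdKfour
  Cfsg.Agent.OddHalf.DblR.YInput
open scoped commutatorElement

variable {I W Y : Type*} [Fintype I] [DecidableEq I] [Group W] [Group Y] {M : CoxeterMatrix I}
  {cs : CoxeterSystem M W} {A : I → I → ℤ} {h : IsCartan M A} {T : Subgroup Y} {n : I → Y}
  {X : (I → ℤ) → Subgroup Y}

/-- `SheetL`, `HasFull`, `r` dominant. -/
structure OneL [Finite W] (R : RGD cs h 2 T n X) (r : I → ℤ) : Prop where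
  sheet : SheetL R r
  full : Cfsg.Agent.KFacts.RgdLocL.HasFull cs h T X r
  dom : ∀ i, 0 ≤ cpr cs h (sr i) r
  orth : ∃ g, IsRoot cs h g ∧ cpr cs h g r = 0
  two : ∀ c, IsRoot cs h c → cpr cs h c r < 0 → c ≠ -r → cpr cs h c r * cpr cs h r c ≤ 2

namespace OneL

variable [Finite W] {R : RGD cs h 2 T n X} {r : I → ℤ} (O : OneL R r)

include O

theorem root : IsRoot cs h r := O.sheet.long.root

theorem GG_top : GG cs h T X = ⊤ := by
  rw [eq_top_iff, ← O.sheet.top]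
  exact le_sup_right

theorem nonneg {a : I → ℤ} (ha : 0 ≤ a) : 0 ≤ cpr cs h a r := dom_nonneg (f := ell cs h O.root) O.dom ha

theorem r_pos : 0 ≤ r := by
  rcases O.root.pos_or_neg with h1 | h1
  · exact h1
  · exfalso
    have h2 := O.nonneg (a := -r) (neg_nonneg.2 h1)
    rw [cpr_neg_left _ O.root, cpr_self cs h O.root] at h2
    omega

theorem rad_pos {a : I → ℤ} (ha : a ∈ Rad cs h r) : a ∈ RGD.Pos cs h := by
  refine ⟨ha.1, ?_⟩
  rcases ha.1.pos_or_neg with h1 | h1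
  · exact h1
  · exfalso
    have h2 := O.nonneg (a := -a) (neg_nonneg.2 h1)
    rw [cpr_neg_left _ O.root] at h2
    have := ha.2
    omega

theorem U_le : RGD.Sup X (RGD.Pos cs h) ≤ RGD.Sup X (Ge cs h r) :=
  RGD.Sup_mono fun _ ha => ⟨ha.1, O.nonneg ha.2⟩

theorem r_ge : r ∈ Ge cs h r := ⟨O.root, by rw [cpr_self cs h O.root]; norm_num⟩

theorem cj_T {t : Y} (ht : t ∈ T) : cj t (RGD.Sup X (Ge cs h r)) = RGD.Sup X (Ge cs h r) := by
  have key : ∀ t ∈ T, cj t (RGD.Sup X (Ge cs h r)) ≤ RGD.Sup X (Ge cs h r) := by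
    intro t ht x hx
    rw [mem_cj] at hx
    have h1 := Cfsg.Agent.KFacts.RgdLocL.t_conj_P R ht hx
    have e : t * (t⁻¹ * x * t) * t⁻¹ = x := by group
    rwa [e] at h1
  exact cj_eq_of_le (key t ht) (key t⁻¹ (inv_mem ht))

theorem exists_tr {x y : Y} (hx : x ∈ X r) (hy : y ∈ X r) (hx1 : x ≠ 1) (hy1 : y ≠ 1) :
    ∃ t ∈ T, t * x * t⁻¹ = y := by
  obtain ⟨ι, _, V, st, i, T', H⟩ := O.full
  obtain ⟨t, ht, e⟩ := H.tr x hx hx1 y hy hy1
  exact ⟨t, ht.1, e⟩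

theorem sq {x : Y} (hx : x ∈ X r) : x * x = 1 := by
  obtain ⟨ι, _, V, st, i, T', H⟩ := O.full
  exact H.zsq x hx

theorem isSyl [Finite Y] : Cfsg.Agent.OddHalf.D4.Basic.IsSyl (RGD.Sup X (RGD.Pos cs h)) ⊤ := by
  have : Fact (Nat.Prime 2) := ⟨Nat.prime_two⟩
  obtain ⟨S, hS⟩ := Cfsg.Agent.KFacts.RgdAutFacts.exists_sylow R O.GG_top
  refine ⟨R.isPGroup_Upos, le_top, fun Q hQ hle _ => ?_⟩
  rw [← hS] at hle ⊢
  exact (S.is_maximal' hQ hle).le

theorem center [IsSimpleGroup Y] (x : Y) (hx : ∀ y : Y, x * y = y * x) : x = 1 := by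
  have h1 : x ∈ Subgroup.center Y := Subgroup.mem_center_iff.2 fun y => (hx y).symm
  rcases (inferInstance : (Subgroup.center Y).Normal).eq_bot_or_eq_top with h2 | h2
  · rwa [h2, Subgroup.mem_bot] at h1
  · exfalso
    obtain ⟨z, hz, hz1⟩ := exists_ne R O.root
    apply hz1
    have h3 := O.sheet.perf (RGD.le_Sup O.r_ge hz)
    have h4 : ⁅RGD.Sup X (Ge cs h r), RGD.Sup X (Ge cs h r)⁆ = ⊥ := by
      rw [Subgroup.commutator_eq_bot_iff_le_centralizer]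
      intro a _
      rw [Subgroup.mem_centralizer_iff]
      intro b _
      have : b ∈ Subgroup.center Y := by rw [h2]; trivial
      exact (Subgroup.mem_center_iff.1 this a).symm
    rwa [h4, Subgroup.mem_bot] at h3

/-- automorphisms centralising `U` -/
theorem cen (α : MulAut Y) (hα : ∀ s ∈ RGD.Sup X (RGD.Pos cs h), α s = s) : ∃ x ∈ X r, α = MulAut.conj x :=
  O.sheet.k1 r O.sheet.long α fun _ ha x hx => hα x (RGD.le_Sup (O.rad_pos ha) hx)

/-- the reflection in a root, as an element of the Weyl group -/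
theorem exists_rfl {c : I → ℤ} (hc : IsRoot cs h c) : ∃ w : W, ∀ x, rep cs h w x = x - cpr cs h x c • c := by
  obtain ⟨w, i, hw⟩ := id hc
  refine ⟨w * cs.simple i * w⁻¹, fun x => ?_⟩
  have h6 := rep_rfl'_eq cs h w i x
  rw [← hw] at h6
  exact h6

/-- **generation by centralisers of involutions of `P_r`** -/
theorem gen [Finite Y] (J : Subgroup Y)
    (hJ : ∀ x ∈ RGD.Sup X (Ge cs h r), x * x = 1 → x ≠ 1 → ∀ k, k * x = x * k → k ∈ J) : J = ⊤ := by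
  rw [eq_top_iff, ← O.sheet.top]
  refine RGD.Sup_le fun c hc => ?_
  have hc : IsRoot cs h c := hc
  have hr := O.root
  -- `X c` commutes with an involution of `P_r`
  obtain ⟨u, hu, huu, hu1, hcu⟩ : ∃ u ∈ RGD.Sup X (Ge cs h r), u * u = 1 ∧ u ≠ 1 ∧ ∀ v ∈ X c, v * u = u * v := by
    by_cases h0 : 0 ≤ cpr cs h c r
    · obtain ⟨u, hu, hu1⟩ := exists_ne R hr
      exact ⟨u, RGD.le_Sup O.r_ge hu, O.sq hu, hu1, fun v hv => O.sheet.long.lr.comm c hc h0 v hv u hu⟩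
    push Not at h0
    by_cases hcr : c = -r
    · subst hcr
      obtain ⟨g, hg, hgr⟩ := O.orth
      obtain ⟨u, hu, hu2⟩ := Cfsg.Agent.OddHalf.D4.Basic.exists_invol_of_two (R.pgrp' hg) (X_ne_bot R hg)
      have hu1 : u ≠ 1 := by
        rintro rfl
        rw [orderOf_one] at hu2
        exact absurd hu2 (by norm_num)
      have huu : u * u = 1 := by rw [← pow_two, ← hu2, pow_orderOf_eq_one]
      refine ⟨u, RGD.le_Sup (S := Ge cs h r) ⟨hg, hgr.ge⟩ hu, huu, hu1, fun v hv => ?_⟩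
      exact (O.sheet.long.neg.lr.comm g hg (by rw [cpr_neg_right cs h _ hr, hgr, neg_zero]) u hu v hv).symm
    · obtain ⟨w, hw⟩ := O.exists_rfl hc
      have L := O.sheet.long.lr.act w
      obtain ⟨k, hk⟩ := exists_rp cs R.nsys w
      obtain ⟨u, hu, hu1⟩ := exists_ne R hr
      have h1 := R.conj_mem hk hr hu
      have h2 : 0 ≤ cpr cs h (rep cs h w r) r := by
        rw [hw, sub_eq_add_neg, cpr_add cs h _ _ hr, cpr_neg cs h _ hr, cpr_smul cs h _ _ hr, cpr_self cs h hr]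
        have := O.two c hc h0 hcr
        rw [mul_comm] at this
        omega
      refine ⟨k * u * k⁻¹, RGD.le_Sup (S := Ge cs h r) ⟨L.root, h2⟩ h1, ?_, ?_, fun v hv => ?_⟩
      · calc k * u * k⁻¹ * (k * u * k⁻¹) = k * (u * u) * k⁻¹ := by group
          _ = 1 := by rw [O.sq hu]; group
      · intro h3
        apply hu1
        calc u = k⁻¹ * (k * u * k⁻¹) * k := by group
          _ = 1 := by rw [h3]; group
      · refine L.comm c hc ?_ v hv _ h1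
        -- `⟨c, (s_c r)^∨⟩ = - ⟨c, r^∨⟩`
        have h4 : rep cs h w c = -c := by
          rw [hw, cpr_self cs h hc, two_smul]; abel
        have h5 := cpr_rep cs h w⁻¹ c (hr.act w)
        rw [rep_inv_apply] at h5
        have h6 : rep cs h w⁻¹ c = -c := by
          have h7 := rep_inv_apply cs h w (-c)
          rw [map_neg, h4, neg_neg] at h7
          exact h7
        rw [← h5, h6, cpr_neg cs h _ hr]
        omega
  intro v hv
  exact hJ u hu huu hu1 v (hcu v hv)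

/-- **The facts of LEMMA INPUT.** -/
theorem yinp [Finite Y] [IsSimpleGroup Y] : YInp (RGD.Sup X (RGD.Pos cs h)) (X r) (RGD.Sup X (Ge cs h r)) := by
  have hL := O.sheet.long.lr
  exact
    { syl := O.isSyl
      ctr := O.center
      simp := fun N hN => hN.eq_bot_or_eq_top
      XS := RGD.le_Sup ⟨O.root, O.r_pos⟩
      SH := O.U_le
      HX := fun y hy x hx => hL.comm' hy hx
      perf := O.sheet.perf
      cen := fun α _ hα => O.cen α hα
      res := fun w hw hw1 P hPP hPw =>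
        le_P_of_perfect R hL O.sheet.tab hw hw1 (by rw [O.GG_top]; exact le_top) hPw hPP
      out := O.sheet.out
      ind := by
        intro A B hAB
        refine dir_of_trans (S := RGD.Sup X (RGD.Pos cs h)) (X := X r) O.sheet.perf ?_ (O.isSyl.mono O.U_le le_top)
          ?_ ?_ hAB
        · refine RGD.Sup_le fun a ha x hx => Subgroup.subset_closure ⟨RGD.le_Sup ha hx, ?_⟩
          obtain ⟨k, hk⟩ := (R.pgrp' ha.1) ⟨x, hx⟩
          exact ⟨k, congrArg Subtype.val hk⟩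
        · intro w hw hwc
          obtain ⟨x, hx, e⟩ := O.cen (MulAut.conj w) fun s hs => by
            rw [MulAut.conj_apply, ← hwc s hs, mul_inv_cancel_right]
          have h1 : x⁻¹ * w = 1 := by
            apply O.center
            intro y
            have h2 : w * y * w⁻¹ = x * y * x⁻¹ := by
              have := congrArg (fun α : MulAut Y => α y) e
              simpa only [MulAut.conj_apply] using this
            calc x⁻¹ * w * y = x⁻¹ * (w * y * w⁻¹) * w := by group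
              _ = y * (x⁻¹ * w) := by rw [h2]; group
          rw [inv_mul_eq_one] at h1
          rw [← h1]; exact hx
        · intro x hx y hy hx1 hy1
          obtain ⟨t, ht, e⟩ := O.exists_tr hx hy hx1 hy1
          exact ⟨t, O.cj_T ht, e⟩
      gen := O.gen }

end OneL

/-- Some root group datum of `Y` has a dominant long root with `OneL`. -/
def HasOneL (Y : Type*) [Group Y] : Prop :=
  ∃ (l : ℕ) (M : CoxeterMatrix (Fin l)) (A : Fin l → Fin l → ℤ) (h : IsCartan M A) (T : Subgroup Y) (n : Fin l → Y)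
    (X : (Fin l → ℤ) → Subgroup Y) (_ : Finite M.Group) (R : RGD M.toCoxeterSystem h 2 T n X) (r : Fin l → ℤ), OneL R r

section End

variable {G : Type*} [Group G] [Finite G]

/-- `Std1` from tightness -/
theorem std1_of_tight {K : Subgroup G} (tight : Cfsg.Agent.OddHalf.D4.TightAt K)
    (ctr : ∀ x ∈ K, x ∈ Subgroup.centralizer (K : Set G) → x = 1) : Std1 K where
  nor := by
    intro t ht htt ht1 g hg k hk
    have h2 : orderOf t = 2 := orderOf_eq_prime (by rw [pow_two]; exact htt) ht1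
    exact (Subgroup.mem_normalizer_iff.1 (tight.mem ht h2 hg) k).1 hk
  te := by
    intro t ht htt ht1 g hg
    have h2 : orderOf t = 2 := orderOf_eq_prime (by rw [pow_two]; exact htt) ht1
    exact Cfsg.Agent.OddHalf.D4.CommConj.cj_eq_of_mem_normalizer (tight.tight g t ht h2 hg)
  ctr := fun k hk hc => ctr k hk (Subgroup.mem_centralizer_iff.2 fun x hx => (hc x hx).symm)

/-- **The end of case (a).** A full pair `(K, L)` such that a Sylow 2-subgroup of `K` normalises `L` does not exist. -/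
theorem OneL.false_of_pair [Finite W] [Finite Y] [IsSimpleGroup Y] {R : RGD cs h 2 T n X} {r : I → ℤ} (O : OneL R r)
    (f : Y →* G) (hf : Function.Injective f) (tight : Cfsg.Agent.OddHalf.D4.TightAt f.range)
    (rk : Cfsg.Agent.OddHalf.D4.Rk2 f.range)
    (std : ∀ g : G, ¬ ∀ k ∈ f.range, ∀ l ∈ Cfsg.Agent.OddHalf.D4.CommConj.cj g f.range, k * l = l * k)
    (core : ∀ Q : Subgroup G, Cfsg.Agent.OddHalf.D4.Basic.IsSyl Q (Subgroup.centralizer (f.range : Set G)) →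
      ∀ P : Subgroup G, P ≤ Subgroup.centralizer (f.range : Set G) → (∀ x ∈ P, ∀ q ∈ Q, x * q = q * x) →
        P ≤ ⁅P, P⁆ → P = ⊥) {L Q U S' : Subgroup G} (hp : Cfsg.Agent.OddHalf.D4.FullPair f.range L Q U)
    (hS' : Cfsg.Agent.OddHalf.D4.Basic.IsSyl S' f.range) (hS'L : S' ≤ Subgroup.normalizer (L : Set G)) : False := by
  obtain ⟨a, ha, b, hb, ha2, hb2, -, hab⟩ := rk.exists_syl hp.sylQ
  have even : Even (Nat.card ↥(Subgroup.centralizer (f.range : Set G))) :=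
    Cfsg.Agent.OddHalf.D4.Basic.even_of_mem ha2 (hp.sylQ.le ha)
  have hI := YInp.inp f hf O.yinp tight even std core
  obtain ⟨k, hk, γ, -, -, -, -, hg1, hg2, hg3, -⟩ := hI.root_pair hp hS' hS'L
  have ne1 : ∀ {x : G}, orderOf x = 2 → x ≠ 1 := by
    rintro x hx rfl
    rw [orderOf_one] at hx
    exact absurd hx (by norm_num)
  obtain ⟨ι, _, V, st, i, T', Fu⟩ := O.full
  refine O.sheet.row f hf rfl (std1_of_tight tight hI.ctr) hp.sylQ.le hp.sylQ.two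
    (fun D hED hDK hD => hp.sylQ.max D hD hED hDK) ?_ ha (ne1 ha2) hb (ne1 hb2) hab.symm
    (T0 := T ⊓ (X r ⊔ X (-r))) inf_le_left ?_ (γ := γ) (one_mem f.range) hg1 ?_ hg3
  · intro H hH hHp
    refine core Q hp.sylQ H (fun x hx => (Subgroup.mem_inf.1 (hH hx)).1) (fun x hx q hq => ?_) hHp
    exact ((mem_C1.1 (hH hx)).2 q hq)
  · intro amb two k3
    refine (Fu.map f hf).loc ?_ ?_ amb two k3
    · rintro _ ⟨y, -, rfl⟩
      exact ⟨y, rfl⟩
    · rintro _ ⟨y, -, rfl⟩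
      exact ⟨y, rfl⟩
  · rw [cj_one]; exact hg2

/-- **The end of case (a)**, any `K` isomorphic to `Y`. -/
theorem HasOneL.false_of_pair {Y : Type*} [Group Y] [Finite Y] [IsSimpleGroup Y] (hY : HasOneL Y) {K : Subgroup G}
    (e : Y ≃* ↥K) (tight : Cfsg.Agent.OddHalf.D4.TightAt K) (rk : Cfsg.Agent.OddHalf.D4.Rk2 K)
    (std : ∀ g : G, ¬ ∀ k ∈ K, ∀ l ∈ Cfsg.Agent.OddHalf.D4.CommConj.cj g K, k * l = l * k)
    (core : ∀ Q : Subgroup G, Cfsg.Agent.OddHalf.D4.Basic.IsSyl Q (Subgroup.centralizer (K : Set G)) →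
      ∀ P : Subgroup G, P ≤ Subgroup.centralizer (K : Set G) → (∀ x ∈ P, ∀ q ∈ Q, x * q = q * x) →
        P ≤ ⁅P, P⁆ → P = ⊥) {L Q U S' : Subgroup G} (hp : Cfsg.Agent.OddHalf.D4.FullPair K L Q U)
    (hS' : Cfsg.Agent.OddHalf.D4.Basic.IsSyl S' K) (hS'L : S' ≤ Subgroup.normalizer (L : Set G)) : False := by
  obtain ⟨l, M, A, h, T, n, X, hM, R, r, O⟩ := hY
  have hf : Function.Injective (K.subtype.comp e.toMonoidHom) :=
    (Subgroup.subtype_injective K).comp e.injective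
  have hK : (K.subtype.comp e.toMonoidHom).range = K := by
    rw [MonoidHom.range_comp, MonoidHom.range_eq_top.2 e.surjective, ← MonoidHom.range_eq_map, Subgroup.range_subtype]
  have key : ∀ (f : Y →* G), Function.Injective f → f.range = K → False := by
    rintro f hf' rfl
    exact O.false_of_pair f hf' tight rk std core hp hS' hS'L
  exact key _ hf hK

end End

end Cfsg.Agent.OddHalf.DblR.OneLong

end

-- merged: Cfsg.Agent.OddHalf.DblR.OneTwE6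
section

/-!
# ODD, D4, row `two.e6te` (`²E₆(2^a)`, `a ≥ 2`): LEMMA INPUT and the end of case (a) (helper552)

* `oneL` : `OneL R ρ` from `SheetL R ρ`, `HasFull`;
* **`hasOneL_twE6`**;
* **`false_of_pair`** : no full pair `(K, L)`, `K ≅ ²E₆(2^a)`, with a Sylow 2-subgroup of `K` contained in `N(L)`.
-/

set_option autoImplicit false
set_option linter.unusedSectionVars false

namespace Cfsg.Agent.OddHalf.DblR.OneTwE6

open CoxeterSystem Cfsg.Agent.ChevalleyStructure.CoxeterGeom Cfsg.Agent.Tits.Roots Cfsg.Agent.Tits.Core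
  Cfsg.Agent.Tits.RootComb Cfsg.Agent.Tits.Exchange Cfsg.Agent.Nodes.Reps Cfsg.Agent.Nodes.BNOf
  Cfsg.Agent.Nodes.StabComb Cfsg.Agent.Nodes.Bruhat Cfsg.Agent.Nodes.OppDec
  Cfsg.Agent.Nodes.Coroot Cfsg.Agent.KFacts.RgdSL Cfsg.Agent.KFacts.RgdTI Cfsg.Agent.KFacts.RgdOdd
  Cfsg.Agent.KFacts.RgdCent Cfsg.Agent.KFacts.RgdEx Cfsg.Agent.KFacts.RgdPar
  Cfsg.Agent.Nodes.RGDTwE6 Cfsg.Agent.KFacts.TwESix.Comb Cfsg.Agent.KFacts.TwESix.CombRho
  Cfsg.Agent.KFacts.TwESix.Facts Cfsg.Agent.KFacts.TwESix.QRho Cfsg.Agent.KFacts.TwESix.Tor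
  Cfsg.Agent.OddHalf.DblR.OneLong Cfsg.Agent.OddHalf.DblR.SheetTwE6
open scoped commutatorElement

theorem orth_comb : ∃ g ∈ rts, g 0 = 0 := by decide +kernel

theorem two_comb : ∀ c ∈ rts, c 0 < 0 → c ≠ -rho → c 0 = -1 := by decide +kernel

section

variable {W Y : Type*} [Group W] [Group Y] {cs : CoxeterSystem CoxeterMatrix.F₄ W} {T : Subgroup Y} {n : Fin 4 → Y}
  {X : (Fin 4 → ℤ) → Subgroup Y} {R : RGD cs isCartan 2 T n X}

/-- **`OneL` at `ρ`** -/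
theorem oneL [Finite W] (S : SheetL R rho) (F : Cfsg.Agent.KFacts.RgdLocL.HasFull cs isCartan T X rho) :
    OneL R rho where
  sheet := S
  full := F
  dom := by
    intro i
    rw [cpr_rho]
    show 0 ≤ (Pi.single i 1 : Fin 4 → ℤ) 0
    fin_cases i <;> decide
  orth := by
    obtain ⟨g, hg, h0⟩ := orth_comb
    exact ⟨g, (mem_rts cs).2 hg, by rw [cpr_rho, h0]⟩
  two := by
    intro c hc h0 hne
    rw [cpr_rho] at h0 ⊢
    rw [two_comb c ((mem_rts cs).1 hc) h0 hne]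
    have h1 := two_bf cs rho hc
    have h2 := two_bf cs c (rho_root cs)
    rw [cpr_rho, two_comb c ((mem_rts cs).1 hc) h0 hne, rho_long, bf_comm] at h2
    rcases norm cs hc with h3 | h3 <;> rw [h3] at h1 <;> (clear * - h1 h2; omega)

end

section Inst

open Cfsg.Lie

universe u

variable {F : Type u} [Field F] [Fintype F]

/-- **`²E₆(2^a)`, `a ≥ 2`** -/
theorem hasOneL_twE6 {a : ℕ} (ha : 2 ≤ a) (hF : Fintype.card F = 4 ^ a) : HasOneL ↥(twistedE6 F (2 ^ a)) := by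
  have hF' : Fintype.card F = (2 ^ a) ^ 2 := by rw [hF, ← pow_mul, mul_comm, pow_mul]; norm_num
  have hq : IsPrimePow (2 ^ a) := (Nat.prime_two.isPrimePow).pow (by omega)
  have : Fact (Nat.Prime 2) := ⟨Nat.prime_two⟩
  have hc : CharP F 2 := by
    obtain ⟨p, hp⟩ := CharP.exists F
    have hpp : p.Prime := (CharP.char_is_prime_or_zero F p).resolve_right (CharP.char_ne_zero_of_finite F p)
    have : Fact p.Prime := ⟨hpp⟩
    obtain ⟨n, hn⟩ := FiniteField.card F p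
    have h2 : p ∣ 2 := by
      apply hpp.dvd_of_dvd_pow (n := 2 * a)
      rw [pow_mul]
      norm_num
      rw [← hF, hn.2]
      exact dvd_pow_self p n.ne_zero
    have h3 : p = 2 := (Nat.prime_dvd_prime_iff_eq hpp Nat.prime_two).1 h2
    rwa [h3] at hp
  obtain ⟨φ, hφ, hqq⟩ := Cfsg.Agent.ChevalleyStructure.TwE6Basic.exists_frob hq hF'
  have hW : Finite CoxeterMatrix.F₄.Group := finiteW CoxeterMatrix.F₄.toCoxeterSystem
  have hq2 : 2 < 2 ^ a := by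
    calc 2 < 2 ^ 2 := by norm_num
      _ ≤ 2 ^ a := Nat.pow_le_pow_right (by norm_num) ha
  exact ⟨4, CoxeterMatrix.F₄, _, isCartan, _, _, _, hW, _, rho,
    oneL (sheetL_inst CoxeterMatrix.F₄.toCoxeterSystem hφ hqq hq hF') (hasFull_inst _ hφ hqq hq hF' hq2)⟩

theorem isSimple {a : ℕ} (ha : 2 ≤ a) (hF : Fintype.card F = 4 ^ a) : IsSimpleGroup ↥(twistedE6 F (2 ^ a)) := by
  have hF' : Fintype.card F = (2 ^ a) ^ 2 := by rw [hF, ← pow_mul, mul_comm, pow_mul]; norm_num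
  exact (Cfsg.Agent.S1070.result (K := F) (Nat.prime_two.isPrimePow.pow (by omega)) hF').1

variable {G : Type*} [Group G] [Finite G]

end Inst

end Cfsg.Agent.OddHalf.DblR.OneTwE6

end

-- merged: Cfsg.Agent.OddHalf.DblR.OneMinus
section

/-!
# ODD, D4, row `two.ome` (`Ω⁻_{2m}(2^a)`, `m ≥ 4`, `a ≥ 2`): LEMMA INPUT and the end of case (a) (helper552)

* `dl_symm`, `orth_comb`, `two_comb` : combinatorics of the roots `± ε_i ± ε_j`;
* **`hasOneL_minus`**;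
* **`false_of_pair`** : no full pair `(K, L)`, `K ≅ Ω⁻_{2m}(2^a)`, with a Sylow 2-subgroup of `K` contained in `N(L)`.
-/

set_option autoImplicit false
set_option linter.unusedSectionVars false

namespace Cfsg.Agent.OddHalf.DblR.OneMinus

open CoxeterSystem Cfsg.Agent.ChevalleyStructure.CoxeterGeom Cfsg.Agent.Tits.Roots Cfsg.Agent.Nodes.TypeC
  Cfsg.Agent.Tits.RootComb
open Cfsg.Agent.Nodes.Comb Cfsg.Agent.Nodes.Reps Cfsg.Agent.Nodes.WittRoot Cfsg.Agent.Nodes.BNOf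
  Cfsg.Agent.Nodes.StabComb Cfsg.Agent.Nodes.Coroot Cfsg.Agent.Nodes.KindBC Cfsg.Agent.Nodes.TypeCForm
  Cfsg.Agent.Nodes.Bruhat Cfsg.Agent.Nodes.PosPair
open Cfsg.Agent Cfsg.Agent.TitsThree Cfsg.Agent.TitsThree.Siegel Cfsg.Agent.TitsThree.WittFrame
  Cfsg.Agent.TitsThree.WittWeyl Cfsg.Agent.TitsThree.FrameCN Cfsg.Agent.TitsThree.LineBorel
open Cfsg.Agent.KFacts.WittOrth Cfsg.Agent.KFacts.RgdTI Cfsg.Agent.KFacts.RgdPar
  Cfsg.Agent.KFacts.RgdOdd Cfsg.Agent.KFacts.RgdSL Cfsg.Agent.KFacts.RgdCent Cfsg.Agent.KFacts.RgdCentW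
  Cfsg.Agent.OddHalf.DblR.MinusComb Cfsg.Agent.OddHalf.DblR.OneLong
open scoped commutatorElement

section Comb

variable {n : ℕ}

theorem dl_symm (c x : Fin n × Bool) : dl c x = dl x c := by
  rcases dl_cases c x with ⟨rfl, h⟩ | ⟨h1, h⟩ | ⟨h1, h⟩
  · rfl
  · subst h1
    have h2 := dl_ng_right x x
    rw [dl_self] at h2
    rw [h, h2]
  · rw [h, dl_of_ne (Ne.symm h1)]

variable {W : Type*} [Group W] (cs : CoxeterSystem (CoxeterMatrix.B n) W) [Finite W]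

theorem orth_comb (hn : 3 ≤ n) {r : Fin n → ℤ} (hr : r ∈ RB n) :
    ∃ g, IsRoot cs (isCartan n) g ∧ cpr cs (isCartan n) g r = 0 := by
  obtain ⟨x, y, hxy, rfl⟩ := mem_RB.1 hr
  obtain ⟨z, hz⟩ := Cfsg.Agent.KFacts.SpecMinus.exists_out hn x y
  refine ⟨rt z z, isRoot_rt cs (Or.inr rfl : Ok z z), ?_⟩
  have hzx : z.1 ≠ x.1 := hz.1
  have hzy : z.1 ≠ y.1 := hz.2
  rw [cpr_ne cs _ hxy, ev_rt, ev_rt, dl_of_ne hzx, dl_of_ne hzy]
  norm_num

theorem two_comb {r : Fin n → ℤ} (hr : r ∈ RB n) {c : Fin n → ℤ} (hc : IsRoot cs (isCartan n) c)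
    (hne : c ≠ -r) (h0 : cpr cs (isCartan n) c r < 0) : cpr cs (isCartan n) c r * cpr cs (isCartan n) r c ≤ 2 := by
  obtain ⟨x, y, hxy, rfl⟩ := mem_RB.1 hr
  obtain ⟨u, v, huv, rfl⟩ := exists_rt hc
  rw [cpr_ne cs _ hxy, ev_rt, ev_rt] at h0 ⊢
  rcases huv with huv | rfl
  · rw [cpr_ne cs _ huv, ev_rt, ev_rt, dl_symm x u, dl_symm y u, dl_symm x v, dl_symm y v]
    rcases cases2 hxy u with ⟨h1, h2, h3⟩ | ⟨h1, h2, h3⟩ | ⟨h1, h2, h3⟩ | ⟨h1, h2, h3⟩ | ⟨h1, h2, h3⟩ <;>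
    rcases cases2 hxy v with ⟨h4, h5, h6⟩ | ⟨h4, h5, h6⟩ | ⟨h4, h5, h6⟩ | ⟨h4, h5, h6⟩ | ⟨h4, h5, h6⟩ <;>
    rw [h2, h3, h5, h6] at h0 ⊢ <;>
    first
    | (exfalso; omega)
    | (norm_num; done)
    | (exfalso; apply huv; rw [h1, h4]; done)
    | (exfalso; apply hne; rw [h1, h4, rt_ng]; done)
    | (exfalso; apply hne; rw [h1, h4, rt_comm, rt_ng]; done)
  · rw [cpr_same cs, ev_rt, dl_symm x u, dl_symm y u]
    rcases cases2 hxy u with ⟨h1, h2, h3⟩ | ⟨h1, h2, h3⟩ | ⟨h1, h2, h3⟩ | ⟨h1, h2, h3⟩ | ⟨h1, h2, h3⟩ <;>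
    rw [h2, h3] <;> norm_num

end Comb

/-! ### the minus form -/

section Minus

open QuadraticMap
open Cfsg.Agent.LieClassical Cfsg.Agent.LieClassical.OrthCore Cfsg.Agent.LieClassical.OrthTrans
open Cfsg.Agent.LieClassical.OrthSimple Cfsg.Agent.LieClassical.OrthFinite
open Cfsg.Agent.LieClassical.OrthForms
open Cfsg.Agent.TitsThree.KSideO Cfsg.Agent.TitsThree.StdData Cfsg.Agent.TitsThree.WBridge

variable {F : Type*} [Field F] [Finite F]

/-- **`Ω⁻_{2m+2}(q)`, `m ≥ 3`, `q ≥ 4` even.** -/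
theorem hasOneL_minus (h2 : (2 : F) = 0) (hs : ∃ s : F, s ≠ 0 ∧ s ≠ 1) {m : ℕ} (hm : 3 ≤ m) (a b : F)
    (hab : ∀ z₁ z₂ : F, z₁ ^ 2 + a * z₁ * z₂ + b * z₂ ^ 2 = 0 → z₁ = 0 ∧ z₂ = 0) :
    HasOneL (Cfsg.POmega F ⇑(minusForm m F a b)) := by
  have : CharP F 2 := CharTwo.of_one_ne_zero_of_two_eq_zero one_ne_zero h2
  have : Fact (Nat.Prime 2) := ⟨Nat.prime_two⟩
  have hm2 : 2 ≤ m := by omega
  have O := KFacts.SpecMinus.orth_minus h2 m a b hab
  have hA := KFacts.SpecMinus.ambT_minus h2 hm2 a b hab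
  obtain ⟨p0, hp0⟩ := O.p0
  let cs := (CoxeterMatrix.B m).toCoxeterSystem
  have R := Nodes.WittAll.rgdC_model (KFacts.SpecMinus.modelMinus hm2 a b hab) hA hp0 cs
  have hW : Finite (CoxeterMatrix.B m).Group := Nodes.TypeC.finite_W cs
  -- the dominant long root
  let x : Fin m × Bool := (⟨0, by omega⟩, true)
  let y : Fin m × Bool := (⟨1, by omega⟩, true)
  have hxy : x.1 ≠ y.1 := by
    intro h
    have := congrArg Fin.val h
    simp [x, y] at this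
  have hr0 : rt x y ∈ RB m := rt_mem_RB hxy
  obtain ⟨w, hw⟩ := (SheetMinus.lr_of_RB _ O R hr0).exists_dominant
  have hr : rep cs (isCartan m) w (rt x y) ∈ RB m := act_RB cs hr0 w
  refine ⟨m, CoxeterMatrix.B m, _, isCartan m, _, _, _, hW, R, rep cs (isCartan m) w (rt x y),
    { sheet := SheetMinus.sheetL_minus h2 hs hm a b hab cs R hr
      full := KFacts.SpecMinus.hasFull_model _ O hs hA cs hm hr
      dom := hw
      orth := orth_comb cs hm hr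
      two := fun c hc h0 hne => two_comb cs hr hc hne h0 }⟩

variable {G : Type*} [Group G] [Finite G]

end Minus

end Cfsg.Agent.OddHalf.DblR.OneMinus

end

-- merged: Cfsg.Agent.OddHalf.DblR.OneRow
section

/-!
# ODD, D4, rows `two.e6te`, `two.ome`: the glue (helper552)

* `HasOneL.innSyl` : (F1) for a group with `OneL`;
* **`row_of_one`** : a row from `HasOneL` and `Free.BFacts`;
* **`row_e6te`**, **`row_ome`** : the rows of `²E₆(2^a)`, `Ω⁻_{2m}(2^a)`, `a ≥ 2`, from `Free.BFacts`.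
-/

set_option autoImplicit false
set_option linter.unusedSectionVars false

namespace Cfsg.Agent.OddHalf.DblR.OneRow

open CoxeterSystem Cfsg.Agent.ChevalleyStructure.CoxeterGeom Cfsg.Agent.Nodes.BNOf
open Cfsg.Agent.OddHalf.DblR.OneLong
open Cfsg.Agent.OddHalf.D4 (Rk2 FullPair Cut.Row1)
open scoped commutatorElement

universe u

/-- (F1) is invariant under isomorphism. -/
theorem innSyl_congr {X Y : Type*} [Group X] [Group Y] (e : X ≃* Y) (h : D4.KPairG.InnSyl X) :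
    D4.KPairG.InnSyl Y := by
  rintro S φ ⟨k, hk⟩ hφ
  let S' : Sylow 2 X := S.comapOfInjective e.toMonoidHom e.injective (by
    rintro y -
    exact ⟨e.symm y, by simp⟩)
  have hS' : ∀ x : X, x ∈ S' ↔ e x ∈ S := fun x => Iff.rfl
  let ψ : MulAut X := (e.trans φ).trans e.symm
  have hψ : ∀ x, ψ x = e.symm (φ (e x)) := fun x => rfl
  have hpow : ∀ (j : ℕ) (x : X), (ψ ^ j) x = e.symm ((φ ^ j) (e x)) := by
    intro j
    induction j with
    | zero => intro x; simp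
    | succ j ih => intro x; rw [pow_succ, MulAut.mul_apply, ih, hψ, MulEquiv.apply_symm_apply, pow_succ,
        MulAut.mul_apply]
  obtain ⟨s, hs, e1⟩ := h S' ψ ⟨k, by
    ext x
    rw [hpow, hk]
    simp⟩ (by
    intro s hs
    rw [hψ, hφ _ ((hS' s).1 hs), MulEquiv.symm_apply_apply])
  refine ⟨e s, (hS' s).1 hs, ?_⟩
  ext y
  have h1 := congrArg (fun α : MulAut X => e (α (e.symm y))) e1
  simpa only [hψ, MulAut.conj_apply, _root_.MulEquiv.apply_symm_apply, _root_.map_mul, _root_.map_inv] using h1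

section

variable {I W Y : Type*} [Fintype I] [DecidableEq I] [Group W] [Group Y] {M : CoxeterMatrix I}
  {cs : CoxeterSystem M W} {A : I → I → ℤ} {h : IsCartan M A} {T : Subgroup Y} {n : I → Y}
  {X : (I → ℤ) → Subgroup Y}

/-- (F1), no condition on the order of the automorphism -/
theorem oneL_inner [Finite W] [Finite Y] {R : RGD cs h 2 T n X} {r : I → ℤ} (O : OneL R r) (S : Sylow 2 Y)
    (φ : MulAut Y) (hφ : ∀ s ∈ S, φ s = s) : ∃ s ∈ S, φ = MulAut.conj s := by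
  obtain ⟨S₀, hS₀⟩ := Cfsg.Agent.KFacts.RgdAutFacts.exists_sylow R O.GG_top
  obtain ⟨g, hg⟩ := MulAction.exists_smul_eq Y S₀ S
  have hmem : ∀ u, u ∈ RGD.Sup X (RGD.Pos cs h) → g * u * g⁻¹ ∈ S := by
    intro u hu
    rw [← hg]
    show g * u * g⁻¹ ∈ ((g • S₀ : Sylow 2 Y) : Subgroup Y)
    rw [Sylow.coe_subgroup_smul, Subgroup.mem_pointwise_smul_iff_inv_smul_mem]
    have h1 : (MulAut.conj g)⁻¹ • (g * u * g⁻¹) = u := by
      show (MulAut.conj g)⁻¹ (g * u * g⁻¹) = u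
      rw [MulAut.conj_inv_apply]; group
    rw [h1, hS₀]
    exact hu
  obtain ⟨x, hx, e⟩ := O.cen (MulAut.conj g⁻¹ * φ * MulAut.conj g) (by
    intro u hu
    show g⁻¹ * φ (g * u * g⁻¹) * g⁻¹⁻¹ = u
    rw [hφ _ (hmem u hu)]; group)
  have hx' : x ∈ RGD.Sup X (RGD.Pos cs h) := RGD.le_Sup (X := X) (S := RGD.Pos cs h) ⟨O.root, O.r_pos⟩ hx
  refine ⟨g * x * g⁻¹, hmem x hx', ?_⟩
  have h2 : φ = MulAut.conj g * (MulAut.conj g⁻¹ * φ * MulAut.conj g) * MulAut.conj g⁻¹ := by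
    rw [map_inv]; group
  rw [h2, e, ← map_mul, ← map_mul]

end

/-- **(F1)** -/
theorem hasOneL_innSyl {Y : Type*} [Group Y] [Finite Y] (hY : HasOneL Y) : D4.KPairG.InnSyl Y := by
  obtain ⟨l, M, A, h, T, n, X, hM, R, r, O⟩ := hY
  exact fun S φ _ hφ => oneL_inner O S φ hφ

/-- **A row from `HasOneL` and `Free.BFacts`.** -/
theorem row_of_one (h1173 : D4.Start.P1173.{u}) (hFT : D4.StartQ.FTT.{u}) {P : (K : Type u) → [Group K] → Prop}
    (hP : ∀ (X : Type u) [Group X], P X → ∃ (Y : Type) (_ : Group Y), IsSimpleGroup Y ∧ HasOneL Y ∧ Nonempty (X ≃* Y) ∧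
      ∀ (G : Type u) [Group G] [Finite G] (K : Subgroup G), Nonempty (Y ≃* ↥K) → D4.Free.BFacts K) :
    D4.Cut.Row1.{u} P := by
  refine D4.StartQ.row_of_free' h1173 hFT ?_ ?_ ?_
  · intro X _ _ _ hX
    obtain ⟨Y, _, -, hY, ⟨e⟩, -⟩ := hP X hX
    have : Finite Y := Finite.of_equiv _ e.toEquiv
    exact innSyl_congr e.symm (hasOneL_innSyl hY)
  · intro G _ hG K hK hD hPK L Q U hp S hS hSL
    have := hG.fin
    obtain ⟨Y, _, _, hY, ⟨e⟩, -⟩ := hP ↥K hPK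
    have : Finite Y := Finite.of_equiv _ e.toEquiv
    exact hY.false_of_pair e.symm hD.tight hD.rk hD.std hD.core hp hS hSL
  · intro G _ hG K hK hD hPK g
    have := hG.fin
    obtain ⟨Y, _, -, -, ⟨e⟩, hB⟩ := hP ↥K hPK
    exact hB G _ ⟨e.symm.trans (K.equivMapOfInjective (MulAut.conj g).toMonoidHom (MulAut.conj g).injective)⟩

/-- **D4, the row of `²E₆(2^a)`, `a ≥ 2`, from `Free.BFacts`.** -/
theorem row_e6te (h1173 : D4.Start.P1173.{u}) (hFT : D4.StartQ.FTT.{u})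
    (hB : ∀ (F : Type) [Field F] [Fintype F] (a : ℕ), 2 ≤ a → Fintype.card F = 4 ^ a →
      ∀ (G : Type u) [Group G] [Finite G] (K : Subgroup G), Nonempty (↥(Lie.twistedE6 F (2 ^ a)) ≃* ↥K) →
        D4.Free.BFacts K) : D4.Cut.Row1.{u} (fun K _ => D4.Cut.E6te K) := by
  refine row_of_one h1173 hFT ?_
  rintro X _ ⟨F, _, _, a, ha, hF, ⟨e⟩⟩
  exact ⟨_, _, OneTwE6.isSimple ha hF, OneTwE6.hasOneL_twE6 ha hF, ⟨e⟩, fun G _ _ K he => hB F a ha hF G K he⟩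

/-- **D4, the row of `Ω⁻_{2m}(2^a)`, `a ≥ 2`, `m ≥ 4`, from `Free.BFacts`.** -/
theorem row_ome (h1173 : D4.Start.P1173.{u}) (hFT : D4.StartQ.FTT.{u})
    (hB : ∀ (F : Type) [Field F] [Fintype F] (a m : ℕ) (b c : F), 2 ≤ a → Fintype.card F = 2 ^ a → 3 ≤ m →
      (∀ z₁ z₂ : F, z₁ ^ 2 + b * z₁ * z₂ + c * z₂ ^ 2 = 0 → z₁ = 0 ∧ z₂ = 0) →
      ∀ (G : Type u) [Group G] [Finite G] (K : Subgroup G),
        Nonempty (Cfsg.POmega F (Cfsg.quadFormMinus m F b c) ≃* ↥K) → D4.Free.BFacts K) :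
    D4.Cut.Row1.{u} (fun K _ => D4.Cut.Ome K) := by
  refine row_of_one h1173 hFT ?_
  rintro X _ ⟨F, _, _, a, m, b, c, ha, hF, hm, hbc, ⟨e⟩⟩
  have h2 : (2 : F) = 0 := by
    have h1 : ((Fintype.card F : ℕ) : F) = 0 := FiniteField.cast_card_eq_zero F
    rw [hF] at h1
    push_cast at h1
    exact eq_zero_of_pow_eq_zero h1
  have hs : ∃ s : F, s ≠ 0 ∧ s ≠ 1 := by
    classical
    have h1 : 2 < Fintype.card F := by
      rw [hF]
      calc 2 < 2 ^ 2 := by norm_num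
        _ ≤ 2 ^ a := Nat.pow_le_pow_right (by norm_num) ha
    obtain ⟨s, hs⟩ := Finset.exists_mem_notMem_of_card_lt_card (s := ({0, 1} : Finset F)) (t := Finset.univ)
      (lt_of_le_of_lt Finset.card_le_two (by rw [Finset.card_univ]; exact h1))
    refine ⟨s, fun h0 => hs.2 (by rw [h0]; simp only [_root_.Finset.mem_insert, _root_.Finset.mem_singleton, _root_.zero_ne_one, _root_.or_false]), fun h0 => hs.2 (by rw [h0]; simp only [_root_.Finset.mem_insert, _root_.one_ne_zero, _root_.Finset.mem_singleton, _root_.or_true])⟩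
  have hm1 : 3 ≤ m - 1 := by omega
  have hsimp := SheetMinus.simple_minus hm1 b c hbc
  have hY := OneMinus.hasOneL_minus h2 hs hm1 b c hbc
  rw [Cfsg.Agent.LieClassical.OrthForms.coe_minusForm] at hsimp hY
  exact ⟨_, _, hsimp, hY, ⟨e⟩, fun G _ _ K he => hB F a (m - 1) b c ha hF hm1 hbc G K he⟩

end Cfsg.Agent.OddHalf.DblR.OneRow

end
end
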