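import Cfsg.Agent.OddHalf.D4.Spor.MTwentyFour_m3
import Cfsg.Agent.KFacts.ChevTwoInst
import Cfsg.Agent.KFacts.RgdFiltChev
import Cfsg.Agent.FastGrp
import Cfsg.Agent.Prune
set_option linter.all false
open scoped Cfsg.Agent.FastGrp

-- part: OddHalf/D4/LineGTwo
section
/-!
# ODD, D4, (1B): lines in the unipotent group of `G_2(q)`, `q` even, abstract form (helper368)

`x 0, …, x 5` : the root elements of the roots `α` (short), `β` (long), `α+β`, `2α+β` (short), `3α+β`, `3α+2β` (long).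
`star0`, `star2`, `star3`: the star property of the short roots.
-/

set_option autoImplicit false
set_option linter.unusedSectionVars false

namespace Cfsg.Agent.OddHalf.D4.LineGTwo

open Subgroup

variable {Y K : Type*} [Group Y] [Field K]

/-- the relations -/
structure GU (x : Fin 6 → K → Y) : Prop where
  two : ∀ t : K, t + t = 0
  add : ∀ i t u, x i (t + u) = x i t * x i u
  ab : ∀ t u, x 0 u * x 1 t = x 2 (t * u) * x 3 (t * u ^ 2) * x 4 (t * u ^ 3) * (x 1 t * x 0 u)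
  eb : ∀ t u, x 4 u * x 1 t = x 5 (t * u) * (x 1 t * x 4 u)
  ca : ∀ t u, x 2 u * x 0 t = x 4 (t ^ 2 * u) * x 5 (t * u ^ 2) * (x 0 t * x 2 u)
  da : ∀ t u, x 3 u * x 0 t = x 4 (t * u) * (x 0 t * x 3 u)
  dc : ∀ t u, x 3 u * x 2 t = x 5 (t * u) * (x 2 t * x 3 u)
  c12 : ∀ t u, x 1 t * x 2 u = x 2 u * x 1 t
  c13 : ∀ t u, x 1 t * x 3 u = x 3 u * x 1 t
  c15 : ∀ t u, x 1 t * x 5 u = x 5 u * x 1 t
  c04 : ∀ t u, x 0 t * x 4 u = x 4 u * x 0 t
  c05 : ∀ t u, x 0 t * x 5 u = x 5 u * x 0 t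
  c24 : ∀ t u, x 2 t * x 4 u = x 4 u * x 2 t
  c25 : ∀ t u, x 2 t * x 5 u = x 5 u * x 2 t
  c34 : ∀ t u, x 3 t * x 4 u = x 4 u * x 3 t
  c35 : ∀ t u, x 3 t * x 5 u = x 5 u * x 3 t
  c45 : ∀ t u, x 4 t * x 5 u = x 5 u * x 4 t
  ind4 : ∀ s t, x 4 s * x 5 t = 1 → s = 0 ∧ t = 0
  ind2 : ∀ s t u v, x 2 s * x 3 t * x 4 u * x 5 v = 1 → s = 0

namespace GU

variable {x : Fin 6 → K → Y} (h : GU x)

include h

theorem zero (i : Fin 6) : x i 0 = 1 := by
  have h1 := h.add i 0 0
  rw [add_zero] at h1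
  exact (mul_eq_left.1 h1.symm)

theorem sq (i : Fin 6) (t : K) : x i t * x i t = 1 := by rw [← h.add, h.two, h.zero]

theorem inv (i : Fin 6) (t : K) : (x i t)⁻¹ = x i t := inv_eq_of_mul_eq_one_right (h.sq i t)

/-- the root group -/
def R (i : Fin 6) : Subgroup Y where
  carrier := {g | ∃ t, g = x i t}
  one_mem' := ⟨0, (h.zero i).symm⟩
  mul_mem' := by
    rintro _ _ ⟨a, rfl⟩ ⟨b, rfl⟩
    exact ⟨a + b, (h.add i a b).symm⟩
  inv_mem' := by
    rintro _ ⟨a, rfl⟩
    exact ⟨a, h.inv i a⟩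

/-- the unipotent group -/
def U : Subgroup Y := ⨆ i : Fin 6, h.R i

theorem U_induction {C : Y → Prop} {y : Y} (hy : y ∈ h.U) (mem : ∀ i t, C (x i t)) (one : C 1)
    (mul : ∀ y z, C y → C z → C (y * z)) : C y := by
  refine Subgroup.iSup_induction (fun i : Fin 6 => h.R i) (C := C) hy ?_ one mul
  rintro i _ ⟨t, rfl⟩
  exact mem i t

/-! ### Conjugation formulas -/

theorem conj_of_comm {i j : Fin 6} (hc : ∀ t u, x i t * x j u = x j u * x i t) (t u : K) :
    x i t * x j u * (x i t)⁻¹ = x j u := by rw [hc]; group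

theorem eb' (t u : K) : x 1 t * x 4 u * (x 1 t)⁻¹ = x 4 u * x 5 (t * u) := by
  have h1 := h.eb t u
  calc x 1 t * x 4 u * (x 1 t)⁻¹ = (x 5 (t * u))⁻¹ * (x 5 (t * u) * (x 1 t * x 4 u)) * (x 1 t)⁻¹ := by group
    _ = (x 5 (t * u))⁻¹ * (x 4 u * x 1 t) * (x 1 t)⁻¹ := by rw [h1]
    _ = x 5 (t * u) * x 4 u := by rw [h.inv]; group
    _ = x 4 u * x 5 (t * u) := (h.c45 u (t * u)).symm

/-! ### The root `α` -/

/-- the group without `β`-part -/
def P : Subgroup Y := ⨆ i : {i : Fin 6 // i ≠ 1}, h.R i.1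

theorem mem_P {i : Fin 6} (hi : i ≠ 1) (t : K) : x i t ∈ h.P :=
  (le_iSup (fun i : {i : Fin 6 // i ≠ 1} => h.R i.1) ⟨i, hi⟩) ⟨t, rfl⟩

theorem ab' (t u : K) : x 1 t * x 0 u * (x 1 t)⁻¹ =
    (x 2 (t * u) * x 3 (t * u ^ 2) * x 4 (t * u ^ 3))⁻¹ * x 0 u := by
  have h1 := h.ab t u
  calc x 1 t * x 0 u * (x 1 t)⁻¹ = (x 2 (t * u) * x 3 (t * u ^ 2) * x 4 (t * u ^ 3))⁻¹ *
        (x 2 (t * u) * x 3 (t * u ^ 2) * x 4 (t * u ^ 3) * (x 1 t * x 0 u)) * (x 1 t)⁻¹ := by group
    _ = (x 2 (t * u) * x 3 (t * u ^ 2) * x 4 (t * u ^ 3))⁻¹ * (x 0 u * x 1 t) * (x 1 t)⁻¹ := by rw [h1]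
    _ = _ := by group

theorem P_norm (t : K) {z : Y} (hz : z ∈ h.P) : x 1 t * z * (x 1 t)⁻¹ ∈ h.P := by
  refine Subgroup.iSup_induction (fun i : {i : Fin 6 // i ≠ 1} => h.R i.1)
    (C := fun z => x 1 t * z * (x 1 t)⁻¹ ∈ h.P) hz ?_ ?_ ?_
  · rintro ⟨i, hi⟩ _ ⟨u, rfl⟩
    fin_cases i
    · show x 1 t * x 0 u * (x 1 t)⁻¹ ∈ h.P
      rw [h.ab']
      exact mul_mem (inv_mem (mul_mem (mul_mem (h.mem_P (by decide) _) (h.mem_P (by decide) _))
        (h.mem_P (by decide) _))) (h.mem_P (by decide) _)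
    · exact absurd rfl hi
    · show x 1 t * x 2 u * (x 1 t)⁻¹ ∈ h.P
      rw [h.conj_of_comm h.c12]
      exact h.mem_P (by decide) _
    · show x 1 t * x 3 u * (x 1 t)⁻¹ ∈ h.P
      rw [h.conj_of_comm h.c13]
      exact h.mem_P (by decide) _
    · show x 1 t * x 4 u * (x 1 t)⁻¹ ∈ h.P
      rw [h.eb']
      exact mul_mem (h.mem_P (by decide) _) (h.mem_P (by decide) _)
    · show x 1 t * x 5 u * (x 1 t)⁻¹ ∈ h.P
      rw [h.conj_of_comm h.c15]
      exact h.mem_P (by decide) _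
  · simp
  · intro y z hy hz
    have e : x 1 t * (y * z) * (x 1 t)⁻¹ = x 1 t * y * (x 1 t)⁻¹ * (x 1 t * z * (x 1 t)⁻¹) := by group
    rw [e]
    exact mul_mem hy hz

theorem exists_decomp {y : Y} (hy : y ∈ h.U) : ∃ s, ∃ z ∈ h.P, y = x 1 s * z := by
  refine h.U_induction (C := fun y => ∃ s, ∃ z ∈ h.P, y = x 1 s * z) hy ?_ ?_ ?_
  · intro i t
    by_cases hi : i = 1
    · subst hi
      exact ⟨t, 1, one_mem _, by rw [mul_one]⟩
    · exact ⟨0, x i t, h.mem_P hi t, by rw [h.zero, one_mul]⟩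
  · exact ⟨0, 1, one_mem _, by rw [h.zero, one_mul]⟩
  · rintro _ _ ⟨s, z, hz, rfl⟩ ⟨s', z', hz', rfl⟩
    refine ⟨s + s', (x 1 s')⁻¹ * z * x 1 s' * z', mul_mem ?_ hz', ?_⟩
    · have := h.P_norm s' hz
      rw [h.inv] at this
      rw [h.inv]
      exact this
    · rw [h.add]; group

end GU

end Cfsg.Agent.OddHalf.D4.LineGTwo
end

-- part: OddHalf/D4/LineGTwoInst
section
/-!
# ODD, D4, (1B): the K-fact `LineFacts` for `G_2(q)`, `q ≥ 4` even (helper368)
-/

set_option autoImplicit false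
set_option linter.unusedSectionVars false

namespace Cfsg.Agent.OddHalf.D4.LineGTwoInst

open Subgroup CoxeterSystem Cfsg.Agent.ChevalleyStructure.CoxeterGeom Cfsg.Agent.Tits.Roots Cfsg.Agent.Tits.Core
  Cfsg.Agent.Nodes.Reps Cfsg.Agent.Nodes.BNOf Cfsg.Agent.Nodes.Bruhat Cfsg.Agent.Nodes
  Cfsg.Agent.Nodes.Coroot Cfsg.Agent.KFacts.ChevTwoInst Cfsg.Agent.KFacts.ChevTwoTab
  Cfsg.Agent.KFacts.RgdTI Cfsg.Agent.KFacts.RgdFilt Cfsg.Agent.KFacts.RgdBorelTits
  Cfsg.Agent.OddHalf.D4.Line Cfsg.Agent.OddHalf.D4.LineFilt Cfsg.Agent.OddHalf.D4.LineRgd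
  Cfsg.Agent.OddHalf.D4.LineGTwo
open Cfsg.Lie Cfsg.Agent.ChevalleyStructure Cfsg.Agent.ChevalleyStructure.Elts
  Cfsg.Agent.ChevalleyStructure.RootVec Cfsg.Agent.ChevalleyStructure.RootVecTab
  Cfsg.Agent.ChevalleyStructure.NPerm Cfsg.Agent.ChevalleyStructure.CoxeterGeomTypes Cfsg.Agent.Nodes.RGDChev
open scoped commutatorElement

universe u

/-- The Chevalley commutator formula in the group. -/
theorem intComm_group {D : ChevalleyDatum} {l : ℕ} {M : CoxeterMatrix (Fin l)} (hp : IsType D l M) (K : Type u)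
    [Field K] {W : Type*} [Group W] (cs : CoxeterSystem M W) :
    IntComm cs hp.isCartan (fun x => (XV D l K x).subgroupOf (D.group K)) := by
  intro x y hx hy hxy hxy' a ha b hb
  have h1 := Cfsg.Agent.KFacts.RgdFiltChev.intComm_GL (K := K) hp cs x y hx hy hxy hxy' a ha b hb
  have h3 : FS (fun z => (XV D l K z).subgroupOf (D.group K)) {z | IB cs hp.isCartan x y z} =
      (FS (XV D l K) {z | IB cs hp.isCartan x y z}).subgroupOf (D.group K) := by
    unfold FS
    rw [Nodes.RGDLib.iSup_subgroupOf]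
    rintro ⟨z, hz⟩
    exact XV_le_group hp _
  rw [h3, Subgroup.mem_subgroupOf]
  exact h1

theorem isType : IsType chevG2 2 CoxeterMatrix.G₂ := by simp [IsType, typeList]

section

variable {K : Type u} [Field K]

/-- the root elements in the group -/
def xg (K : Type u) [Field K] (r : ℕ) (t : K) : ↥(chevG2.group K) :=
  ⟨xG isType.inList r t, xG_mem_group isType.inList r t⟩

/-- the positive root elements -/
def xs (K : Type u) [Field K] : Fin 6 → K → ↥(chevG2.group K) :=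
  ![xg K 7, xg K 6, xg K 8, xg K 9, xg K 10, xg K 11]

theorem tab_comm : ∀ p ∈ [(7, 10), (7, 11), (6, 8), (6, 9), (6, 11), (8, 10), (8, 11), (9, 10), (9, 11), (10, 11)],
    (chevG2.commTerms p.1 p.2).filter (fun c => c.2.1 % 2 ≠ 0) = [] := by decide +kernel

theorem tab67 : (chevG2.commTerms 6 7).filter (fun c => c.2.1 % 2 ≠ 0) = [(8, 1, 1, 1), (9, 1, 1, 2), (10, -1, 1, 3)] := by
  decide +kernel

theorem tab610 : (chevG2.commTerms 6 10).filter (fun c => c.2.1 % 2 ≠ 0) = [(11, 1, 1, 1)] := by decide +kernel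

theorem tab78 : (chevG2.commTerms 7 8).filter (fun c => c.2.1 % 2 ≠ 0) = [(10, -3, 2, 1), (11, 3, 1, 2)] := by
  decide +kernel

theorem tab79 : (chevG2.commTerms 7 9).filter (fun c => c.2.1 % 2 ≠ 0) = [(10, 3, 1, 1)] := by decide +kernel

theorem tab89 : (chevG2.commTerms 8 9).filter (fun c => c.2.1 % 2 ≠ 0) = [(11, 3, 1, 1)] := by decide +kernel

theorem tab_neg : ∀ r ∈ List.range 6, chevG2.neg (r + 6) < 6 := by decide +kernel

theorem nroots_eq : chevG2.nroots = 12 := by decide +kernel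

theorem ne_neg {r s : ℕ} (hr : 6 ≤ r) (hr' : r < 12) (hs : 6 ≤ s) : s ≠ chevG2.neg r := by
  have h1 := tab_neg (r - 6) (List.mem_range.2 (by omega))
  rw [show r - 6 + 6 = r by omega] at h1
  omega

variable [CharP K 2]

theorem two0 (t : K) : t + t = 0 := CharTwo.add_self_eq_zero t

theorem rel {r s : ℕ} (hr : 6 ≤ r) (hr' : r < 12) (hs : 6 ≤ s) (hs' : s < 12) (hrs : s ≠ r) (t u : K) :
    xG isType.inList s u * xG isType.inList r t =
      wordG isType.inList (((chevG2.commTerms r s).filter fun c => c.2.1 % 2 ≠ 0).map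
        fun c => (c.1, t ^ c.2.2.1 * u ^ c.2.2.2)) * (xG isType.inList r t * xG isType.inList s u) := by
  rw [← comm_word isType two0 (by rw [nroots_eq]; exact hr') (by rw [nroots_eq]; exact hs') hrs (ne_neg hr hr' hs),
    commutatorElement_def]
  group

theorem comm_rs {r s : ℕ} (hr : 6 ≤ r) (hr' : r < 12) (hs : 6 ≤ s) (hs' : s < 12) (hrs : s ≠ r)
    (h0 : (chevG2.commTerms r s).filter (fun c => c.2.1 % 2 ≠ 0) = []) (t u : K) :
    xg K r t * xg K s u = xg K s u * xg K r t := by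
  apply Subtype.ext
  have h1 := rel hr hr' hs hs' hrs t u
  rw [h0] at h1
  simp only [List.map_nil] at h1
  have h2 : wordG isType.inList ([] : List (ℕ × K)) = 1 := rfl
  rw [h2, one_mul] at h1
  exact h1.symm

theorem rel_rs {r s : ℕ} (hr : 6 ≤ r) (hr' : r < 12) (hs : 6 ≤ s) (hs' : s < 12) (hrs : s ≠ r) (t u : K)
    (w : ↥(chevG2.group K)) (hw : (w : GL chevG2.Idx K) = wordG isType.inList
      (((chevG2.commTerms r s).filter fun c => c.2.1 % 2 ≠ 0).map fun c => (c.1, t ^ c.2.2.1 * u ^ c.2.2.2))) :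
    xg K s u * xg K r t = w * (xg K r t * xg K s u) := by
  apply Subtype.ext
  show xG isType.inList s u * xG isType.inList r t = (w : GL chevG2.Idx K) * (xG isType.inList r t * xG isType.inList s u)
  rw [rel hr hr' hs hs' hrs t u, hw]

theorem ab (t u : K) : xg K 7 u * xg K 6 t = xg K 8 (t * u) * xg K 9 (t * u ^ 2) * xg K 10 (t * u ^ 3) *
    (xg K 6 t * xg K 7 u) := by
  refine rel_rs (by norm_num) (by norm_num) (by norm_num) (by norm_num) (by norm_num) t u _ ?_
  rw [tab67]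
  show xG isType.inList 8 _ * xG isType.inList 9 _ * xG isType.inList 10 _ = _
  simp only [List.map_cons, List.map_nil, wordG_cons, wordG_nil, mul_one, mul_assoc, pow_one]

theorem eb (t u : K) : xg K 10 u * xg K 6 t = xg K 11 (t * u) * (xg K 6 t * xg K 10 u) := by
  refine rel_rs (by norm_num) (by norm_num) (by norm_num) (by norm_num) (by norm_num) t u _ ?_
  rw [tab610]
  show xG isType.inList 11 _ = _
  simp only [List.map_cons, List.map_nil, wordG_cons, wordG_nil, mul_one, pow_one]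

theorem ca (t u : K) : xg K 8 u * xg K 7 t = xg K 10 (t ^ 2 * u) * xg K 11 (t * u ^ 2) * (xg K 7 t * xg K 8 u) := by
  refine rel_rs (by norm_num) (by norm_num) (by norm_num) (by norm_num) (by norm_num) t u _ ?_
  rw [tab78]
  show xG isType.inList 10 _ * xG isType.inList 11 _ = _
  simp only [List.map_cons, List.map_nil, wordG_cons, wordG_nil, mul_one, pow_one]

theorem da (t u : K) : xg K 9 u * xg K 7 t = xg K 10 (t * u) * (xg K 7 t * xg K 9 u) := by
  refine rel_rs (by norm_num) (by norm_num) (by norm_num) (by norm_num) (by norm_num) t u _ ?_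
  rw [tab79]
  show xG isType.inList 10 _ = _
  simp only [List.map_cons, List.map_nil, wordG_cons, wordG_nil, mul_one, pow_one]

theorem dc (t u : K) : xg K 9 u * xg K 8 t = xg K 11 (t * u) * (xg K 8 t * xg K 9 u) := by
  refine rel_rs (by norm_num) (by norm_num) (by norm_num) (by norm_num) (by norm_num) t u _ ?_
  rw [tab89]
  show xG isType.inList 11 _ = _
  simp only [List.map_cons, List.map_nil, wordG_cons, wordG_nil, mul_one, pow_one]

theorem xg_add (r : ℕ) (t u : K) : xg K r (t + u) = xg K r t * xg K r u := Subtype.ext (xG_add isType.inList _ _ _).symm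

theorem xg_inj {r : ℕ} (hr : r < 12) {t : K} (h : xg K r t = 1) : t = 0 :=
  (xG_eq_one_iff isType.inList (by rw [nroots_eq]; exact hr) t).1 (congrArg Subtype.val h)

end

/-! ### Positive roots -/

abbrev A := cartanOf chevG2 2

abbrev CS := CoxeterMatrix.G₂.toCoxeterSystem

theorem tab_pos : ∀ r ∈ List.range 6, 0 ≤ rt chevG2 (r + 6) 0 ∧ 0 ≤ rt chevG2 (r + 6) 1 := by decide +kernel

theorem tab_negc : ∀ r ∈ List.range 6, rt chevG2 r 0 < 0 ∨ rt chevG2 r 1 < 0 := by decide +kernel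

theorem tab_ht : rt chevG2 6 0 + rt chevG2 6 1 = 1 ∧ rt chevG2 7 0 + rt chevG2 7 1 = 1 ∧
    rt chevG2 8 0 + rt chevG2 8 1 = 2 ∧ rt chevG2 9 0 + rt chevG2 9 1 = 3 ∧ rt chevG2 10 0 + rt chevG2 10 1 = 4 ∧
    rt chevG2 11 0 + rt chevG2 11 1 = 5 := by decide +kernel

theorem lt_nroots {r : ℕ} (hr : r < 12) : r < chevG2.nroots := by rw [nroots_eq]; exact hr

theorem pos_vec {r : ℕ} (hr : 6 ≤ r) (hr' : r < 12) : vec chevG2 2 r ∈ RGD.Pos CS isType.isCartan := by
  refine ⟨isRoot_vec isType CS (lt_nroots hr'), ?_⟩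
  have h1 := tab_pos (r - 6) (List.mem_range.2 (by omega))
  rw [show r - 6 + 6 = r by omega] at h1
  intro i
  fin_cases i
  · exact h1.1
  · exact h1.2

theorem pos_iff {x : Fin 2 → ℤ} (hx : x ∈ RGD.Pos CS isType.isCartan) : ∃ r, 6 ≤ r ∧ r < 12 ∧ x = vec chevG2 2 r := by
  obtain ⟨r, hr, rfl⟩ := (isRoot_iff isType CS x).1 hx.1
  rw [nroots_eq] at hr
  refine ⟨r, ?_, hr, rfl⟩
  by_contra h6
  have h1 := tab_negc r (List.mem_range.2 (by omega))
  have h2 : 0 ≤ rt chevG2 r 0 := hx.2 0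
  have h3 : 0 ≤ rt chevG2 r 1 := hx.2 1
  omega

theorem ht_vec (r : ℕ) : LineRgd.ht (vec chevG2 2 r) = rt chevG2 r 0 + rt chevG2 r 1 := by
  rw [ht_apply, Fin.sum_univ_two]
  rfl

/-! ### Long roots -/

theorem tab_long : ∀ r ∈ [6, 10, 11], ∀ s ∈ List.range 12, s = r ∨ s = chevG2.neg r ∨ carB chevG2 r s < 0 ∨
    (chevG2.commTerms r s).filter (fun c => c.2.1 % 2 ≠ 0) = [] := by decide +kernel

theorem tab_self : ∀ r ∈ List.range 12, carB chevG2 r (chevG2.neg r) = -2 := by decide +kernel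

section

variable (K : Type u) [Field K] [CharP K 2]

/-- the root groups -/
abbrev XX (x : Fin 2 → ℤ) : Subgroup ↥(chevG2.group K) := (XV chevG2 2 K x).subgroupOf (chevG2.group K)

variable {K}

theorem mem_XX {r : ℕ} (hr : r < 12) {g : ↥(chevG2.group K)} : g ∈ XX K (vec chevG2 2 r) ↔ ∃ t, g = xg K r t := by
  rw [Subgroup.mem_subgroupOf, XV_vec isType K (lt_nroots hr), mem_rootSubgroup_iff isType.inList]
  constructor
  · rintro ⟨t, ht⟩
    exact ⟨t, Subtype.ext ht⟩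
  · rintro ⟨t, rfl⟩
    exact ⟨t, rfl⟩

theorem xg_self (r : ℕ) (t u : K) : xg K r t * xg K r u = xg K r u * xg K r t := by
  rw [← xg_add, add_comm, xg_add]

theorem long [Finite K] {r : ℕ} (hr : r ∈ [6, 10, 11]) : LR (rgd (K := K) isType CS 2) (vec chevG2 2 r) := by
  have hr12 : r < 12 := by
    simp only [List.mem_cons, List.not_mem_nil, or_false] at hr
    omega
  refine ⟨isRoot_vec isType CS (lt_nroots hr12), ?_⟩
  intro x hx h0 u hu v hv
  obtain ⟨s, hs, rfl⟩ := (isRoot_iff isType CS x).1 hx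
  have hs12 : s < 12 := by rwa [nroots_eq] at hs
  obtain ⟨t, rfl⟩ := (mem_XX hs12).1 hu
  obtain ⟨w, rfl⟩ := (mem_XX hr12).1 hv
  rw [cpr_vec isType CS (lt_nroots hr12) s hs, ← carB_eq] at h0
  rcases tab_long r hr s (List.mem_range.2 hs12) with h1 | h1 | h1 | h1
  · subst h1
    exact xg_self _ _ _
  · subst h1
    rw [tab_self r (List.mem_range.2 hr12)] at h0
    omega
  · omega
  · by_cases hsr : s = r
    · subst hsr
      exact xg_self _ _ _
    by_cases hsn : s = chevG2.neg r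
    · subst hsn
      rw [tab_self r (List.mem_range.2 hr12)] at h0
      omega
    apply Subtype.ext
    have h2 := comm_word isType two0 (lt_nroots hr12) hs hsr hsn w t
    rw [h1] at h2
    simp only [List.map_nil, wordG_nil] at h2
    exact (commutatorElement_eq_one_iff_mul_comm.1 h2)

theorem gu [Finite K] : GU (xs K) where
  two := two0
  add i t u := by fin_cases i <;> exact xg_add _ _ _
  ab := ab
  eb := eb
  ca := ca
  da := da
  dc := dc
  c12 := comm_rs (r := 6) (s := 8) (by norm_num) (by norm_num) (by norm_num) (by norm_num) (by norm_num)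
    (tab_comm (6, 8) (by simp))
  c13 := comm_rs (r := 6) (s := 9) (by norm_num) (by norm_num) (by norm_num) (by norm_num) (by norm_num)
    (tab_comm (6, 9) (by simp))
  c15 := comm_rs (r := 6) (s := 11) (by norm_num) (by norm_num) (by norm_num) (by norm_num) (by norm_num)
    (tab_comm (6, 11) (by simp))
  c04 := comm_rs (r := 7) (s := 10) (by norm_num) (by norm_num) (by norm_num) (by norm_num) (by norm_num)
    (tab_comm (7, 10) (by simp))
  c05 := comm_rs (r := 7) (s := 11) (by norm_num) (by norm_num) (by norm_num) (by norm_num) (by norm_num)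
    (tab_comm (7, 11) (by simp))
  c24 := comm_rs (r := 8) (s := 10) (by norm_num) (by norm_num) (by norm_num) (by norm_num) (by norm_num)
    (tab_comm (8, 10) (by simp))
  c25 := comm_rs (r := 8) (s := 11) (by norm_num) (by norm_num) (by norm_num) (by norm_num) (by norm_num)
    (tab_comm (8, 11) (by simp))
  c34 := comm_rs (r := 9) (s := 10) (by norm_num) (by norm_num) (by norm_num) (by norm_num) (by norm_num)
    (tab_comm (9, 10) (by simp))
  c35 := comm_rs (r := 9) (s := 11) (by norm_num) (by norm_num) (by norm_num) (by norm_num) (by norm_num)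
    (tab_comm (9, 11) (by simp))
  c45 := comm_rs (r := 10) (s := 11) (by norm_num) (by norm_num) (by norm_num) (by norm_num) (by norm_num)
    (tab_comm (10, 11) (by simp))
  ind4 s t hst := by
    have hW : Finite CoxeterMatrix.G₂.Group := finite_W isType CS
    have h1 := X_inf_V (rgd (K := K) isType CS 2) (intComm_group isType K CS) (pos_vec (r := 10) (by norm_num) (by norm_num))
      (d := 5) (by rw [ht_vec, tab_ht.2.2.2.2.1]; norm_num)
    have h11 : xg K 11 t ∈ V (Yp (cs := CS) (h := isType.isCartan) (XX K)) wt 5 :=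
      X_le_V (pos_vec (r := 11) (by norm_num) (by norm_num)) (by rw [ht_vec, tab_ht.2.2.2.2.2]; norm_num)
        ((mem_XX (by norm_num)).2 ⟨t, rfl⟩)
    have h2 : xg K 10 s * xg K 11 t = 1 := hst
    have h3 : xg K 10 s ∈ XX K (vec chevG2 2 10) ⊓ V (Yp (cs := CS) (h := isType.isCartan) (XX K)) wt 5 := by
      refine ⟨(mem_XX (by norm_num)).2 ⟨s, rfl⟩, ?_⟩
      have h4 : xg K 10 s = (xg K 11 t)⁻¹ := eq_inv_of_mul_eq_one_left h2
      rw [h4]
      exact (V (Yp (cs := CS) (h := isType.isCartan) (XX K)) wt 5).inv_mem h11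
    rw [h1, Subgroup.mem_bot] at h3
    have h4 := xg_inj (by norm_num) h3
    rw [h3, one_mul] at h2
    exact ⟨h4, xg_inj (by norm_num) h2⟩
  ind2 s t u v hst := by
    have hW : Finite CoxeterMatrix.G₂.Group := finite_W isType CS
    have h1 := X_inf_V (rgd (K := K) isType CS 2) (intComm_group isType K CS) (pos_vec (r := 8) (by norm_num) (by norm_num))
      (d := 3) (by rw [ht_vec, tab_ht.2.2.1]; norm_num)
    have h9 : xg K 9 t ∈ V (Yp (cs := CS) (h := isType.isCartan) (XX K)) wt 3 :=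
      X_le_V (pos_vec (r := 9) (by norm_num) (by norm_num)) (by rw [ht_vec, tab_ht.2.2.2.1]; norm_num)
        ((mem_XX (by norm_num)).2 ⟨t, rfl⟩)
    have h10 : xg K 10 u ∈ V (Yp (cs := CS) (h := isType.isCartan) (XX K)) wt 3 :=
      X_le_V (pos_vec (r := 10) (by norm_num) (by norm_num)) (by rw [ht_vec, tab_ht.2.2.2.2.1]; norm_num)
        ((mem_XX (by norm_num)).2 ⟨u, rfl⟩)
    have h11 : xg K 11 v ∈ V (Yp (cs := CS) (h := isType.isCartan) (XX K)) wt 3 :=
      X_le_V (pos_vec (r := 11) (by norm_num) (by norm_num)) (by rw [ht_vec, tab_ht.2.2.2.2.2]; norm_num)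
        ((mem_XX (by norm_num)).2 ⟨v, rfl⟩)
    have h2 : xg K 8 s * (xg K 9 t * xg K 10 u * xg K 11 v) = 1 := by
      have h0 : xg K 8 s * xg K 9 t * xg K 10 u * xg K 11 v = 1 := hst
      rw [← h0]
      group
    have h3 : xg K 8 s ∈ XX K (vec chevG2 2 8) ⊓ V (Yp (cs := CS) (h := isType.isCartan) (XX K)) wt 3 := by
      refine ⟨(mem_XX (by norm_num)).2 ⟨s, rfl⟩, ?_⟩
      have h4 : xg K 8 s = (xg K 9 t * xg K 10 u * xg K 11 v)⁻¹ := eq_inv_of_mul_eq_one_left h2
      rw [h4]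
      exact (V (Yp (cs := CS) (h := isType.isCartan) (XX K)) wt 3).inv_mem (mul_mem (mul_mem h9 h10) h11)
    rw [h1, Subgroup.mem_bot] at h3
    exact xg_inj (by norm_num) h3

theorem Upos_le [Finite K] : RGD.Sup (XX K) (RGD.Pos CS isType.isCartan) ≤ (gu (K := K)).U := by
  refine RGD.Sup_le fun x hx => ?_
  obtain ⟨r, hr, hr', rfl⟩ := pos_iff hx
  intro g hg
  obtain ⟨t, rfl⟩ := (mem_XX hr').1 hg
  have key : ∀ i : Fin 6, xs K i t ∈ (gu (K := K)).U := fun i => le_iSup (fun i : Fin 6 => (gu (K := K)).R i) i ⟨t, rfl⟩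
  have : r = 6 ∨ r = 7 ∨ r = 8 ∨ r = 9 ∨ r = 10 ∨ r = 11 := by omega
  rcases this with rfl | rfl | rfl | rfl | rfl | rfl
  exacts [key 1, key 0, key 2, key 3, key 4, key 5]

variable (K)

end

end Cfsg.Agent.OddHalf.D4.LineGTwoInst
end

private theorem dce_c21634b4e75c : _root_.True := by
  try have : _root_.True := by simp only [_root_.Cfsg.Agent.OddHalf.D4.LineGTwo.GU.P.congr_simp]
  exact _root_.True.intro
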